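import Mathlib
import Cfsg.Agent.Lib.Helper37.OrbGlue

set_option autoImplicit false

/-! # Kernel data for the 2025 minimal vectors `x` with `v·x = 0`, `w·x = 16` (generated) -/

namespace Cfsg.Agent.Lib.Helper37.D1634

open Cfsg Cfsg.Agent.Lib.Helper9 Cfsg.Agent.Lib.Helper10 Cfsg.Agent.Lib.Helper37

def v0E : List ℕ := [20,16,16,16,16,16,16,16,16,16,16,16,16,16,16,16,16,16,16,16,16,16,16,20]
def w0E : List ℕ := [13,17,17,17,17,17,17,17,17,17,17,17,17,17,17,17,17,17,17,17,17,17,17,17]
def x0E : List ℕ := [12,16,16,16,16,16,16,16,16,16,16,16,16,16,16,16,16,16,16,16,16,16,16,20]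
def v0L : List ℤ := [4,0,0,0,0,0,0,0,0,0,0,0,0,0,0,0,0,0,0,0,0,0,0,4]
def w0L : List ℤ := [-3,1,1,1,1,1,1,1,1,1,1,1,1,1,1,1,1,1,1,1,1,1,1,1]
def x0L : List ℤ := [-4,0,0,0,0,0,0,0,0,0,0,0,0,0,0,0,0,0,0,0,0,0,0,4]
def c2L : List ℤ := [-188,64,64,64,64,64,64,64,64,64,64,64,64,64,64,64,64,64,64,64,64,64,64,68]
def T3c : List (ℕ × ℕ × ℕ) := [(1,4,380),(2,256,128),(4,256,128),(8,256,128),(16,256,128),(32,256,128),(64,256,128),(128,256,128),(256,256,128),(512,256,128),(1024,256,128),(2048,256,128),(4096,256,128),(8192,256,128),(16384,256,128),(32768,256,128),(65536,256,128),(131072,256,128),(262144,256,128),(524288,256,128),(1048576,256,128),(2097152,256,128),(4194304,256,128),(8388608,260,124)]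
def T2c : List (ℕ × ℕ × ℕ) := [(1,8,760),(2,512,256),(4,512,256),(8,512,256),(16,512,256),(32,512,256),(64,512,256),(128,512,256),(256,512,256),(512,512,256),(1024,512,256),(2048,512,256),(4096,512,256),(8192,512,256),(16384,512,256),(32768,512,256),(65536,512,256),(131072,512,256),(262144,512,256),(524288,512,256),(1048576,512,256),(2097152,512,256),(4194304,512,256),(8388608,520,248)]
def dL : List ℤ := [-1027,1,1,1,1,1,1,1,1,1,1,1,1,1,1,1,1,1,1,1,1,1,1,1025]
def eL : List ℤ := [-65724,64,64,64,64,64,64,64,64,64,64,64,64,64,64,64,64,64,64,64,64,64,64,65604]
def T3e : List (ℕ × ℕ × ℕ) := [(1,0,131448),(2,65788,65660),(4,65788,65660),(8,65788,65660),(16,65788,65660),(32,65788,65660),(64,65788,65660),(128,65788,65660),(256,65788,65660),(512,65788,65660),(1024,65788,65660),(2048,65788,65660),(4096,65788,65660),(8192,65788,65660),(16384,65788,65660),(32768,65788,65660),(65536,65788,65660),(131072,65788,65660),(262144,65788,65660),(524288,65788,65660),(1048576,65788,65660),(2097152,65788,65660),(4194304,65788,65660),(8388608,131328,120)]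
def T2e : List (ℕ × ℕ × ℕ) := [(1,0,262896),(2,131576,131320),(4,131576,131320),(8,131576,131320),(16,131576,131320),(32,131576,131320),(64,131576,131320),(128,131576,131320),(256,131576,131320),(512,131576,131320),(1024,131576,131320),(2048,131576,131320),(4096,131576,131320),(8192,131576,131320),(16384,131576,131320),(32768,131576,131320),(65536,131576,131320),(131072,131576,131320),(262144,131576,131320),(524288,131576,131320),(1048576,131576,131320),(2097152,131576,131320),(4194304,131576,131320),(8388608,262656,240)]
def gens22 : List (List Letter) := [
  [.perm [0,12,3,9,15,11,7,17,5,6,2,13,18,22,14,20,1,10,4,8,16,19,21,23]],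
  [.perm [0,16,17,4,21,3,6,13,19,22,18,11,9,8,15,14,1,10,2,7,12,5,20,23]],
  [.perm [0,10,21,13,11,2,14,4,5,9,22,20,3,15,17,6,19,12,7,18,16,1,8,23]],
  [.perm [0,13,14,2,17,18,22,15,1,3,16,12,20,4,6,19,11,9,7,10,21,5,8,23]],
  [.perm [0,18,7,9,19,16,15,6,4,13,22,20,17,11,3,8,14,1,2,12,21,10,5,23]],
  [.perm [0,14,15,9,6,17,8,20,19,5,22,2,12,1,7,10,16,21,4,18,13,3,11,23]]]
def gensM : List (List Letter) := [
  [.perm [0,12,3,9,15,11,7,17,5,6,2,13,18,22,14,20,1,10,4,8,16,19,21,23]],
  [.perm [0,16,17,4,21,3,6,13,19,22,18,11,9,8,15,14,1,10,2,7,12,5,20,23]],
  [.perm [0,10,21,13,11,2,14,4,5,9,22,20,3,15,17,6,19,12,7,18,16,1,8,23]],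
  [.perm [0,13,14,2,17,18,22,15,1,3,16,12,20,4,6,19,11,9,7,10,21,5,8,23]],
  [.perm [0,18,7,9,19,16,15,6,4,13,22,20,17,11,3,8,14,1,2,12,21,10,5,23]],
  [.perm [0,14,15,9,6,17,8,20,19,5,22,2,12,1,7,10,16,21,4,18,13,3,11,23]],
  [.xi, .perm [7,21,6,8,9,20,3,14,12,15,22,16,2,4,13,11,18,1,10,19,0,17,23,5], .sign 3806496, .xi, .sign 11323919, .perm [8,4,1,7,18,19,17,21,22,11,16,12,2,23,3,10,13,6,15,14,0,5,20,9], .sign 12251089, .xi, .sign 16766657, .perm [7,9,13,8,12,2,3,19,21,14,20,5,22,18,0,4,11,1,10,15,6,16,23,17], .xi]]

set_option maxRecDepth 100000 in
theorem gensM_ok : gensOK [v0E, w0E] gensM = true := by decide +kernel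

set_option maxRecDepth 100000 in
theorem gens22_ok : gensOK [v0E, w0E, x0E] gens22 = true := by decide +kernel

def rootX : List ℕ := [12,16,16,16,16,16,16,16,16,16,16,16,16,16,16,16,16,16,16,16,16,16,16,20]
set_option maxRecDepth 100000 in
def progX : List (Option ℕ) := [some 6,some 0,some 0,some 0,some 0,none,some 4,none,some 5,some 3,none,some 4,none,none,none,some 1,some 4,none,none,some 2,some 0,none,some 4,some 3,none,none,some 5,none,none,some 3,some 2,none,some 3,none,none,some 5,some 3,none,some 4,some 3,none,some 4,none,none,none,none,some 1,some 0,some 3,none,none,some 1,some 0,some 1,none,none,some 2,none,some 3,none,some 5,none,none,some 3,some 0,some 2,none,none,some 2,none,some 3,none,some 4,some 4,none,none,none,some 4,some 0,none,some 4,none,some 5,none,none,some 5,some 1,none,some 2,some 0,none,none,some 4,some 4,none,none,none,none,some 2,some 0,some 2,none,some 4,none,none,some 1,some 0,none,some 2,some 5,none,none,some 4,none,none,some 2,some 0,none,some 2,none,some 3,some 2,none,none,some 4,none,some 5,none,none,some 4,some 0,none,some 3,some 2,none,none,some 5,some 1,none,none,none,none,some 3,some 1,some 0,none,some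 1,some 1,none,none,some 2,none,some 4,some 4,none,none,none,some 2,some 1,none,some 2,none,some 3,none,some 4,none,none,some 3,some 1,some 5,none,none,some 2,none,some 3,none,some 4,none,some 5,none,none,some 4,some 0,none,some 1,some 0,none,none,some 3,none,some 4,none,some 5,none,none,some 5,some 2,none,some 3,none,none,none,some 4,some 0,some 1,none,some 2,none,some 3,none,some 5,none,none,some 1,some 3,none,none,some 2,some 0,none,some 1,none,some 3,none,none,some 3,some 1,none,some 4,none,some 5,none,none,some 4,some 2,none,some 3,none,some 4,none,some 5,none,none,some 5,some 1,none,some 2,none,some 3,none,some 5,none,none,none,some 5,some 0,some 0,none,some 1,none,some 2,none,some 4,none,some 5,none,none,some 1,some 0,none,some 2,none,some 4,none,none,some 2,some 0,none,some 1,none,some 2,none,some 3,none,some 4,none,none,some 3,some 0,none,some 2,none,some 3,none,some 4,none,none,some 4,some 2,none,some 3,none,some 4,none,some 5,none,none,none,some 6,some 0,some 0,some 0,some 0,none,some 4,none,none,some 1,some 0,none,some 2,none,some 3,none,none,some 2,some 1,none,some 2,none,some 3,none,some 4,none,none,some 3,none,some 4,some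 1,none,some 3,none,some 5,none,none,some 5,some 3,none,some 4,none,some 5,none,none,none,some 1,some 0,some 0,none,some 4,none,none,some 1,some 1,none,some 2,none,none,some 2,some 2,none,some 5,none,none,some 5,some 0,none,some 2,none,some 3,none,some 5,none,none,none,some 2,some 0,some 0,none,some 1,none,none,some 1,some 0,none,none,some 2,some 2,none,some 4,none,none,some 3,some 4,none,some 5,none,none,some 5,some 1,none,none,none,some 3,some 0,some 1,none,some 3,none,some 5,none,none,some 1,some 2,none,some 3,none,some 4,none,none,some 2,some 0,none,none,some 3,some 4,none,some 5,none,none,some 4,some 2,none,some 3,none,some 4,none,none,some 5,some 0,none,some 4,none,none,none,some 4,some 0,some 0,none,some 1,none,some 2,none,none,some 1,some 0,none,some 3,none,some 4,none,none,some 2,some 4,none,some 5,none,none,some 3,some 0,none,some 1,none,some 3,none,some 4,none,none,some 4,some 3,none,some 5,none,none,some 5,some 0,none,none,none,some 5,some 1,some 2,none,some 4,none,none,some 2,some 0,none,some 2,none,some 3,none,none,some 3,some 2,none,none,some 4,some 3,none,some 4,none,none,none,none,some 1,some 0,some 0,some 0,none,some 1,none,some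 2,none,none,some 1,some 1,none,some 4,none,none,some 2,some 0,none,some 1,none,some 2,none,none,some 3,some 2,none,some 3,none,none,some 5,some 1,none,some 3,none,some 5,none,none,none,some 1,some 1,some 2,none,none,some 2,some 3,none,some 4,none,none,some 3,some 3,none,none,some 4,none,none,some 2,some 0,some 1,none,some 3,none,none,some 1,some 4,none,none,some 2,some 1,none,some 4,none,some 5,none,none,some 3,some 1,none,none,some 4,some 2,none,some 3,none,some 5,none,none,none,some 3,some 1,some 3,none,none,some 2,none,some 3,some 0,none,some 1,none,some 4,none,none,some 5,some 1,none,none,none,some 4,some 0,none,some 2,none,some 3,some 2,none,some 5,none,none,some 4,some 0,none,some 4,none,some 5,none,none,some 5,none,none,some 5,some 0,none,some 2,some 1,none,none,some 3,some 3,none,none,some 4,some 2,none,some 3,none,none,some 5,none,none,none,some 2,some 0,some 0,some 2,none,none,some 1,some 1,none,none,some 2,some 1,none,none,some 3,some 1,none,none,some 4,some 5,none,none,some 5,none,none,some 2,some 0,none,some 1,some 4,none,none,some 2,none,some 3,some 2,none,some 5,none,none,none,some 3,some 0,none,some 1,none,some 2,some 4,none,none,some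 3,some 2,none,none,some 4,none,some 5,some 1,none,none,none,some 4,some 0,some 4,none,none,some 1,some 0,none,none,some 2,none,some 3,none,some 4,some 1,none,none,some 5,some 5,none,none,none,some 5,some 0,none,some 1,some 3,none,none,some 2,none,some 4,none,some 5,some 4,none,none,none,none,some 3,some 0,some 0,none,some 1,none,some 3,none,some 4,none,some 5,none,none,some 1,some 3,none,some 4,none,some 5,some 4,none,none,none,some 2,some 1,none,some 2,none,some 4,none,some 5,none,none,some 3,some 0,some 0,none,none,some 1,none,some 5,none,none,some 4,some 1,none,some 2,none,some 4,some 3,none,none,some 5,none,none,some 5,some 0,none,some 1,none,some 2,none,some 4,none,some 5,none,none,none,some 4,some 0,some 1,some 4,none,none,some 3,none,some 4,none,some 5,none,none,some 1,some 0,none,some 3,some 5,none,none,some 4,none,none,some 2,some 1,none,some 3,none,some 4,none,none,some 3,some 1,none,some 3,none,some 4,none,none,some 4,some 0,none,some 1,none,some 3,some 5,none,none,some 5,some 0,none,none,none,some 5,some 0,none,some 1,some 0,none,some 4,none,none,some 2,none,some 3,none,some 4,none,some 5,none,none,none,some 5,some 0,some 0,some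 1,none,none,some 1,none,none,some 1,some 2,none,some 4,none,some 5,none,none,some 2,some 2,none,some 4,none,none,some 3,some 3,none,some 4,none,none,some 4,some 0,none,some 2,none,some 3,none,some 5,none,none,some 5,some 1,some 3,none,none,some 4,none,some 5,none,none,none,none,none,some 1,some 0,some 0,some 5,none,none,some 1,some 0,none,some 3,none,some 5,none,none,some 2,some 2,none,none,some 3,some 0,none,some 1,none,some 2,none,some 3,none,none,some 4,some 0,none,some 1,none,some 2,none,some 5,none,none,some 5,some 2,none,none,none,some 1,some 1,some 2,none,none,some 3,some 3,none,some 4,none,some 5,none,none,some 4,some 0,none,some 2,none,some 3,none,some 4,none,some 5,none,none,some 5,some 5,none,none,none,some 2,some 0,some 3,none,some 5,none,none,some 2,none,some 4,some 3,none,some 4,none,none,some 5,some 0,none,some 4,none,none,none,some 3,some 0,some 0,none,some 2,none,some 4,none,none,some 2,some 0,none,some 1,none,none,some 3,some 0,none,some 2,none,none,some 4,some 1,none,some 5,none,none,some 5,some 1,none,some 3,none,some 4,none,some 5,none,none,none,some 4,some 0,some 0,none,some 2,none,some 4,none,some 5,none,none,some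 1,none,some 2,some 0,none,some 1,none,some 3,none,none,some 3,some 2,none,some 5,none,none,some 4,some 0,none,some 3,none,none,none,some 5,some 0,some 1,none,some 2,none,some 5,none,none,some 1,none,some 2,some 0,none,none,some 3,some 4,none,none,some 4,some 3,none,none,none,some 6,some 0,some 0,some 0,some 0,some 0,none,some 5,none,none,some 2,some 2,none,some 5,some 3,none,none,none,some 3,some 2,none,some 5,none,none,some 5,some 2,none,some 4,none,some 5,none,none,none,some 1,some 0,some 3,none,none,some 1,some 0,none,some 1,none,some 2,none,some 3,none,none,some 2,some 0,none,some 5,none,none,some 3,some 2,none,some 3,none,none,some 4,some 2,none,none,none,some 2,some 0,some 3,none,none,some 1,some 1,none,none,some 2,some 0,none,some 4,none,none,some 3,some 0,none,some 2,none,some 4,none,some 5,none,none,none,some 3,some 0,some 1,none,some 2,none,none,some 2,some 1,none,some 3,none,none,some 3,some 0,none,some 2,none,none,some 5,some 1,none,some 2,none,some 4,none,none,none,some 4,some 0,none,some 1,some 1,none,some 2,none,some 3,none,none,some 2,some 0,none,some 1,none,some 2,none,some 4,none,some 5,none,none,some 3,some 0,none,some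 3,none,none,some 5,some 1,none,some 2,none,none,none,some 5,some 0,some 0,none,some 1,none,some 2,none,none,some 1,some 1,none,some 5,none,none,some 2,some 0,none,some 3,none,some 4,none,some 5,none,none,some 3,some 0,none,some 1,none,some 3,none,some 5,none,none,some 4,some 1,none,some 2,none,none,some 5,none,none,none,some 1,some 0,some 0,some 0,none,some 1,none,none,some 2,some 1,none,some 2,none,some 3,none,none,some 3,some 1,none,some 3,none,none,some 4,some 3,none,none,some 5,some 1,none,some 2,none,none,none,some 1,some 1,some 3,none,some 5,none,none,some 2,some 4,none,none,some 3,some 0,none,some 3,none,some 4,none,none,none,some 2,some 0,some 0,none,none,some 1,some 0,none,some 1,none,some 3,none,some 5,none,none,some 2,some 2,some 4,none,none,some 3,none,some 4,none,some 5,none,none,some 3,some 1,none,some 2,none,some 5,none,none,some 5,some 1,none,some 2,none,some 4,none,none,none,some 3,some 0,some 0,none,some 4,none,none,some 1,some 4,none,none,some 2,some 0,none,some 2,none,some 3,none,none,some 4,some 2,none,some 5,none,none,some 5,some 3,none,none,none,some 4,some 0,some 1,none,some 2,none,none,some 1,some 2,none,some 4,none,none,some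 2,some 3,none,some 5,none,none,some 3,some 1,none,some 2,none,some 4,none,none,some 4,some 3,none,some 4,none,none,some 5,some 1,none,some 5,none,none,none,some 5,some 0,none,some 1,some 1,none,some 3,none,none,some 2,some 5,none,none,some 3,some 1,none,some 4,none,none,some 4,some 3,none,none,some 5,some 0,none,none,none,none,some 2,some 0,some 0,some 0,none,some 4,none,none,some 2,some 5,none,none,some 3,some 0,none,some 3,none,none,some 4,some 1,none,some 2,none,none,some 5,some 3,none,none,none,some 1,some 1,some 1,none,none,some 2,some 1,none,some 3,none,some 5,none,none,some 3,some 0,none,some 1,none,some 5,none,none,some 4,some 2,none,none,some 5,some 5,none,none,none,some 2,some 0,some 4,none,none,some 2,some 1,none,some 5,none,none,some 3,some 3,none,some 4,none,none,some 5,some 0,none,some 5,none,none,none,some 3,some 0,some 5,none,none,some 1,some 3,none,none,some 2,some 3,none,none,some 3,some 0,none,some 1,none,none,some 5,none,none,some 4,some 1,some 0,none,some 1,none,some 5,none,none,some 2,some 2,none,some 4,none,none,some 3,some 4,none,none,none,some 5,some 0,some 1,none,some 2,none,some 4,none,none,some 1,some 1,none,some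 5,none,none,some 2,none,some 3,some 2,none,none,some 4,some 1,none,some 3,none,some 5,none,none,some 5,some 4,none,none,none,none,some 3,some 0,some 0,some 0,none,some 1,none,some 2,none,some 3,none,none,some 1,some 2,none,some 5,none,none,some 3,some 0,none,none,some 4,none,none,some 1,some 0,some 0,none,some 1,none,some 5,none,none,some 4,some 1,none,none,none,some 2,some 1,none,some 2,some 2,none,some 3,none,some 4,none,some 5,none,none,some 4,none,some 5,some 2,none,some 3,none,some 4,none,none,none,some 3,some 1,some 1,none,none,some 2,some 0,none,some 4,none,none,some 4,none,some 5,some 5,none,none,none,some 4,some 0,some 2,none,some 4,none,some 5,none,none,some 2,none,some 3,none,some 4,some 0,none,some 4,none,none,some 5,some 1,none,some 2,none,some 3,none,some 4,none,some 5,none,none,none,some 5,some 2,some 0,none,some 2,none,none,some 3,none,some 4,some 1,none,some 4,none,none,some 5,some 0,none,some 2,none,some 4,none,none,none,none,some 4,some 0,some 0,some 3,none,some 4,none,none,some 1,none,some 2,none,some 3,none,some 5,some 1,none,some 2,none,some 5,none,none,none,some 1,some 0,some 0,none,some 1,none,none,some 2,some 1,none,some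 3,none,some 4,none,none,some 3,some 4,none,none,some 4,some 4,none,none,some 5,some 2,none,some 3,none,some 5,none,none,none,some 2,some 0,some 4,none,none,some 1,some 0,none,some 2,none,some 4,none,none,some 2,some 3,none,none,some 3,some 4,none,none,some 4,some 5,none,none,none,some 3,some 1,some 3,none,some 5,none,none,some 2,some 2,none,some 5,none,none,some 3,some 3,none,none,some 4,some 4,none,none,none,some 4,some 0,some 4,none,none,some 1,some 0,none,some 4,none,none,none,some 5,some 0,some 0,none,none,some 1,some 2,none,none,some 3,some 3,none,some 4,none,none,some 4,some 2,none,none,some 5,some 3,none,none,none,none,some 5,some 0,some 0,none,some 1,some 1,none,none,some 2,some 0,none,some 4,none,some 5,none,none,some 3,some 5,none,none,some 4,some 2,none,some 3,none,some 4,none,none,some 5,some 3,none,some 5,none,none,none,some 1,some 0,some 0,none,some 1,none,some 5,none,none,some 1,some 5,none,none,some 2,some 4,none,none,some 4,none,some 5,some 2,none,none,none,some 2,some 0,none,some 2,some 0,none,some 1,none,none,some 3,some 1,none,none,some 4,some 2,none,some 3,none,none,some 5,some 0,none,none,none,some 3,some 0,some 1,none,none,some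 1,none,some 2,some 0,none,some 4,none,none,some 3,some 5,none,none,none,some 4,some 0,some 3,none,none,some 1,some 3,none,none,some 2,some 2,none,none,some 3,some 0,none,none,none,some 5,some 0,some 4,none,some 5,none,none,some 1,some 3,none,none,some 4,some 2,none,some 5,none,none,none,none,none,some 2,some 0,some 0,some 0,some 0,none,some 1,none,none,some 1,none,some 2,none,some 3,some 1,none,some 2,none,none,some 5,none,none,some 1,some 0,none,some 1,some 2,none,some 4,none,none,some 3,none,some 4,some 4,none,none,some 5,some 4,none,some 5,none,none,none,some 2,some 0,some 5,none,none,some 1,some 3,none,none,some 2,some 3,none,none,some 3,none,some 5,some 1,none,none,none,some 3,some 0,some 0,none,none,some 1,some 0,none,some 4,none,none,some 2,none,some 3,some 0,none,none,some 5,some 4,none,none,none,some 4,some 1,some 5,none,none,some 2,some 2,none,some 3,none,none,some 3,some 2,none,none,some 4,some 5,none,none,some 5,some 3,none,none,none,some 5,some 0,some 1,none,none,some 1,some 1,none,none,some 2,none,some 3,some 4,none,none,some 5,some 0,none,some 3,none,none,none,none,some 1,some 0,some 0,none,some 2,some 2,none,some 4,none,none,some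 3,some 5,none,none,some 4,some 3,none,none,none,some 1,some 0,some 0,none,some 2,none,none,some 1,some 5,none,none,some 2,some 3,none,none,some 5,none,none,some 2,some 0,some 2,none,some 3,none,none,some 1,some 0,none,none,some 2,some 0,none,none,some 3,some 2,none,none,some 4,none,some 5,none,none,some 3,some 2,none,some 3,some 3,none,some 4,none,none,some 4,some 0,none,none,some 5,none,none,some 4,some 0,some 1,none,none,some 3,some 1,none,some 3,none,none,none,some 5,some 0,none,some 2,some 3,none,some 4,none,none,some 4,some 0,none,none,some 5,some 0,none,some 5,none,none,none,none,some 2,some 0,some 0,none,some 1,none,some 2,some 5,none,none,some 3,some 2,none,none,some 4,some 1,none,some 3,none,none,none,some 1,some 3,none,some 4,some 0,none,none,none,some 2,some 0,some 0,none,some 2,none,some 4,none,none,some 3,none,some 5,none,none,some 3,some 0,none,some 1,some 2,none,some 5,none,none,some 2,some 0,none,none,some 4,none,none,some 5,some 0,some 2,none,none,some 2,some 4,none,none,none,none,some 3,some 0,some 0,none,some 1,some 4,none,none,some 2,some 2,none,some 4,none,none,some 4,some 4,none,none,some 5,some 4,none,none,none,some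 1,some 0,some 2,none,none,some 2,some 0,none,none,some 3,some 1,none,none,some 4,some 4,none,none,some 5,some 2,none,none,none,some 2,some 3,some 2,none,some 4,none,none,some 4,none,some 5,none,none,some 3,some 1,none,some 2,some 2,none,none,some 3,some 0,none,none,some 5,some 5,none,none,none,some 4,some 0,none,some 4,some 5,none,none,none,some 5,some 1,none,some 2,none,some 3,none,some 4,some 4,none,none,some 5,none,none,none,some 4,some 0,some 2,none,some 3,none,some 5,none,none,some 1,some 0,some 5,none,none,some 1,none,some 3,some 0,none,none,some 4,some 1,none,none,none,some 2,some 0,none,some 2,none,some 5,none,none,some 3,some 0,none,some 1,some 0,none,some 3,none,none,some 3,some 3,none,none,some 4,some 3,none,none,some 5,none,none,some 4,some 0,none,some 1,none,some 3,some 0,none,none,some 5,none,none,some 5,some 0,none,some 2,some 0,none,none,some 3,some 0,none,none,some 4,none,some 5,some 0,none,some 4,none,none,none,none,some 5,some 0,some 4,none,some 5,none,none,some 1,some 0,some 0,none,some 1,none,none,some 1,some 3,none,none,some 3,none,some 4,none,some 5,none,none,some 3,some 0,none,some 2,some 5,none,none,some 3,none,some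 4,none,some 5,none,none,some 4,some 1,some 0,none,none,some 2,none,some 3,none,some 4,none,some 5,some 1,none,some 2,none,none,none,some 5,some 0,none,some 2,none,some 3,none,some 4,none,some 5,none,none,none,none,some 3,some 0,some 0,some 0,none,some 1,none,some 2,none,some 4,none,some 5,none,none,some 1,some 1,none,some 2,some 0,none,none,some 3,some 1,none,none,some 4,some 1,none,none,some 5,some 0,none,none,none,some 2,some 3,some 5,none,none,none,some 3,some 1,none,some 2,none,some 3,none,some 5,none,none,some 4,some 0,none,some 1,some 2,none,none,some 2,some 1,none,none,none,some 5,some 1,some 5,none,none,some 3,none,some 5,some 1,none,none,none,none,some 1,some 0,some 3,some 3,none,none,some 4,none,some 5,some 0,none,some 4,none,none,none,some 2,some 0,none,some 1,none,some 2,some 1,none,none,some 4,none,some 5,none,none,some 3,some 1,some 3,none,none,some 2,none,some 3,some 3,none,none,some 4,none,none,some 4,some 0,some 2,none,none,some 2,none,some 3,none,some 5,none,none,some 5,some 0,some 0,none,none,some 4,none,some 5,some 1,none,none,none,none,some 2,some 0,some 0,none,some 1,none,some 2,none,some 3,none,none,some 1,some 0,none,some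 1,none,some 3,none,some 4,some 0,none,none,some 5,none,none,some 2,some 0,none,some 2,none,some 3,some 2,none,none,none,some 3,some 0,none,some 1,none,some 2,none,some 3,some 4,none,none,some 4,none,none,some 4,some 0,none,some 1,none,some 2,some 1,none,none,some 3,none,some 4,none,none,some 5,some 1,none,some 2,none,some 3,none,some 4,none,some 5,none,none,none,some 3,some 0,some 0,none,some 1,none,some 2,none,some 5,none,none,some 1,some 0,none,some 1,none,some 5,some 1,none,none,none,some 2,some 1,some 0,none,none,some 2,none,some 3,none,some 4,none,some 5,none,none,some 4,some 0,none,some 1,none,some 3,none,none,some 5,some 0,none,some 4,none,some 5,none,none,none,some 4,some 0,some 1,none,some 2,none,some 4,none,none,some 1,some 0,none,some 2,some 5,none,none,some 3,some 3,none,none,some 5,none,none,some 2,some 1,none,some 3,some 0,none,none,some 4,some 1,none,none,some 5,none,none,some 3,some 0,none,some 2,none,some 4,none,none,some 4,some 0,none,some 3,some 0,none,none,none,some 5,some 0,none,some 1,none,some 3,none,some 5,none,none,none,some 5,some 0,some 0,none,some 1,none,some 2,none,some 5,none,none,some 1,some 0,none,some 2,none,some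 3,none,some 4,none,some 5,none,none,some 2,some 0,none,some 3,none,none,some 3,some 1,some 3,none,some 5,none,none,some 2,none,some 3,none,some 4,some 3,none,none,none,some 4,some 0,some 2,none,none,some 1,none,some 3,none,some 4,some 3,none,none,none,some 5,some 0,none,some 2,some 2,none,none,some 4,none,none,none,none,some 4,some 0,some 0,some 0,none,some 1,none,some 3,none,some 4,none,some 5,none,none,some 1,some 0,none,some 1,none,some 2,none,some 4,none,some 5,none,none,some 2,some 1,none,some 2,none,some 3,some 3,none,none,none,some 3,some 4,none,none,some 4,some 1,none,some 3,none,some 4,none,some 5,none,none,some 5,some 1,none,some 2,none,some 3,none,none,none,some 1,some 0,some 1,none,some 2,some 0,none,some 5,none,none,some 3,none,some 4,none,some 5,none,none,some 1,some 1,none,some 2,none,some 3,none,some 5,none,none,some 2,some 1,none,some 2,none,some 3,none,some 5,none,none,some 3,some 0,none,some 1,none,some 2,none,some 5,none,none,some 4,some 2,none,some 3,none,none,some 5,some 0,none,some 4,none,some 5,none,none,none,some 2,some 1,some 3,none,none,some 2,some 0,none,some 5,none,none,some 4,some 0,none,some 1,none,some 2,none,some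 5,none,none,some 5,some 0,none,some 1,some 2,none,none,some 3,none,some 4,none,some 5,none,none,none,some 3,some 0,some 0,none,some 1,none,some 2,none,some 4,none,some 5,some 4,none,none,none,some 1,some 0,some 5,none,none,some 2,none,some 4,none,none,some 3,some 2,none,some 3,none,none,some 4,some 2,none,some 4,none,none,some 5,some 1,none,some 2,none,some 4,none,none,none,some 5,some 0,some 1,none,some 2,none,some 3,none,some 4,some 5,none,none,none,some 1,some 2,none,some 3,none,some 5,none,none,some 2,some 0,none,some 2,none,some 4,none,some 5,none,none,some 3,some 0,none,some 2,none,some 4,some 2,none,none,none,some 4,some 0,none,some 3,none,some 4,none,some 5,none,none,some 5,some 0,none,some 1,none,some 4,none,some 5,none,none,none,none,some 5,some 0,some 0,some 0,none,some 1,some 2,none,none,some 2,none,some 3,none,some 4,none,some 5,none,none,some 1,some 4,some 5,none,none,none,some 2,some 0,none,some 2,none,some 4,none,some 5,none,none,some 3,some 0,none,some 1,none,some 2,none,some 4,none,none,some 4,some 3,none,some 4,none,none,some 5,some 3,none,none,none,some 1,some 0,some 0,none,some 2,none,some 4,none,some 5,none,none,some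 1,some 2,none,some 5,none,none,some 2,none,some 3,some 0,none,some 1,none,some 4,none,some 5,none,none,some 5,some 0,none,some 1,none,some 3,none,some 5,none,none,none,some 2,some 0,none,some 1,some 0,some 3,none,some 4,none,none,some 2,none,some 4,none,none,some 2,some 1,none,some 4,none,none,some 3,some 0,none,some 1,none,some 4,none,none,some 4,some 0,none,some 1,none,some 5,some 4,none,none,none,some 5,some 5,none,none,none,some 3,some 0,some 0,some 1,none,none,some 3,none,none,some 1,none,some 2,some 1,none,none,some 4,some 2,none,none,some 5,some 1,none,some 3,none,some 4,some 0,none,none,some 5,none,none,none,some 4,some 0,some 4,none,some 5,none,none,some 1,some 3,none,some 4,none,some 5,none,none,some 2,some 4,none,some 5,none,none,some 3,none,some 4,some 0,none,some 1,none,some 2,none,some 4,none,none,some 5,some 2,none,some 3,none,some 4,none,none,none,some 5,some 1,some 0,none,some 3,none,some 4,none,none,some 2,some 2,none,some 3,none,none,some 3,some 1,none,some 3,none,none,some 4,some 0,none,some 4,none,some 5,none,none,some 5,some 0,none,some 1,none,some 5,none,none,none,none,none,none,some 2,some 0,some 0,some 1,none,some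 2,none,some 3,none,some 5,none,none,some 1,some 3,none,none,some 2,some 4,none,some 5,none,none,some 3,some 1,none,none,some 4,some 5,none,none,some 5,some 5,none,none,none,some 1,some 0,some 1,none,some 5,none,none,some 1,some 1,none,some 2,none,some 3,none,some 5,none,none,some 2,some 0,none,some 3,none,none,some 3,some 3,none,none,some 4,some 4,none,none,some 5,some 3,none,some 4,none,some 5,none,none,none,some 2,some 0,some 1,none,some 4,none,none,some 1,some 1,none,none,some 3,none,some 4,some 2,none,none,some 5,none,none,some 3,some 1,none,some 2,some 4,none,none,some 3,some 1,none,some 2,none,none,some 4,some 5,none,none,some 5,some 0,none,some 3,none,none,none,some 4,some 1,some 5,none,none,some 2,some 2,none,some 3,none,some 4,none,none,some 3,none,some 4,some 2,none,none,some 5,some 2,none,none,none,some 5,some 0,some 3,none,some 5,none,none,some 1,some 1,none,none,some 3,some 2,none,none,some 4,some 0,none,some 4,none,none,some 5,some 3,none,none,none,none,some 3,some 0,some 1,some 3,none,some 4,none,some 5,none,none,some 2,some 0,none,some 3,none,none,some 4,none,some 5,some 0,none,none,none,some 1,some 0,some 1,none,some 4,none,some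 5,none,none,some 2,none,some 4,none,some 5,some 3,none,none,none,some 2,some 1,some 0,none,some 3,none,some 4,none,none,some 2,some 4,none,some 5,none,none,some 5,none,none,some 3,some 0,none,some 3,some 4,none,none,some 4,none,some 5,none,none,some 4,some 0,some 4,none,none,some 1,none,some 2,some 5,none,none,some 3,some 0,none,none,some 4,some 4,none,none,none,none,some 4,some 0,some 0,some 2,none,none,some 3,some 3,none,none,some 4,none,some 5,none,none,some 1,some 0,some 1,none,some 4,none,none,some 1,none,some 2,some 0,none,none,some 5,none,none,some 2,some 0,some 0,none,some 3,none,none,some 2,none,some 3,some 0,none,none,some 4,none,none,some 3,some 2,none,some 3,none,some 4,some 0,none,some 1,none,none,some 5,some 1,none,none,none,some 4,some 1,none,some 3,some 5,none,none,some 5,some 2,none,none,none,some 5,some 1,none,some 2,some 3,none,none,some 4,none,some 5,none,none,none,some 5,some 0,some 2,none,some 3,none,some 4,some 2,none,some 3,none,none,none,some 1,some 0,none,some 5,none,none,some 2,some 0,some 4,none,none,some 3,some 1,none,none,some 4,none,none,some 3,some 0,some 3,none,none,some 1,none,some 3,some 4,none,none,some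 4,none,some 5,none,none,some 4,some 0,none,some 1,none,some 2,none,some 5,none,none,some 5,some 0,some 1,none,none,some 1,none,some 2,some 1,none,none,some 5,none,none,none,none]
set_option maxRecDepth 100000 in
def posX : List ℕ := [1574,1830,1799,1568,1679,1761,1648,1705,1760,1672,1606,1737,1595,1758,1542,1765,1856,1834,1576,1596,1757,1691,1567,1734,1783,1715,1759,1641,1763,1850,1599,1778,1670,1688,1789,1628,1577,1868,1649,1696,1708,1791,1613,1802,1639,1833,1699,1849,1719,1781,1663,1631,1598,1817,1714,1806,1554,1668,1798,1730,1589,1579,1680,1640,1600,1867,1660,1569,1736,1659,1573,1728,1775,1690,1594,1539,1829,1547,1586,1767,1621,1585,1782,1566,1771,1821,1825,1822,1689,1673,1564,1614,1634,1841,1766,1698,1560,1721,1655,1657,1632,1861,1544,1597,1862,1622,1697,1739,1701,1612,1777,1790,1687,1584,1860,1723,1592,1722,1762,1669,1654,1694,1756,1824,1788,1751,1676,1565,1651,1852,1558,1616,1810,1859,1626,1720,1617,1785,1578,1713,1748,1551,1866,1848,1750,1623,1800,1741,1724,1710,1650,1562,1575,1682,1645,1729,1695,1643,1863,1774,1811,1662,1636,1638,1796,1552,1635,1772,1582,1664,1618,1667,1678,1644,1746,1755,1656,1704,1590,1702,1733,1815,1855,1816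,1742,1540,1732,1711,1726,1847,1550,1610,1591,1864,1804,1559,1707,1857,1605,1625,1753,1602,1813,1572,1607,1828,1844,1805,1807,1671,1661,1838,1548,1557,1743,1786,1716,1652,1835,1611,1686,1735,1809,1770,1779,1820,1580,1768,1837,1633,1717,1583,1839,1780,1818,1795,1629,1593,1658,1684,1619,1832,1615,1561,1776,1646,1677,1683,1865,1769,1685,1797,1541,1718,1773,1563,1545,1681,1630,1749,1665,1642,1803,1801,1853,1675,1647,1549,1745,1744,1609,1792,1764,1604,1752,1727,1570,1725,1845,1624,1553,1846,1627,1851,1826,1808,1709,1620,1666,1854,1814,1731,1747,1819,1571,1588,1706,1703,1787,1555,1858,1603,1546,1653,1692,1793,1674,1831,1581,1637,1794,1700,1842,1608,1738,1843,1543,1587,1740,1836,1556,1712,1827,1601,1840,1812,1754,1693,1823,1784,1208,901,403,706,365,604,683,691,585,1135,877,575,744,340,1178,738,341,1029,362,357,1173,735,457,407,994,732,863,1176,1440,539,1182,613,1137,1231,1257,924,761,295,723,993,968,429,1188,599,475,555,444,849,1045,370,581,580,252,1002,288,1249,472,862,686,1060,487,1167,1129,1154,344,398,1142,1040,1389,975,895,348,821,411,944,891,645,1333,913,958,676,959,591,627,1126,1205,941,610,896,912,1068,1297,1334,945,611,943,480,303,106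6,505,368,1373,520,774,822,787,861,576,1317,1181,1354,1381,885,748,276,682,1054,647,728,855,1419,765,474,900,273,722,824,760,1361,793,1436,617,639,595,311,446,899,214,1123,1080,234,794,593,551,395,1185,1246,1064,548,1020,337,1367,1400,780,998,361,789,856,233,1325,736,868,1112,663,521,1033,589,275,665,598,1082,729,966,248,353,778,1086,1056,802,493,449,1184,1119,271,1309,917,926,800,1010,1024,291,1423,1003,308,574,1259,1084,831,230,495,955,333,1150,1387,672,860,773,655,988,1256,1053,1099,1392,799,853,1267,1270,675,685,1329,558,343,1374,1379,1370,251,1347,565,882,1113,596,1321,260,1435,461,961,1401,268,1140,499,820,1409,835,709,566,1098,1292,1248,515,1127,624,512,628,1139,668,1394,584,212,978,435,1439,567,552,1237,823,1038,622,661,384,266,1328,697,287,762,982,402,416,1431,714,1069,519,417,1382,1199,309,1008,1136,807,1403,1314,747,845,814,703,876,451,544,1089,583,681,1104,383,1156,767,573,1183,1115,684,496,1338,1063,642,826,808,502,283,909,243,332,848,1090,1295,812,785,1165,1014,935,285,378,643,890,1120,514,547,1429,219,1371,253,1426,707,586,605,1301,1191,582,1075,1268,1432,1322,414,236,751,902,1357,1206,815,1105,1027,836,1216,916,633,334,4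36,259,459,1395,1043,623,996,625,928,578,590,1018,522,312,1070,904,1377,701,1375,1022,1428,1152,608,609,321,1388,227,277,710,687,1091,987,371,857,1125,733,1197,443,1298,1189,600,965,1265,1349,516,745,296,878,1407,1044,1049,1368,425,947,358,376,1016,930,667,1441,540,644,1335,412,1215,363,462,1384,532,1030,359,689,646,1225,560,769,615,556,607,244,453,1244,513,1128,327,936,1192,1078,1071,1107,1219,1390,662,278,869,301,355,418,784,875,1100,879,957,1039,737,1339,481,1207,264,949,1116,718,1047,1011,1332,501,693,1427,832,235,960,594,1376,317,554,1062,1372,503,1366,1032,506,801,374,1355,1048,1318,1151,579,1081,602,313,746,788,649,612,269,1378,1168,1203,976,1159,1310,456,1424,1433,1092,1430,231,656,829,1399,482,507,1235,448,391,1307,1331,727,755,715,854,979,1118,1157,1233,967,923,638,1302,369,810,1437,1342,1234,381,925,629,1193,1124,775,572,618,224,695,786,698,1012,286,948,929,834,934,524,897,950,508,1345,284,1280,803,490,256,1130,1019,914,1093,657,989,951,635,211,240,889,372,568,1406,1186,410,630,1009,254,1166,1037,257,626,454,694,962,299,833,1311,1204,837,796,779,677,356,739,1172,886,985,809,342,1117,1352,577,1021,708,864,533,409,1133,1214,825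,670,640,437,851,1146,614,261,1213,440,1179,1296,1359,465,1242,1286,468,1096,846,366,222,726,1148,559,445,872,1380,991,867,907,1052,970,771,1067,654,859,1337,477,974,819,569,1353,1005,350,1316,1077,664,783,530,920,918,430,816,1094,281,1402,319,274,817,1106,919,921,538,232,1223,1162,422,270,741,1097,1291,1414,1250,424,1224,336,742,1260,215,307,954,995,329,597,1121,1281,349,999,1170,476,632,1143,874,781,766,827,986,1163,1110,1147,338,1132,828,570,852,408,759,720,1315,406,1247,553,328,323,659,397,249,730,571,1051,1245,258,542,1266,1023,441,702,636,634,652,463,1305,1228,981,911,1210,1085,1340,1303,1194,377,1360,1327,1196,679,223,1059,983,415,1304,972,1198,318,619,382,1393,1236,1253,1283,734,977,858,592,724,1177,364,1294,850,1287,450,704,1365,1058,1088,473,245,606,648,489,525,1299,791,883,228,712,1232,587,1442,1138,1273,1319,811,1284,690,1288,1238,1211,504,651,1438,265,442,419,1220,527,517,246,1369,1278,680,545,561,1408,937,1041,1158,455,509,262,217,1026,1252,1000,804,1046,479,335,1153,1239,304,1013,452,250,678,531,990,1264,1144,354,588,380,1161,1241,1308,467,719,740,743,956,279,1262,1306,483,393,498,536,379,221,315,1412,1180,392,830,488,893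,1312,938,1057,1122,1169,367,971,1025,764,768,267,1015,1175,306,881,413,352,660,247,1160,1383,873,1300,1258,1313,601,562,1190,541,931,1346,1261,1079,653,731,360,346,842,400,289,992,386,216,1201,297,797,711,749,631,818,1351,692,870,1358,1222,777,952,922,887,696,1434,326,984,906,470,272,1109,792,973,1418,658,1200,1343,389,218,754,518,1416,460,1385,320,305,932,621,434,713,1386,458,884,753,666,421,1087,752,790,1050,1274,1263,426,469,1243,669,1398,865,1149,543,1397,351,1095,1006,1171,699,915,237,940,813,241,1061,1282,671,756,1271,843,294,717,300,1195,1251,1290,1391,1221,1034,1065,942,494,795,898,1212,1275,1141,564,1320,1341,674,757,1042,388,302,750,798,298,1269,980,1326,637,725,331,1209,871,478,466,1131,969,1240,471,910,888,903,420,238,557,880,282,1155,401,339,838,431,324,933,866,330,528,464,650,1145,603,1285,390,616,716,1356,280,953,927,229,563,894,226,385,439,405,721,1217,1004,844,770,763,447,310,1415,1277,758,1055,1108,347,432,387,700,1350,345,486,290,839,497,840,1405,1411,1229,1031,1255,423,535,1073,1164,433,1227,620,1028,782,1324,500,1417,1111,1413,293,529,1036,1364,511,1421,373,322,688,550,705,316,1230,964,325,1363,1336,1276,946,404,80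6,1001,1102,213,1074,1134,1174,375,263,1187,220,438,1114,492,396,399,225,1202,841,1410,292,485,1330,1293,526,427,997,314,1362,1226,963,523,1323,939,1396,242,534,1076,491,805,255,776,1279,1035,428,1344,1404,847,510,394,549,673,908,546,892,1103,1101,537,1272,239,1420,1083,641,905,1425,1072,1254,772,1289,1007,484,1348,1017,1422,1218,1493,1974,117,66,116,1889,39,2000,130,173,1943,136,1981,12,1516,1467,1972,77,110,1938,106,132,1876,1487,1899,1505,92,181,134,111,78,123,10,84,1985,1897,1973,1984,62,2020,1538,1475,2012,75,94,73,1957,1459,59,1952,203,199,1902,79,2005,142,1506,1919,43,1959,198,201,2016,48,1485,1921,72,1508,190,1488,1979,2009,2011,1976,171,1492,1903,58,1521,112,1891,1532,93,7,52,1462,1455,1490,143,2007,1880,21,45,1478,1888,1500,29,177,113,2017,180,1518,1923,61,1988,1935,137,1920,196,1916,89,1955,1942,9,195,135,1495,82,1877,205,146,2023,1466,36,1510,2006,87,138,1946,166,1489,125,69,1497,2019,1991,53,50,183,1939,1536,1961,57,165,168,172,158,60,176,155,1,34,35,1517,108,1908,107,1498,208,2015,1447,197,99,207,179,1484,1869,2022,1932,1980,1951,91,153,178,1968,25,2,1999,206,1520,54,1503,1494,148,1450,97,81,1924,1975,103,20,47,192,1901,12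8,56,1531,1458,0,1875,1528,156,1482,51,1964,31,141,1879,1471,160,124,119,1887,1464,189,174,193,1449,1526,1473,188,1446,1448,147,2021,4,1537,1533,1474,1872,182,1927,64,129,1960,86,1978,76,1514,1883,1878,1929,150,105,1884,1483,1873,1962,1480,170,1881,1501,14,139,90,1502,1928,1907,46,1890,1456,2003,1948,162,23,1904,65,88,204,1944,163,71,2002,1444,167,1970,1926,28,121,1998,164,184,70,1479,96,1535,1906,1871,210,2004,1913,1530,1937,1898,1909,1529,102,19,127,1900,1445,152,41,1513,1470,140,16,1454,145,202,1950,1472,1971,1925,1922,101,26,1874,1460,194,191,133,1507,1956,151,1915,2018,1523,1936,169,1451,24,1527,98,200,1465,1990,1965,30,1895,114,118,126,1911,1963,157,1481,1914,40,1934,68,15,1477,1996,1463,6,1945,2001,17,1499,33,1993,3,1977,149,122,186,11,1947,1524,1525,2013,120,175,95,1504,100,74,1522,2008,185,131,209,38,104,80,1966,1461,187,1893,1457,1958,32,18,1870,1930,159,1987,27,1949,1509,1967,83,1468,1940,1885,1486,55,1892,109,22,63,1534,1905,1917,1912,1496,144,2010,154,115,1469,1994,1491,161,49,1986,1918,1954,1997,1933,1992,1969,13,1896,85,1453,1882,2014,1995,37,1511,44,42,1886,8,1931,1476,1443,5,1941,1515,1452,67,1982,1953,1989,1983,1519,1512,1894,1910,2024]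
set_option maxRecDepth 1000000 in
theorem runX : chkRun gensM progX 852206658587909773353650494292640268 posX 2025 = true := by decide +kernel

set_option maxRecDepth 100000 in
theorem cntX : cnt1 c2L (1024) + (sumS (cnt2 T2c 4096) gB 0 + sumS (cnt3 T3c 4864) gB 0) = 2025 := by
  decide +kernel

def rootA : List ℕ := [16,18,18,18,18,18,16,16,18,16,16,18,16,18,16,16,16,16,16,16,16,16,16,16]
set_option maxRecDepth 100000 in
def progA : List (Option ℕ) := [some 0,some 0,some 0,some 0,none,some 2,none,some 3,none,some 5,none,none,some 1,some 1,some 4,none,none,some 2,none,some 3,none,some 4,some 4,none,none,some 5,none,none,some 2,some 0,none,some 4,none,none,some 3,some 3,none,none,some 5,some 0,none,some 1,none,some 5,none,none,none,some 1,some 0,some 2,none,some 4,none,some 5,none,none,some 1,some 2,none,some 3,none,some 4,none,some 5,none,none,some 2,some 1,none,some 2,none,some 3,none,none,some 4,some 0,none,some 1,none,some 3,none,some 5,none,none,some 5,some 1,none,some 3,none,some 5,none,none,none,some 2,some 0,some 1,none,some 3,none,some 4,none,some 5,none,none,some 2,some 1,none,some 2,none,some 3,none,none,some 3,some 1,none,some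 3,none,none,some 4,some 0,none,some 5,none,none,some 5,some 2,none,some 5,none,none,none,some 3,some 1,some 0,none,none,some 2,some 0,none,some 1,none,some 3,none,some 4,none,none,some 3,some 0,none,some 4,none,none,some 4,none,some 5,some 1,none,some 4,none,none,none,some 4,some 0,some 0,none,none,some 1,some 0,none,some 2,none,some 4,none,some 5,none,none,some 2,some 0,none,some 2,none,some 4,none,none,some 3,none,some 5,some 2,none,none,none,some 5,some 1,none,some 2,some 0,none,some 5,none,none,some 3,some 2,none,some 3,none,some 5,none,none,some 4,some 0,none,some 2,none,some 3,none,none,some 5,none,none,none,some 1,some 0,some 0,some 1,none,none,some 3,none,some 4,some 0,none,some 3,none,some 4,none,none,none,some 1,some 0,some 0,none,some 5,none,none,some 1,some 0,none,some 4,none,none,some 2,some 4,none,none,none,some 2,some 0,some 2,none,some 4,none,some 5,none,none,some 1,some 1,none,some 3,none,none,some 4,some 0,none,some 3,none,some 4,none,none,some 5,some 2,none,some 4,none,none,none,some 3,some 0,some 2,none,none,some 1,some 2,none,none,some 2,some 2,none,some 5,none,none,some 4,some 3,none,none,some 5,some 1,none,none,none,some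 4,some 0,some 1,none,some 3,none,some 4,none,none,some 1,some 5,none,none,some 2,none,some 3,some 1,none,none,some 4,some 4,none,none,none,some 5,some 0,some 0,none,some 1,none,some 2,none,none,some 1,some 4,none,none,some 2,some 1,none,none,some 3,some 5,none,none,some 4,some 4,none,none,some 5,some 3,none,none,none,none,some 2,some 0,some 0,none,some 3,none,some 4,some 5,none,none,some 5,some 3,none,none,none,some 1,some 0,some 3,none,none,some 2,none,some 4,some 5,none,none,some 5,some 2,none,none,none,some 2,some 0,none,some 2,some 2,none,some 3,none,none,some 3,some 2,none,none,some 5,some 3,none,none,none,some 4,some 0,some 2,none,none,some 2,some 0,none,none,some 3,some 1,none,some 3,none,none,some 4,none,some 5,none,none,some 5,some 0,some 1,none,none,some 2,some 1,none,none,some 3,some 2,none,none,some 4,some 2,none,none,some 5,none,none,none,some 3,some 0,some 0,none,some 1,some 0,none,none,some 4,none,none,some 1,some 0,none,some 4,none,some 5,none,none,some 2,some 0,some 1,none,none,some 1,some 5,none,none,some 2,some 4,none,none,some 3,some 2,none,none,some 4,some 2,none,some 4,none,none,some 5,some 3,none,none,none,some 3,some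 1,none,some 2,some 0,none,none,some 3,some 5,none,none,none,some 4,some 0,some 2,none,none,some 1,none,some 3,none,some 5,none,none,some 5,some 0,none,some 2,some 5,none,none,some 3,none,some 4,none,some 5,some 2,none,some 3,none,none,none,none,some 4,some 0,some 0,none,some 1,none,some 2,none,some 3,none,some 4,none,some 5,none,none,some 1,some 0,none,some 1,none,some 2,none,some 3,none,some 4,none,none,some 2,some 0,none,some 5,none,none,some 3,some 2,none,some 3,none,none,some 4,some 0,none,some 3,some 2,none,none,some 4,none,some 5,none,none,some 5,some 2,none,some 3,none,some 4,none,some 5,none,none,none,some 5,some 0,some 2,none,some 3,none,none,some 1,some 3,none,some 5,some 3,none,none,none,some 2,some 0,none,some 1,none,none,some 3,some 0,none,some 1,some 3,none,none,some 2,none,some 3,none,none,some 4,some 0,none,some 2,some 4,none,none,some 3,none,none,some 5,some 0,none,some 2,none,some 3,none,none,none]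
set_option maxRecDepth 100000 in
def posA : List ℕ := [329,305,231,112,223,48,135,95,105,119,36,224,172,86,23,47,322,308,70,171,148,299,7,189,83,72,157,319,96,151,221,114,265,1,293,51,107,222,45,15,249,142,52,89,311,307,18,174,55,17,216,123,81,97,233,50,124,129,34,102,196,108,206,167,175,87,225,0,192,141,328,297,211,44,267,155,4,20,282,8,11,277,291,63,203,150,259,154,309,13,287,286,270,152,71,35,117,14,242,298,58,316,226,94,164,92,228,314,201,229,302,30,140,61,53,186,312,109,263,84,106,5,276,258,200,245,115,78,234,46,166,210,9,162,66,26,283,292,244,29,31,169,165,212,261,41,79,22,215,250,6,296,54,37,38,202,218,113,16,304,111,2,240,209,239,126,315,28,144,127,122,67,32,120,205,198,188,220,199,43,191,255,252,235,60,40,99,176,241,80,181,290,10,65,59,57,248,236,185,132,103,180,138,306,254,104,327,82,280,197,21,318,279,156,24,143,159,219,118,300,289,190,39,178,110,268,90,76,313,74,227,98,320,69,266,19,237,246,33,130,153,56,163,256,301,42,116,158,170,232,139,93,274,73,303,125,145,131,213,260,128,187,217,317,134,173,278,136,288,230,77,183,64,184,273,195,323,295,88,243,257,207,269,121,281,100,3,285,264,272,146,62,284,271,75,179,101,214,194,253,68,182,133,137,247,324,168,27,208,193,294,149,325,262,238,326,147,85,91,251,160,275,12,177,321,25,49,310,161,204]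
set_option maxRecDepth 1000000 in
theorem runA : chkRun gens22 progA 686053159114795363099710699726260816 posA 330 = true := by decide +kernel

set_option maxRecDepth 100000 in
theorem cntA : cnt1 eL (1024) + (sumS (cnt2 T2e 1052608) gB 0 + sumS (cnt3 T3e 1315504) gB 0) = 330 := by
  decide +kernel

def rootB : List ℕ := [14,16,18,16,16,18,16,18,16,18,16,16,18,16,16,16,16,16,16,16,16,16,14,18]
set_option maxRecDepth 100000 in
def progB : List (Option ℕ) := [some 0,some 0,some 0,some 1,none,some 3,none,none,some 1,some 0,none,some 1,none,some 4,none,some 5,none,none,some 2,some 5,some 0,none,none,none,some 3,some 0,some 3,none,some 5,none,none,some 1,none,some 2,none,some 3,none,some 5,none,none,some 4,some 1,none,some 3,some 4,none,none,some 4,some 1,none,some 3,none,none,some 5,none,none,some 5,some 0,some 0,none,none,some 1,none,some 2,none,some 3,none,some 4,some 0,none,none,some 5,none,none,none,some 1,some 0,some 0,none,some 1,none,none,some 1,some 1,none,some 3,none,some 4,none,none,some 2,some 2,none,some 4,none,none,some 3,some 1,none,some 4,none,some 5,none,none,some 4,some 0,none,some 1,none,some 2,some 0,none,none,some 3,none,some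 4,none,some 5,none,none,none,some 2,some 0,some 0,none,none,some 1,some 0,none,some 2,none,some 5,none,none,some 2,some 0,none,some 3,none,some 4,some 3,none,none,some 5,none,none,some 3,some 0,none,some 3,none,some 4,none,none,some 4,some 0,none,some 1,none,some 3,none,some 4,none,some 5,some 3,none,none,none,some 5,some 0,none,some 2,none,some 3,none,none,none,some 3,some 0,some 0,none,some 2,some 1,none,none,some 3,none,none,some 1,some 1,none,some 3,none,none,some 2,some 0,none,some 1,none,some 2,none,some 4,none,none,some 3,some 0,none,some 1,none,some 2,none,some 4,none,none,some 4,some 3,none,some 4,none,some 5,none,none,none,some 4,some 0,some 0,none,some 4,none,none,some 1,some 0,some 2,none,none,some 1,none,some 2,none,some 4,none,none,some 2,some 4,none,none,some 3,some 0,none,some 1,none,some 2,none,some 5,some 3,none,none,none,some 4,some 1,none,some 3,none,some 5,none,none,some 5,some 0,none,some 3,none,some 5,none,none,none,some 5,some 0,some 1,none,some 2,none,some 4,none,none,some 1,some 2,none,some 3,none,some 4,none,some 5,none,none,some 2,some 0,none,some 1,none,none,some 3,some 1,none,none,some 4,some 3,none,some 4,none,none,some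 5,some 0,none,some 1,none,some 2,none,some 3,none,none,none,none,some 1,some 1,some 0,some 3,none,some 4,some 3,none,none,none,some 1,some 0,none,some 3,none,none,some 2,some 2,none,some 3,none,some 5,none,none,some 3,some 3,none,some 5,none,none,some 4,some 2,none,some 3,none,some 4,none,none,some 5,none,none,some 2,some 0,some 1,none,some 4,none,none,some 1,some 1,none,some 3,none,none,some 2,some 0,none,none,some 4,some 2,none,none,some 5,some 3,none,some 4,none,none,none,some 3,some 0,some 1,none,some 5,none,none,some 1,some 1,none,some 4,none,some 5,none,none,some 2,some 5,none,none,some 3,some 0,none,some 3,none,some 4,none,some 5,none,none,some 4,some 3,none,none,some 5,some 0,none,some 3,none,some 4,none,none,none,some 4,some 0,none,some 1,none,some 2,some 4,none,none,some 3,some 2,none,none,some 5,some 3,none,some 5,some 5,none,none,none,none,some 5,some 0,some 1,none,some 4,none,some 5,none,none,some 1,some 4,none,none,some 2,some 3,none,some 4,none,some 5,none,none,some 3,some 1,none,some 2,none,none,some 4,some 2,none,some 3,none,some 4,none,some 5,none,none,some 5,some 0,none,none,none,none,some 2,some 0,some 0,some 2,none,none,some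 1,some 0,none,none,some 2,some 1,none,some 3,none,some 4,none,none,some 3,some 2,none,none,some 5,some 0,none,some 1,none,some 3,none,some 4,none,some 5,none,none,none,some 1,some 0,none,some 1,none,some 2,some 1,none,some 2,none,none,some 3,some 2,none,none,some 4,some 0,none,some 1,none,some 2,none,some 3,none,some 4,none,none,some 5,none,none,some 3,some 1,none,some 2,none,some 3,some 1,none,none,some 4,some 0,none,some 1,none,some 3,none,some 5,none,none,some 5,some 0,none,some 3,none,some 5,none,none,none,some 4,some 0,some 2,none,none,some 2,some 2,none,none,some 3,some 2,none,some 5,none,none,some 4,some 1,none,some 4,none,none,none,some 5,some 0,some 2,none,some 3,none,none,some 1,some 2,none,some 4,none,none,some 2,none,some 3,some 1,none,some 2,none,none,some 4,none,some 5,some 5,none,none,none,none,some 3,some 0,some 0,some 1,none,none,some 2,none,some 3,none,some 4,some 5,none,none,some 5,none,none,some 1,some 2,some 2,none,none,some 3,some 2,none,none,some 4,none,none,some 2,some 0,some 1,none,some 4,none,none,some 1,some 1,none,some 5,none,none,some 2,none,some 3,some 1,none,none,some 4,none,some 5,some 0,none,none,none,some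 3,some 4,some 5,none,none,some 5,some 5,none,none,none,some 4,some 0,none,some 1,some 2,none,some 4,none,some 5,none,none,some 2,some 0,none,some 1,none,none,some 3,none,some 4,none,some 5,some 0,none,some 4,none,none,none,some 5,some 0,some 4,none,some 5,none,none,some 1,some 1,none,none,some 2,none,some 3,none,some 4,none,some 5,some 1,none,some 2,none,none,none,none,some 4,some 1,some 0,some 0,none,none,some 2,some 1,none,some 5,none,none,some 4,some 0,none,none,some 5,some 2,none,none,none,some 2,some 0,some 5,none,none,some 2,some 4,none,none,some 3,some 1,none,none,some 4,none,none,some 3,some 0,none,some 1,some 5,none,none,some 3,none,some 4,none,none,some 4,some 0,some 0,none,some 1,none,some 2,none,none,some 1,none,some 3,some 1,none,none,some 4,some 2,none,none,some 5,none,none,some 5,some 2,some 1,none,none,some 3,none,some 4,none,some 5,none,none,none,some 5,some 0,some 5,none,none,some 2,some 0,none,some 1,none,some 2,some 1,none,none,some 3,some 5,none,none,none,some 3,some 0,some 5,none,none,some 1,some 4,none,none,some 2,none,some 3,none,some 4,some 3,none,none,some 5,some 3,none,none,none,some 4,some 0,some 0,none,none,some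 1,some 1,none,none,some 2,none,some 3,some 2,none,none,some 4,some 1,none,none,some 5,none,none,some 5,some 0,none,some 2,some 3,none,none,some 3,none,some 4,some 2,none,none,none,none]
set_option maxRecDepth 100000 in
def posB : List ℕ := [461,317,354,431,163,374,155,226,54,451,212,244,284,361,367,195,8,18,48,166,16,60,323,213,327,375,32,55,331,245,342,132,17,27,197,66,456,159,442,11,368,9,65,341,273,446,372,49,156,356,61,144,223,167,28,115,339,408,97,300,143,169,449,83,295,37,424,340,352,176,365,285,129,292,320,460,224,98,130,311,102,203,406,246,318,137,74,220,400,38,328,131,305,296,263,233,14,377,312,116,383,216,75,0,345,314,101,86,325,94,146,434,238,70,248,105,412,67,447,190,256,291,194,58,360,35,63,160,326,373,443,228,30,294,22,117,422,217,136,410,50,122,79,34,353,261,439,274,455,25,113,214,445,87,21,269,355,338,315,346,279,316,335,303,393,42,337,108,211,135,168,404,301,230,172,210,182,202,153,124,319,441,219,200,351,218,420,165,71,385,344,31,379,222,112,454,69,93,268,403,78,232,459,278,96,45,215,333,310,444,332,417,114,288,24,452,297,180,239,89,414,258,229,264,33,23,204,95,307,386,394,2,421,53,309,106,364,366,52,359,90,111,448,12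6,330,12,271,396,450,388,387,181,179,336,103,416,120,395,270,252,453,397,304,415,191,234,430,390,187,243,3,251,227,207,382,51,1,358,322,47,432,418,283,262,411,208,100,193,26,378,149,20,324,177,152,88,141,10,428,36,437,350,59,188,199,240,154,186,254,57,4,392,82,161,381,348,145,134,440,289,313,123,343,189,349,242,140,139,402,370,44,209,77,231,118,429,206,64,127,107,13,389,7,175,162,438,458,277,85,40,280,68,121,409,405,185,299,164,362,236,457,196,183,293,235,308,413,81,302,259,250,290,433,110,282,119,174,99,138,151,247,407,157,142,56,347,265,15,425,287,43,272,19,241,267,5,398,72,380,257,363,192,391,357,148,39,384,321,158,221,201,306,205,225,401,76,170,249,286,419,435,198,371,80,133,334,104,253,436,298,427,84,173,150,237,171,29,329,255,147,281,41,369,178,91,109,6,73,399,184,423,266,426,128,376,125,62,276,92,275,46,260]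
set_option maxRecDepth 1000000 in
theorem runB : chkRun gens22 progB 766533760422085119788810751604967950 posB 462 = true := by decide +kernel

set_option maxRecDepth 100000 in
theorem cntB : cnt1 eL (263168) + (sumS (cnt2 T2e 1314752) gB 0 + sumS (cnt3 T3e 1577648) gB 0) = 462 := by
  decide +kernel

def rootC : List ℕ := [15,17,17,19,17,17,15,17,15,17,17,17,17,17,17,17,17,17,17,15,15,15,15,17]
set_option maxRecDepth 100000 in
def progC : List (Option ℕ) := [some 0,some 0,some 0,some 0,some 1,none,none,some 1,some 1,none,some 3,none,some 4,none,some 5,none,none,some 2,some 2,none,some 5,none,none,some 3,some 3,none,some 4,none,none,some 4,some 2,none,some 4,none,none,some 5,some 3,none,some 4,none,none,none,some 1,some 0,none,some 1,some 0,none,some 2,none,some 5,none,none,some 3,some 5,none,none,some 4,some 4,none,none,some 5,some 4,none,some 5,none,none,none,some 2,some 0,none,some 1,some 1,none,some 2,none,some 5,none,none,some 4,some 3,none,none,none,some 3,some 0,some 0,none,some 4,none,some 5,none,none,some 1,some 1,none,some 2,none,some 4,none,none,some 2,some 4,none,none,some 3,some 3,none,none,some 4,none,some 5,some 1,none,none,none,some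 4,some 0,some 3,none,none,some 1,some 2,none,none,some 2,some 1,none,none,some 3,some 1,none,some 3,none,some 4,none,none,some 4,some 0,none,some 2,none,some 4,none,none,some 5,some 2,none,some 5,none,none,none,some 5,some 1,some 0,none,some 1,none,some 5,none,none,some 3,some 0,none,some 1,none,some 2,none,some 4,none,none,some 4,none,some 5,some 0,none,none,none,none,some 1,some 0,some 0,some 0,none,none,some 1,some 1,none,none,some 2,some 0,none,some 1,none,some 4,none,none,some 3,some 1,none,some 2,none,some 4,none,none,some 4,some 2,none,none,some 5,some 1,none,some 4,none,none,none,some 1,some 0,some 0,none,some 3,none,none,some 1,none,some 2,some 0,none,none,some 4,some 1,none,none,some 5,some 0,none,some 1,none,some 3,none,some 4,none,none,none,some 2,some 1,some 5,none,none,some 3,some 1,none,some 2,none,some 5,none,none,some 4,some 2,none,none,some 5,some 3,none,some 4,none,none,none,some 3,some 0,some 1,none,some 3,none,some 4,none,none,some 1,some 0,none,some 1,none,none,some 3,some 3,none,some 4,none,some 5,none,none,some 5,some 0,none,some 4,none,none,none,some 4,some 0,some 4,none,none,some 1,some 1,none,some 2,none,some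 4,none,some 5,none,none,some 2,some 2,none,some 3,none,none,some 5,some 0,none,some 3,none,none,none,some 5,some 0,some 3,none,none,some 1,some 3,none,some 4,none,none,some 2,some 3,none,none,some 3,none,some 4,some 3,none,some 4,none,none,none,none,some 2,some 0,some 0,none,some 1,none,some 2,some 0,none,none,some 5,some 4,none,none,none,some 1,some 0,some 2,none,some 3,none,none,some 1,none,some 2,some 0,none,some 1,none,none,some 3,some 0,none,some 3,none,some 5,none,none,none,some 2,some 0,some 0,none,some 2,none,some 3,none,some 5,none,none,some 1,some 2,none,none,some 2,none,some 5,some 3,none,none,none,some 3,some 0,some 0,none,some 1,none,some 5,none,none,some 1,some 2,none,some 3,none,some 4,none,none,some 2,none,some 3,some 1,none,some 2,none,some 3,none,none,some 4,none,some 5,none,none,some 4,some 0,some 2,none,none,some 1,none,some 2,some 1,none,some 2,none,none,some 3,some 3,none,none,some 5,some 1,none,none,none,some 5,some 1,some 2,none,none,some 2,some 5,none,none,some 3,none,some 4,some 0,none,some 1,none,some 4,none,some 5,none,none,some 5,some 2,none,some 4,none,none,none,none,some 3,some 0,some 0,some 2,none,some 3,none,none,some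 1,some 0,none,some 4,none,some 5,none,none,some 3,none,some 4,some 0,none,none,some 5,some 3,none,none,none,some 1,some 0,none,some 1,some 1,none,none,some 3,some 0,none,none,some 4,some 3,none,none,some 5,some 1,none,some 2,none,some 3,none,some 5,none,none,none,some 2,some 0,none,some 1,some 2,none,none,some 2,none,some 3,some 0,none,some 2,none,none,some 5,some 4,none,none,none,some 3,some 0,some 4,none,some 5,none,none,some 1,some 3,none,none,some 2,none,some 4,some 0,none,none,none,some 4,some 0,some 1,none,none,some 1,some 0,none,none,some 4,some 3,none,some 5,none,none,none,some 5,some 0,some 2,none,some 4,none,none,some 1,some 2,none,none,some 2,some 1,none,some 3,none,some 4,none,none,some 3,some 3,none,none,some 4,none,some 5,some 1,none,some 5,none,none,none,none,some 4,some 0,some 1,some 5,none,none,some 3,none,some 5,some 3,none,some 4,none,none,none,some 1,some 0,some 2,none,some 3,none,none,some 1,some 5,none,none,some 2,some 0,none,none,some 3,some 3,none,some 5,none,none,some 4,some 1,none,none,some 5,some 2,none,none,none,some 2,some 1,some 2,none,none,some 2,some 0,none,none,some 3,none,some 5,none,none,some 3,some 0,some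 0,none,some 5,none,none,some 1,some 0,none,none,some 2,some 5,none,none,some 3,some 4,none,none,some 5,some 2,none,some 4,none,none,none,some 4,some 0,some 4,none,none,some 1,none,some 2,some 1,none,none,some 3,some 4,none,none,some 4,none,some 5,some 2,none,some 5,none,none,none,some 5,some 3,some 4,none,some 5,none,none,some 4,some 2,none,some 4,none,none,some 5,none,none,none,some 5,some 0,some 1,some 5,none,none,some 2,some 2,none,some 3,none,some 4,none,none,some 3,none,some 4,some 3,none,none,some 5,some 5,none,none,none,some 1,some 0,some 3,none,none,some 1,none,some 2,some 3,none,none,some 3,some 4,none,none,some 4,none,some 5,none,none,some 2,some 0,none,some 1,some 5,none,none,some 2,none,some 4,some 5,none,none,some 5,none,none,some 3,some 1,none,some 3,none,some 4,some 5,none,none,some 5,some 3,none,none,none,some 4,some 0,some 4,none,none,some 1,some 4,none,none,some 2,some 5,none,none,some 3,some 0,none,some 1,none,some 5,none,none,some 4,none,none,some 5,some 0,some 1,none,some 5,none,none,some 1,some 2,none,none,some 2,some 1,none,some 3,none,none,some 3,some 1,none,none,some 4,some 1,none,some 5,none,none,some 5,none,none,none,none,some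 1,some 0,some 0,some 0,none,some 1,some 4,none,none,some 2,none,some 3,some 2,none,none,some 5,some 5,none,none,none,some 1,some 1,some 5,none,none,some 2,some 4,none,none,some 3,none,some 4,some 2,none,none,none,some 2,some 0,some 0,none,some 5,none,none,some 2,none,some 3,some 1,none,none,some 5,some 2,none,some 3,none,none,none,some 3,some 0,some 3,none,none,some 1,some 3,none,some 5,none,none,some 2,some 1,none,none,some 3,some 1,none,none,some 5,none,none,some 4,some 1,none,some 4,some 2,none,none,some 5,some 5,none,none,none,some 5,some 1,none,some 2,some 0,none,none,some 3,none,some 5,none,none,none,some 1,some 0,some 0,none,some 2,some 4,none,none,some 4,none,none,some 1,some 0,none,some 4,none,none,some 2,some 1,none,some 5,none,none,some 4,some 1,some 0,none,some 1,none,none,some 2,some 1,none,none,some 5,some 4,none,none,none,some 5,some 0,none,some 1,none,some 3,none,some 4,some 0,none,none,some 5,none,none,none,some 2,some 0,some 2,some 3,none,some 5,none,none,some 4,some 1,none,none,none,some 1,some 0,some 4,none,none,some 1,none,some 2,none,some 3,none,some 4,some 5,none,none,some 5,none,none,some 2,some 0,none,some 1,none,some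 3,some 4,none,none,none,some 4,some 0,none,some 2,none,some 3,some 3,none,none,some 5,none,none,some 5,some 0,some 2,none,none,some 2,some 0,none,none,some 3,some 2,none,none,some 4,some 1,none,some 2,none,some 4,none,none,some 5,none,none,none,some 3,some 0,some 0,some 4,none,none,some 3,none,none,some 1,some 2,some 2,none,none,some 3,some 1,none,none,some 5,some 2,none,none,none,some 2,some 1,none,some 2,none,some 3,some 3,none,none,some 4,none,some 5,some 3,none,none,none,some 3,some 0,none,some 1,some 4,none,some 5,none,none,some 2,none,some 4,none,some 5,none,none,some 4,some 0,none,some 1,some 5,none,none,some 2,some 2,none,none,some 3,none,none,none,some 4,some 0,some 2,some 3,none,none,none,some 1,some 1,some 0,none,some 3,none,none,some 2,none,some 4,none,some 5,some 4,none,none,none,some 2,some 0,none,some 2,none,some 3,some 5,none,none,some 5,none,none,some 3,some 0,none,some 1,none,some 4,some 1,none,none,none,some 4,some 0,some 5,none,none,some 2,none,some 3,none,some 4,none,some 5,some 3,none,none,none,none,some 5,some 0,some 0,none,some 1,some 0,none,some 1,none,none,some 2,some 4,none,none,some 3,none,some 4,some 1,none,some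 5,none,none,some 5,none,none,some 1,some 0,none,some 1,none,some 2,some 0,none,some 3,none,none,some 4,none,some 5,none,none,some 2,some 0,some 5,none,none,some 2,none,some 3,some 1,none,none,some 5,some 5,none,none,none,some 3,some 1,none,some 4,some 4,none,none,some 5,none,none,some 4,some 0,none,some 1,some 3,none,none,some 2,some 4,none,none,some 3,none,some 4,none,none,some 5,some 0,none,some 3,none,some 4,some 3,none,none,none,none,none,some 2,some 0,some 0,some 0,none,some 1,none,some 3,none,none,some 1,some 0,some 0,none,none,some 5,none,none,some 2,some 0,none,some 1,none,some 4,none,some 5,some 0,none,some 5,none,none,none,some 3,some 0,none,some 3,none,some 4,none,some 5,none,none,some 4,some 1,none,some 3,none,some 5,none,none,some 5,some 0,some 3,none,none,some 1,none,some 2,none,some 3,none,some 4,none,none,none,some 1,some 0,some 1,none,some 2,none,some 3,none,some 4,none,none,some 1,some 0,none,some 1,none,some 2,none,some 4,none,some 5,none,none,some 2,some 3,some 4,none,none,some 5,none,none,some 3,some 0,none,some 3,none,some 4,none,some 5,none,none,some 4,some 0,none,some 2,none,some 3,none,some 5,some 2,none,none,none,some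 5,some 0,some 3,none,none,some 1,none,some 2,none,some 4,none,some 5,none,none,none,some 2,some 0,some 0,none,some 1,some 5,none,none,some 2,none,some 3,none,some 4,none,some 5,none,none,some 1,some 3,some 2,none,none,some 5,none,none,some 2,some 1,some 3,none,none,some 2,none,some 3,none,some 5,none,none,some 3,some 0,some 2,none,none,some 1,none,some 2,some 4,none,some 5,none,none,some 3,none,some 5,none,none,some 4,some 0,some 3,none,none,some 1,none,some 3,none,some 4,some 2,none,some 3,none,none,none,some 5,some 0,none,some 5,none,none,none,some 3,some 0,some 2,none,some 3,none,some 4,none,none,some 1,some 0,some 0,none,none,some 1,none,some 2,none,some 3,none,some 4,none,some 5,none,none,some 2,some 0,none,some 1,none,some 4,none,some 5,none,none,some 3,some 2,none,some 3,none,some 4,some 4,none,none,none,some 4,some 0,none,some 1,none,some 3,none,none,some 5,some 0,none,some 3,none,some 4,some 4,none,some 5,none,none,some 5,none,none,none,some 4,some 0,some 0,none,some 3,some 2,none,none,some 4,none,some 5,none,none,some 1,some 2,none,none,some 2,some 0,none,some 1,some 1,none,some 3,none,none,some 2,none,some 3,none,some 4,some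 2,none,none,none,some 3,some 1,none,some 4,some 3,none,none,some 5,none,none,some 4,some 0,none,some 5,none,none,some 5,some 3,none,some 4,none,some 5,none,none,none,none,some 3,some 0,some 0,some 0,none,some 1,none,some 2,none,some 3,none,some 5,none,none,some 1,some 0,none,some 1,none,some 2,none,none,some 2,some 0,none,some 2,some 2,none,none,some 5,none,none,some 3,some 2,none,some 3,some 1,none,none,none,some 4,some 2,none,some 5,none,none,some 5,some 1,none,some 5,none,none,none,some 1,some 0,some 0,none,some 3,none,some 4,none,none,some 1,some 1,none,some 2,none,none,some 2,some 0,none,some 1,none,some 2,some 4,none,none,some 5,some 0,none,none,none,some 3,some 0,none,some 2,none,some 4,none,none,some 4,some 0,none,some 2,none,some 5,some 2,none,none,none,some 5,some 0,some 0,none,none,some 1,none,some 2,none,some 3,some 2,none,none,some 4,none,none,none,some 2,some 0,some 1,none,some 2,none,some 4,none,some 5,none,none,some 1,some 0,none,some 1,none,some 4,some 1,none,none,none,some 2,some 0,none,some 1,none,some 5,none,none,some 3,some 1,none,some 2,none,some 3,none,some 5,none,none,some 4,none,some 5,some 0,none,some 2,none,some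 4,none,none,none,some 3,some 0,some 1,none,some 3,none,none,some 1,some 1,none,some 4,none,some 5,none,none,some 3,none,some 4,some 0,none,some 1,none,some 2,none,some 3,none,some 4,none,none,some 5,some 3,some 1,none,none,some 4,none,some 5,none,none,none,some 4,some 0,some 1,none,some 2,none,some 3,none,some 4,none,none,some 1,some 0,none,some 5,none,none,some 2,some 0,none,some 1,none,some 3,none,none,some 3,some 1,none,some 3,none,none,some 4,some 4,none,some 5,none,none,some 5,some 1,none,some 2,none,none,none,some 5,some 0,some 2,none,some 3,none,some 4,none,some 5,none,none,some 1,some 0,none,some 3,none,some 5,none,none,some 2,some 0,some 3,none,none,some 3,none,some 4,none,none,some 3,some 0,none,some 3,none,none,some 4,some 0,none,some 1,none,some 5,none,none,some 5,some 1,none,some 2,none,some 3,none,some 5,none,none,none,none,some 4,some 0,some 0,some 3,none,some 5,none,none,some 2,some 2,none,some 3,none,none,some 3,some 0,none,some 1,none,some 2,none,some 4,none,none,some 4,some 1,none,some 2,none,none,some 5,some 2,none,some 3,none,some 5,none,none,none,some 1,some 0,some 5,none,none,some 1,some 4,none,none,some 2,some 1,none,some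 5,none,none,some 3,some 0,none,some 2,none,some 5,none,none,some 4,some 1,none,some 3,none,some 4,none,none,some 5,some 0,none,some 1,none,some 2,none,some 4,none,none,none,some 2,some 0,some 1,none,some 2,none,some 3,none,some 4,none,none,some 1,some 0,none,some 2,none,some 3,none,some 4,none,none,some 2,some 0,none,some 4,none,none,some 3,some 0,none,some 1,none,some 4,none,none,some 4,some 2,none,some 3,none,some 5,some 5,none,none,none,some 5,some 0,none,some 1,none,some 2,none,some 4,none,none,none,some 3,some 0,some 1,none,some 3,none,some 4,none,some 5,none,none,some 1,some 0,none,some 3,none,some 5,none,none,some 3,some 0,none,some 1,none,some 4,none,some 5,none,none,some 4,some 0,none,some 3,none,some 4,none,some 5,none,none,some 5,some 1,some 2,none,some 4,none,none,some 3,none,some 4,none,none,none,some 4,some 0,some 0,none,some 5,none,none,some 1,some 0,none,some 1,none,none,some 2,none,some 3,some 3,none,some 4,none,none,some 5,some 0,none,some 5,none,none,none,some 5,some 0,some 1,none,some 2,none,some 3,none,none,some 2,some 3,none,some 4,none,some 5,none,none,some 3,some 1,none,some 4,none,some 5,none,none,some 4,some 0,none,none,some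 5,some 5,none,none,none,none,some 5,some 0,some 0,some 0,none,none,some 1,some 0,none,some 1,none,some 2,none,some 3,none,some 5,none,none,some 2,some 5,none,none,some 3,some 2,none,some 4,none,some 5,none,none,some 4,none,some 5,some 3,some 0,none,none,some 5,none,none,none,some 1,some 0,some 1,none,some 5,none,none,some 1,some 0,none,some 2,none,none,some 2,some 1,none,some 5,none,none,some 3,none,some 4,some 1,none,some 3,none,some 5,none,none,some 5,some 2,none,some 3,none,some 4,none,none,none,some 2,some 0,none,some 1,some 1,none,none,some 2,some 2,none,some 4,none,none,some 4,some 0,none,some 5,none,none,some 5,some 4,none,none,none,some 3,some 0,some 3,none,some 4,none,some 5,none,none,some 3,some 0,none,some 1,none,some 5,none,none,some 4,some 3,none,some 4,none,none,some 5,some 0,none,some 1,none,some 3,none,none,none,some 4,some 0,some 2,none,some 3,none,none,some 1,some 1,none,some 2,none,some 3,none,some 4,none,some 5,none,none,some 3,some 2,none,some 5,none,none,some 4,some 0,none,some 4,none,some 5,none,none,some 5,some 0,none,some 1,none,some 5,none,none,none,some 5,some 0,some 2,none,some 3,none,none,some 2,some 0,none,some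 2,none,some 4,none,some 5,none,none,some 4,some 2,none,some 5,none,none,some 5,some 0,none,some 1,none,some 3,none,none,none,none]
set_option maxRecDepth 100000 in
def posC : List ℕ := [1231,738,440,1044,1153,5,66,1036,1028,167,390,1133,958,1031,190,1146,768,376,802,1230,767,831,524,1040,24,238,1091,466,920,1198,365,557,177,470,562,902,477,985,463,468,879,860,775,871,1203,458,148,547,438,334,394,1096,988,1048,852,641,1081,139,1229,502,1192,194,191,400,1205,1016,1061,437,1183,539,531,170,277,535,86,581,1075,215,399,114,166,419,1110,757,48,947,1211,1083,812,1068,231,481,469,863,560,992,1109,624,26,262,529,393,454,829,1017,1215,771,124,1067,432,127,491,361,383,356,65,482,140,710,303,1188,343,460,734,258,418,1047,788,1021,741,779,1159,1137,159,1117,218,274,905,243,756,613,1035,939,153,1015,77,1037,787,821,193,809,870,1221,620,210,42,565,968,515,622,326,692,569,478,625,1111,789,926,457,184,913,493,1144,582,1175,724,292,1172,35,868,818,957,96,13,37,227,1095,836,143,770,901,894,1051,956,9,1127,358,867,1119,548,224,121,64,711,223,1043,245,221,423,753,280,619,1214,828,300,110,206,122,1228,364,1001,1074,97,842,1168,685,1010,436,488,683,677,785,1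005,528,774,904,587,1152,156,172,914,509,763,553,538,663,1011,801,246,1219,90,1182,6,987,736,164,132,705,31,398,554,573,883,1200,954,826,284,810,995,1006,1128,784,737,615,271,370,1166,837,855,521,101,798,320,16,1030,137,525,217,240,748,607,407,12,169,389,480,919,294,819,1107,501,38,80,880,593,670,791,67,52,1164,134,916,885,410,1085,268,351,105,128,546,728,595,1072,986,834,147,893,319,865,823,666,412,260,416,85,781,772,739,1093,937,1042,642,707,255,518,395,1079,357,790,671,307,421,740,310,948,1078,780,244,764,1125,275,497,367,278,446,1000,182,999,824,996,906,777,570,695,250,626,967,717,749,1216,289,1143,160,715,187,487,1112,1178,712,900,649,1222,68,1226,465,75,1041,850,239,558,924,422,60,961,510,111,178,1189,39,154,934,617,99,1196,998,1060,441,195,272,248,633,109,795,508,589,467,536,1124,1206,241,322,721,907,718,10,1190,1134,1213,296,220,921,1202,576,53,522,706,1099,247,886,691,2,758,145,1129,955,811,1218,1147,456,814,1155,1225,516,628,702,833,51,84,813,1084,328,149,1019,474,461,1082,144,212,693,679,667,648,41,733,747,822,406,1141,133,602,544,1076,471,925,34,1138,1014,752,976,807,492,1029,439,360,578,1217,426,875,1069,74,173,654,859,678,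608,932,22,1004,729,580,1103,222,209,1154,179,869,566,714,881,697,424,304,1025,797,612,371,102,263,473,684,891,401,701,135,830,185,1008,1120,994,192,253,489,165,725,82,325,857,413,297,1212,490,896,974,782,762,403,115,45,918,1038,1009,585,1160,36,1086,1070,1223,251,1193,295,1108,23,503,40,314,27,933,287,892,387,186,533,888,141,708,216,49,800,1181,174,699,1121,941,71,854,651,681,448,726,378,484,1148,1131,673,614,929,1073,113,1201,669,155,261,512,634,532,372,98,517,1024,269,434,270,181,450,660,556,527,462,597,380,984,476,864,201,600,980,983,856,335,915,1002,713,696,559,107,687,761,56,895,119,982,197,204,552,735,537,511,1071,1027,1053,494,849,513,637,507,330,949,820,1063,417,464,1118,601,1173,804,668,498,50,950,754,590,234,808,1059,409,230,990,1177,839,1157,7,1132,853,176,374,664,530,709,993,1158,44,817,621,567,1034,872,917,776,168,555,786,803,647,1115,861,991,1156,486,751,208,459,433,200,722,912,609,17,561,1122,158,1187,453,604,655,1088,81,1161,632,266,94,180,161,923,290,338,645,226,944,69,1139,523,783,242,327,214,1101,89,3,1020,211,591,429,931,25,975,1057,583,943,1142,848,657,427,882,627,594,698,233,806,83,746,236,273,686,431,442,630,368,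1179,897,541,564,252,1080,308,938,59,136,279,183,163,30,447,472,93,225,33,396,1102,979,909,579,940,475,11,549,574,117,54,254,832,815,1098,87,106,78,611,1106,100,1003,971,196,1220,91,451,866,404,129,309,264,571,951,846,1224,62,430,977,659,146,485,851,640,331,256,662,414,884,339,397,92,723,599,650,911,229,973,1167,727,658,1151,1104,1150,551,1194,402,305,845,381,312,291,970,1049,506,672,188,716,500,175,199,302,306,342,793,1149,151,606,930,286,1056,700,14,72,945,321,131,282,189,639,952,922,79,219,384,1207,112,21,228,237,862,1077,354,130,575,108,15,369,792,694,742,876,623,1116,750,499,959,150,1018,1204,1055,504,688,362,898,596,61,265,760,324,816,349,138,769,346,759,19,341,318,586,391,171,353,366,323,1174,899,347,592,908,890,936,1176,545,344,452,778,629,375,76,311,981,661,1169,202,794,743,965,198,63,4,205,363,377,1054,766,745,46,674,162,960,28,43,730,392,519,415,355,382,259,313,989,276,445,838,1130,73,605,479,652,29,47,95,1113,1105,449,526,1162,682,345,207,317,340,18,298,676,643,835,1227,1094,635,267,301,1195,598,257,1100,610,88,332,773,935,744,1058,675,385,703,8,120,969,496,352,618,997,584,348,299,903,1208,1145,57,653,680,388,825,656,1165,10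39,379,1140,293,972,946,1199,315,1066,142,285,1126,1052,978,704,616,55,1033,337,152,889,483,568,126,329,316,288,1013,1191,428,408,720,550,520,873,203,123,910,796,540,638,118,858,1064,1136,1123,232,953,1184,646,455,690,157,1032,373,603,359,805,444,336,1186,878,1171,572,847,841,116,1210,1023,213,1114,942,588,577,1046,1,235,966,1090,125,0,874,104,563,1065,283,1087,964,249,928,543,732,844,1180,495,58,1092,1097,1062,1007,840,1022,1135,1026,420,799,1209,843,32,636,827,1163,443,887,425,1197,350,534,1185,333,103,719,281,1170,542,765,877,411,20,70,505,644,962,405,927,689,755,386,963,1089,514,665,1045,631,1012,1050,435,731]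
set_option maxRecDepth 1000000 in
theorem runC : chkRun gens22 progC 726251588962425003599112949701658159 posC 1232 = true := by decide +kernel

set_option maxRecDepth 100000 in
theorem cntC : cnt1 eL (132096) + (sumS (cnt2 T2e 1183680) gB 0 + sumS (cnt3 T3e 1446576) gB 0) = 1232 := by
  decide +kernel

end Cfsg.Agent.Lib.Helper37.D1634
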