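import Mathlib
import Cfsg.Agent.Lib.Helper37.CoVec

set_option autoImplicit false

/-! # Kernel data for the orbits of the stabiliser of `(5,1,…,1)` and `(-4,4,0,…,0)` (generated) -/

namespace Cfsg.Agent.Lib.Helper37.D1641

open Cfsg Cfsg.Agent.Lib.Helper9 Cfsg.Agent.Lib.Helper10 Cfsg.Agent.Lib.Helper37

def u0E : List ℕ := [17,17,17,17,17,17,17,17,17,17,17,17,17,17,17,17,17,17,17,17,17,17,17,21]
def x0E : List ℕ := [20,16,16,16,16,16,16,16,16,16,16,16,16,16,16,16,16,16,16,16,16,16,16,12]
def u0L : List ℤ := [1,1,1,1,1,1,1,1,1,1,1,1,1,1,1,1,1,1,1,1,1,1,1,5]
def x0L : List ℤ := [4,0,0,0,0,0,0,0,0,0,0,0,0,0,0,0,0,0,0,0,0,0,0,-4]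
def cL : List ℤ := [1025,1,1,1,1,1,1,1,1,1,1,1,1,1,1,1,1,1,1,1,1,1,1,-1019]
def T3 : List (ℕ × ℕ × ℕ) := [(1,2050,0),(2,1026,1024),(4,1026,1024),(8,1026,1024),(16,1026,1024),(32,1026,1024),(64,1026,1024),(128,1026,1024),(256,1026,1024),(512,1026,1024),(1024,1026,1024),(2048,1026,1024),(4096,1026,1024),(8192,1026,1024),(16384,1026,1024),(32768,1026,1024),(65536,1026,1024),(131072,1026,1024),(262144,1026,1024),(524288,1026,1024),(1048576,1026,1024),(2097152,1026,1024),(4194304,1026,1024),(8388608,6,2044)]
def T2 : List (ℕ × ℕ × ℕ) := [(1,4100,0),(2,2052,2048),(4,2052,2048),(8,2052,2048),(16,2052,2048),(32,2052,2048),(64,2052,2048),(128,2052,2048),(256,2052,2048),(512,2052,2048),(1024,2052,2048),(2048,2052,2048),(4096,2052,2048),(8192,2052,2048),(16384,2052,2048),(32768,2052,2048),(65536,2052,2048),(131072,2052,2048),(262144,2052,2048),(524288,2052,2048),(1048576,2052,2048),(2097152,2052,2048),(4194304,2052,2048),(8388608,12,4088)]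
def gens : List (List Letter) := [
  [.perm [0,12,3,9,15,11,7,17,5,6,2,13,18,22,14,20,1,10,4,8,16,19,21,23]],
  [.perm [0,16,17,4,21,3,6,13,19,22,18,11,9,8,15,14,1,10,2,7,12,5,20,23]],
  [.perm [0,10,21,13,11,2,14,4,5,9,22,20,3,15,17,6,19,12,7,18,16,1,8,23]],
  [.perm [0,13,14,2,17,18,22,15,1,3,16,12,20,4,6,19,11,9,7,10,21,5,8,23]],
  [.perm [0,18,7,9,19,16,15,6,4,13,22,20,17,11,3,8,14,1,2,12,21,10,5,23]],
  [.perm [0,14,15,9,6,17,8,20,19,5,22,2,12,1,7,10,16,21,4,18,13,3,11,23]],
  [.xi, .perm [0,1,23,22,21,19,11,12,13,7,15,10,3,20,9,4,16,14,6,2,5,18,17,8], .sign 6379592, .xi, .sign 926128, .perm [5,2,0,12,20,16,19,10,23,11,18,3,14,6,8,22,9,4,1,7,13,15,21,17], .sign 5896118, .xi, .sign 16232025, .perm [2,1,0,9,13,10,4,17,22,19,8,18,7,12,23,3,6,20,14,11,16,21,5,15], .xi]]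

set_option maxRecDepth 100000 in
theorem gens_ok : gensOK [u0E, x0E] gens = true := by decide +kernel

def rootA : List ℕ := [14,16,16,14,16,16,14,16,14,16,16,16,16,16,16,16,16,16,16,14,14,14,14,16]
set_option maxRecDepth 100000 in
def progA : List (Option ℕ) := [some 0,some 0,some 0,some 3,none,none,some 1,some 3,none,some 4,none,none,some 3,some 3,none,some 5,none,none,some 4,some 1,none,some 3,none,none,some 5,some 1,none,none,none,some 1,some 0,some 0,none,some 1,none,some 2,none,none,some 1,some 0,none,some 1,none,none,some 4,some 0,none,some 2,none,none,none,some 2,some 1,none,some 2,none,some 3,some 5,none,none,some 4,some 1,none,none,some 5,some 2,none,some 4,none,none,none,some 3,some 0,some 3,none,none,some 1,some 1,none,some 4,none,none,some 2,some 3,none,none,some 5,some 0,none,some 4,none,none,none,some 4,some 0,some 1,none,none,some 1,some 4,none,none,some 2,none,some 3,none,some 4,some 1,none,some 2,none,some 4,none,none,some 5,none,none,some 5,some 0,none,some 2,some 4,none,none,some 3,some 5,none,none,some 5,some 2,none,some 3,none,some 4,none,none,none,some 6,some 0,some 0,some 0,none,some 1,some 0,none,some 2,none,some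 4,none,some 5,none,none,some 2,some 1,none,none,some 3,some 3,none,none,some 5,some 1,none,none,none,some 1,some 0,some 0,none,some 1,none,none,some 1,some 5,none,none,some 2,some 5,none,none,some 4,none,some 5,some 1,none,none,none,some 2,some 2,none,some 3,some 5,none,none,some 4,none,some 5,some 2,none,none,none,some 3,some 0,some 1,none,none,some 4,some 0,none,some 1,none,some 3,none,none,some 5,none,none,some 4,some 1,some 4,none,none,some 2,none,some 3,none,some 5,none,none,some 5,some 0,some 0,none,some 1,none,none,some 2,some 1,none,some 2,none,none,some 3,some 4,none,none,some 5,none,none,none,some 1,some 0,some 0,none,some 4,none,none,some 1,some 0,some 2,none,some 5,none,none,some 2,some 1,none,none,some 3,some 1,none,none,some 4,none,some 5,none,none,some 2,some 1,some 2,none,none,some 2,some 0,none,some 2,none,some 4,none,none,some 5,none,none,some 3,some 0,some 4,none,none,some 1,some 5,none,none,some 3,some 5,none,none,some 4,none,none,some 4,some 1,some 5,none,none,some 3,none,some 4,none,some 5,none,none,some 5,some 0,none,some 3,none,none,none,some 2,some 0,some 1,some 2,none,none,some 2,none,some 4,none,none,some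 1,some 0,none,some 3,some 5,none,none,some 4,none,none,some 2,some 2,some 3,none,none,none,some 3,some 0,none,some 2,some 4,none,none,some 3,none,some 4,none,none,some 4,some 0,none,some 5,none,none,some 5,some 1,none,some 5,none,none,none,some 3,some 0,some 0,none,some 1,none,some 2,none,some 3,some 0,none,none,some 4,none,some 5,none,none,some 1,some 0,none,some 2,none,none,some 2,some 2,none,some 4,none,none,some 3,some 1,none,some 2,none,none,some 4,some 1,none,some 2,none,none,some 5,some 2,none,some 4,none,some 5,some 2,none,none,none,none,some 4,some 0,some 3,none,none,some 1,some 4,none,some 5,none,none,some 2,some 1,none,some 3,none,some 4,none,some 5,none,none,some 3,some 1,none,some 3,none,some 5,none,none,some 5,some 1,some 3,none,none,some 4,none,some 5,none,none,none,some 5,some 0,some 4,none,none,some 2,some 0,none,some 5,none,none,some 3,none,some 5,none,none,none,none,some 1,some 0,some 0,none,some 1,some 1,none,some 2,none,some 3,none,none,some 3,none,none,some 1,some 0,none,some 1,some 4,none,none,some 4,some 1,none,none,some 5,none,none,some 2,some 2,none,some 4,none,none,some 3,some 0,none,some 3,some 1,none,none,some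 4,some 3,none,none,none,none,some 2,some 0,some 0,none,some 1,some 5,none,none,some 3,some 3,none,some 5,none,none,some 4,none,some 5,some 0,none,none,none,some 1,some 0,none,some 2,none,some 3,none,some 4,none,some 5,some 1,none,none,none,some 3,some 0,none,some 1,none,some 2,none,some 3,none,some 5,none,none,some 4,some 3,none,some 4,none,some 5,none,none,none,some 3,some 0,some 0,none,some 3,none,some 4,none,some 5,none,none,some 2,some 3,none,some 5,none,none,some 3,some 0,none,some 1,none,none,some 5,some 0,none,some 1,none,some 4,none,none,none,some 4,some 0,some 2,none,some 4,none,some 5,none,none,some 1,some 1,none,some 2,none,some 5,none,none,some 2,some 0,none,some 3,some 1,none,none,none,some 3,some 0,none,some 1,none,some 3,none,some 5,none,none,some 4,some 0,none,some 3,none,some 5,none,none,some 5,some 3,none,some 5,none,none,none,some 5,some 0,some 1,none,some 5,none,none,some 1,some 0,none,some 5,none,none,some 3,some 3,none,some 4,none,none,some 4,some 0,none,some 3,none,none,none]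
set_option maxRecDepth 100000 in
def posA : List ℕ := [250,142,281,205,266,206,113,265,173,179,164,240,269,107,253,254,151,188,263,280,161,211,189,241,150,272,112,111,247,270,201,155,212,273,180,177,123,170,251,217,267,138,162,120,246,261,130,128,131,197,219,149,183,257,220,207,202,203,116,146,221,243,165,181,210,122,127,213,141,237,178,194,279,232,218,196,156,187,154,264,110,268,163,153,278,234,195,235,168,192,117,260,118,236,185,191,245,249,225,125,276,215,175,172,224,208,119,159,271,227,230,226,259,108,160,106,262,239,152,139,109,135,252,214,134,200,204,166,121,248,136,114,231,169,209,145,222,129,228,190,148,274,184,147,199,275,277,258,132,144,176,255,140,171,238,256,233,242,244,229,198,186,216,137,182,157,133,167,143,158,174,124,223,115,126,193,351,337,325,55,99,350,299,319,294,78,87,73,58,285,349,29,5,338,18,304,0,16,328,17,53,75,45,282,11,92,288,32,311,287,1,65,94,348,100,84,309,15,305,89,98,339,336,300,81,86,34,90,344,289,105,96,101,326,56,283,48,6,91,62,317,2,340,23,38,292,57,331,321,64,68,76,103,345,323,286,308,310,7,77,320,329,12,25,333,19,347,88,318,306,296,97,39,42,22,54,20,343,330,93,95,70,74,60,72,301,303,293,83,314,80,291,332,341,307,37,315,85,316,322,82,59,24,334,104,33,46,290,297,8,61,295,327,63,35,298,13,9,10,79,40,36,302,312,26,51,27,284,21,335,28,14,49,66,67,342,47,44,50,346,69,313,30,324,3,52,31,4,71,43,102,41]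
set_option maxRecDepth 1000000 in
theorem runA : chkRun gens progA 683373266517750298021570786466677262 posA 352 = true := by decide +kernel

set_option maxRecDepth 100000 in
theorem cntA : cnt1 cL (-2064) + (sumS (cnt2 T2 14336) gB 0 + sumS (cnt3 T3 18436) gB 0) = 352 := by
  decide +kernel

def rootB : List ℕ := [16,20,16,16,16,16,16,16,16,16,16,16,16,16,16,16,16,16,16,16,16,16,16,12]
set_option maxRecDepth 100000 in
def progB : List (Option ℕ) := [some 0,some 0,none,some 3,none,some 4,none,some 6,some 0,some 0,some 0,some 0,some 1,none,some 3,none,none,some 2,some 3,none,some 5,none,none,some 4,some 5,none,none,some 5,some 4,none,none,none,some 1,some 1,none,some 2,none,some 3,some 5,none,none,some 5,some 0,none,none,none,some 2,some 0,some 4,none,none,some 2,none,some 3,some 2,none,none,some 4,some 5,none,none,some 5,none,none,some 3,some 0,none,some 1,some 5,none,none,some 2,none,some 4,some 0,none,some 2,none,none,some 5,none,none,some 4,some 0,some 4,none,none,some 2,none,some 3,none,some 4,some 4,none,none,some 5,some 3,none,none,none,some 5,some 1,none,some 2,some 0,none,none,some 4,none,some 5,some 0,none,none,none,none,some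 1,some 0,some 1,none,some 2,some 5,none,none,some 4,some 2,none,none,none,some 1,some 1,none,some 3,some 0,none,none,none,some 2,some 0,some 5,none,none,some 1,none,some 4,some 2,none,none,some 5,none,none,some 3,some 0,none,some 2,none,some 5,none,none,some 4,some 0,some 2,none,some 5,none,none,some 2,some 5,none,none,some 3,none,some 4,none,some 5,none,none,some 5,some 2,none,some 3,some 1,none,none,some 4,none,some 5,none,none,none,some 2,some 0,some 0,some 2,none,none,some 1,none,some 3,none,some 5,none,none,some 1,some 0,none,some 3,some 5,none,none,some 5,none,none,some 2,some 0,some 2,none,none,some 1,some 4,none,none,some 2,none,some 3,none,some 4,some 5,none,none,none,some 3,some 1,none,some 2,some 1,none,none,some 3,none,some 4,none,some 5,none,none,some 4,some 2,some 0,none,some 3,none,none,some 3,none,some 4,none,some 5,none,none,some 5,some 3,none,some 4,some 3,none,some 5,none,none,none,none,some 3,some 0,some 0,some 4,none,none,some 2,none,some 4,some 4,none,none,none,some 1,some 2,none,some 4,none,some 5,some 0,none,none,none,some 2,some 0,none,some 1,some 4,none,none,some 3,none,some 5,none,none,some 3,some 2,none,none,some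 5,some 2,some 0,none,none,some 4,none,none,none,some 4,some 0,some 0,some 5,none,none,some 1,none,some 2,none,some 3,none,some 4,some 1,none,none,some 5,none,none,some 1,some 1,none,some 2,none,none,some 2,some 1,none,some 4,none,some 5,none,none,some 3,some 2,none,some 3,some 1,none,none,none,some 4,some 0,some 2,none,none,some 1,none,some 3,none,some 4,some 3,none,none,none,some 5,some 0,none,some 3,none,some 4,none,some 5,none,none,none,some 5,some 0,some 1,none,some 2,none,some 3,none,some 4,none,none,some 1,some 0,none,some 2,none,some 3,none,some 5,none,none,some 2,some 0,none,some 1,none,some 3,none,some 4,none,none,some 3,some 0,none,some 1,none,some 2,none,some 3,none,some 4,none,some 5,none,none,some 4,some 1,none,some 5,none,none,some 5,some 0,none,some 4,none,none,none,none,some 1,some 0,some 0,some 0,none,some 1,none,some 2,none,some 4,none,some 5,none,none,some 1,some 1,none,some 3,none,some 4,none,none,some 2,some 0,none,some 1,none,some 4,some 5,none,none,some 5,none,none,some 3,some 2,none,some 5,none,none,some 4,some 0,none,some 1,none,some 2,some 5,none,none,some 4,none,none,some 5,some 0,none,some 1,none,some 4,none,none,none,some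 1,some 0,some 0,some 3,none,none,some 2,none,some 3,none,some 4,none,some 5,none,none,some 1,some 0,none,none,some 2,some 2,none,some 5,none,none,some 3,some 1,some 0,none,none,some 2,none,some 3,none,some 4,none,none,some 4,some 0,none,some 2,none,some 4,none,none,some 5,some 4,none,some 5,none,none,none,some 2,some 0,some 0,none,some 1,none,none,some 3,some 2,none,some 4,none,some 5,none,none,some 4,some 0,none,some 1,some 3,none,none,some 2,none,some 3,none,some 4,none,some 5,none,none,some 5,some 3,none,some 5,none,none,none,some 3,some 0,some 3,none,some 4,some 1,none,none,some 5,none,none,some 1,some 1,none,some 2,none,some 5,none,none,some 2,some 1,none,some 3,none,none,some 3,some 0,none,some 1,none,none,some 4,some 1,none,some 2,none,none,some 5,some 1,none,some 3,none,some 4,none,none,none,some 4,some 1,some 0,none,some 2,none,some 5,none,none,some 2,some 0,none,some 3,none,some 4,none,none,some 3,some 3,none,none,some 4,some 0,none,some 1,none,some 2,none,none,some 5,some 0,none,some 2,none,some 3,none,none,none,none,some 2,some 0,some 0,some 0,none,some 3,none,none,some 1,some 2,none,none,some 2,some 0,none,some 3,none,none,some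 4,some 0,none,some 2,none,some 4,none,none,some 5,some 0,none,some 1,none,some 4,none,none,none,some 1,some 0,some 0,none,none,some 1,some 3,none,some 4,none,none,some 3,some 0,none,some 2,none,some 4,none,some 5,none,none,some 5,some 0,none,some 1,none,some 3,none,some 5,none,none,none,some 2,some 2,some 1,none,some 2,none,none,some 3,some 2,none,none,some 4,some 3,none,some 5,none,none,some 5,some 1,none,some 2,none,some 3,none,some 5,none,none,none,some 3,some 1,some 0,none,some 1,none,some 2,none,some 3,none,some 4,none,none,some 3,some 2,none,none,some 4,some 5,none,none,some 5,some 1,none,some 3,none,none,none,some 4,some 0,some 0,none,none,some 1,some 1,none,none,some 2,some 0,none,some 3,none,some 5,none,none,some 3,some 0,none,some 1,none,none,some 4,some 1,none,some 4,none,some 5,none,none,some 5,some 1,none,some 2,none,some 5,none,none,none,some 5,some 1,some 0,some 0,none,none,some 2,none,some 4,none,none,some 2,some 0,none,some 1,none,none,some 3,some 0,none,some 3,none,some 4,none,none,some 4,some 5,none,none,some 5,some 0,none,none,none,none,some 3,some 0,some 1,some 3,none,some 4,none,none,some 2,some 2,none,some 3,none,none,some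 3,some 0,none,none,some 4,none,none,some 1,some 1,none,some 2,some 4,none,none,some 5,some 1,none,some 2,none,some 5,none,none,none,some 2,some 0,some 1,none,some 3,none,none,some 1,some 4,none,none,some 2,some 0,none,none,some 3,some 1,none,none,some 4,some 2,none,some 5,none,none,some 5,some 0,none,some 1,none,some 3,none,none,none,some 3,some 0,some 1,none,some 3,none,none,some 2,none,some 3,some 0,none,some 1,none,some 5,none,none,some 4,some 4,none,none,none,some 4,some 0,none,some 1,some 4,none,none,some 2,some 3,none,some 4,none,none,none,some 5,some 0,some 2,none,some 4,none,some 5,none,none,some 1,some 4,none,none,some 2,some 1,none,some 2,none,none,some 3,some 4,none,none,some 4,none,none,none,some 4,some 0,some 0,some 3,none,some 5,none,none,some 1,some 1,none,none,some 3,some 3,none,none,some 5,some 1,none,some 4,none,none,none,some 1,some 0,none,some 1,some 0,none,some 1,none,none,some 2,some 1,none,none,some 3,none,some 4,some 4,none,none,some 5,some 2,none,some 3,none,some 4,none,none,none,some 2,some 1,none,some 2,none,some 5,some 3,none,some 4,none,none,none,some 3,some 0,some 2,none,none,some 1,some 0,none,some 2,none,some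 4,none,none,some 2,none,some 3,none,some 4,some 0,none,some 1,none,some 4,none,none,none,some 4,some 0,none,some 1,some 0,none,some 5,none,none,some 2,none,some 3,some 1,none,none,some 4,none,none,some 5,some 0,some 2,none,none,some 2,some 2,none,none,some 3,some 0,none,some 5,none,none,some 4,some 1,none,some 4,none,none,some 5,some 0,none,some 2,none,none,none,none,some 5,some 0,some 0,some 1,none,none,some 3,some 2,none,none,some 5,some 1,none,none,none,some 1,some 0,some 2,none,none,some 2,none,some 3,none,some 4,none,none,some 2,some 1,some 2,none,none,some 2,some 5,none,none,some 3,some 2,none,none,some 4,none,none,some 3,some 0,some 3,none,none,some 1,none,some 2,some 2,none,none,some 3,none,some 4,some 1,none,some 4,none,none,none,some 4,some 1,some 0,none,none,some 3,some 4,none,none,some 4,some 5,none,none,none,some 5,some 0,some 1,none,some 3,none,none,some 4,none,some 5,some 0,none,none,none,none,none,none,some 2,some 0,none,some 1,some 0,none,none,some 2,none,none,some 3,some 0,none,some 4,none,some 5,none,none,some 4,some 0,none,some 2,none,some 4,none,none,some 5,some 0,none,some 2,none,some 4,none,none,some 6,some 0,some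 0,some 0,some 0,some 1,none,none,some 3,some 4,none,none,some 4,none,some 5,none,none,some 2,some 0,none,some 1,some 4,none,none,some 2,some 4,none,none,some 4,none,some 5,none,none,some 3,some 0,some 3,none,none,some 1,some 3,none,none,some 4,none,none,some 5,some 0,none,some 1,none,some 5,none,none,none,some 1,some 0,some 5,none,none,some 1,some 1,none,some 2,none,some 5,none,none,some 2,some 0,none,some 1,none,some 5,none,none,some 3,some 1,some 2,none,none,some 5,none,none,some 4,some 2,none,some 3,none,some 4,none,none,some 5,some 2,none,some 3,none,none,none,some 2,some 0,some 0,some 1,none,none,some 1,none,some 2,none,some 4,none,none,some 1,some 1,none,some 4,some 3,none,none,none,some 2,some 1,none,some 2,some 5,none,none,some 3,none,some 4,none,some 5,none,none,some 3,some 1,none,some 2,none,some 3,none,none,some 4,some 0,some 3,none,none,some 3,none,none,none,some 3,some 0,some 0,none,some 1,none,some 2,some 0,none,none,some 4,none,none,some 1,some 2,none,some 3,none,some 5,none,none,some 2,some 1,none,some 2,none,some 3,none,some 4,none,none,some 4,some 0,none,some 1,none,some 2,none,none,some 5,some 1,none,some 2,none,some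 3,none,none,none,some 4,some 0,some 0,none,some 1,none,some 2,none,some 4,none,none,some 1,some 0,none,some 2,none,some 3,none,some 4,none,none,some 2,some 0,none,some 3,none,some 4,none,none,some 3,some 1,none,some 2,none,some 4,none,none,some 4,some 1,none,some 2,none,some 3,none,some 4,none,none,some 5,some 5,none,none,none,some 5,some 0,some 1,none,some 5,none,none,some 1,some 0,none,some 2,none,some 3,none,none,some 2,some 1,none,some 5,none,none,some 3,some 0,none,some 4,none,some 5,none,none,some 4,some 3,none,some 5,none,none,some 5,some 1,none,some 3,none,some 4,none,none,none,none,some 1,some 0,some 0,some 0,none,some 2,none,some 3,none,some 4,none,some 5,none,none,some 2,none,some 3,some 0,none,some 1,none,some 4,some 1,none,none,some 5,none,none,some 4,some 0,none,some 2,none,some 3,none,none,some 5,some 1,none,none,none,some 1,some 0,some 1,none,some 2,none,some 4,none,some 5,none,none,some 1,some 0,none,some 2,none,some 3,none,none,some 2,some 4,none,some 5,none,none,some 3,some 0,none,some 1,none,some 5,none,none,some 5,some 2,none,some 3,none,none,none,some 2,some 0,some 1,none,some 4,none,none,some 1,some 2,none,some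 5,none,none,some 2,some 0,none,some 3,none,none,some 3,some 2,none,none,some 4,some 0,none,some 2,none,some 5,none,none,some 5,some 2,none,some 3,none,none,none,some 3,some 0,some 1,none,some 4,none,none,some 3,none,some 4,some 2,none,some 5,none,none,some 5,none,none,some 4,some 0,some 0,none,none,some 1,some 2,none,some 5,none,none,some 2,some 1,none,none,some 3,some 1,none,some 5,none,none,some 4,some 3,none,none,some 5,some 0,none,some 2,none,some 4,none,none,none,none,some 2,some 0,some 0,some 2,none,none,some 1,some 2,none,some 3,none,none,some 2,some 3,none,some 4,none,some 5,none,none,some 3,some 0,none,none,some 4,some 3,none,none,some 5,some 2,none,some 4,none,some 5,none,none,none,some 1,some 0,some 1,none,none,some 1,some 3,none,none,some 2,some 0,none,some 2,none,some 3,none,some 5,none,none,some 3,some 2,none,some 3,none,none,some 4,some 4,none,none,some 5,some 0,none,some 1,none,none,none,some 2,some 1,some 2,none,some 4,none,none,some 2,some 0,none,some 1,none,some 2,none,none,some 3,some 1,none,some 2,none,some 4,none,none,some 4,some 3,none,none,some 5,some 1,none,some 3,none,none,none,some 3,some 0,some 4,none,some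 5,none,none,some 1,some 1,none,some 3,none,none,some 2,some 2,none,none,some 3,some 4,none,none,some 4,some 0,none,some 5,none,none,some 5,some 2,none,some 3,none,none,none,some 4,some 0,some 1,none,some 3,none,some 4,none,none,some 1,none,some 2,some 0,none,some 3,none,none,some 3,none,some 4,none,some 5,some 4,none,none,none,some 5,some 1,some 1,none,none,some 2,none,some 3,none,some 4,some 4,none,none,none,none,some 3,some 0,some 0,some 4,none,none,some 4,some 2,none,some 4,none,some 5,none,none,none,some 1,some 0,some 1,none,none,some 2,some 2,none,none,some 4,some 0,none,none,none,some 2,some 0,some 1,none,some 2,none,some 3,none,none,some 1,none,some 2,none,some 3,some 0,none,some 4,none,none,some 5,some 1,none,some 2,none,none,none,some 3,some 0,none,some 1,some 1,none,some 2,none,some 3,none,none,some 2,some 5,none,none,some 3,some 0,none,none,some 4,some 3,none,none,some 5,some 3,none,none,none,some 4,some 0,some 4,none,none,some 1,none,some 4,some 3,none,some 4,none,none,some 5,none,none,some 5,some 1,some 2,none,some 4,none,none,some 2,none,some 3,some 3,none,none,some 4,none,some 5,some 4,none,none,none,none,some 4,some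 0,some 0,some 0,none,some 2,none,none,some 1,none,some 3,none,some 4,some 3,none,none,some 5,none,none,some 1,some 0,none,some 1,none,some 2,some 1,none,none,some 3,none,some 4,some 0,none,some 3,none,none,none,some 2,some 0,some 0,none,none,some 1,some 5,none,none,some 3,none,some 4,none,some 5,none,none,some 3,some 0,some 0,none,none,some 1,none,some 5,some 4,none,none,none,some 4,some 0,some 3,none,none,some 1,none,some 2,some 3,none,none,some 3,none,some 4,none,some 5,some 3,none,none,none,some 5,some 0,none,some 1,none,some 4,none,some 5,none,none,none,some 5,some 0,some 4,some 4,none,none,none,some 1,some 0,none,some 1,none,some 2,some 3,none,none,some 3,none,some 4,some 1,none,none,some 5,some 1,none,none,none,some 2,some 1,none,some 4,none,none,some 3,some 0,none,some 2,none,some 3,some 1,none,none,some 4,none,some 5,none,none,some 4,some 0,none,some 1,none,some 3,none,some 5,none,none,none,none]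
set_option maxRecDepth 100000 in
def posB : List ℕ := [1099,474,463,476,1095,470,468,473,462,1096,464,466,465,467,471,1098,469,475,472,1097,478,477,618,558,574,918,883,766,941,703,819,877,1082,860,853,1003,614,748,842,768,892,640,968,1065,733,978,709,553,625,928,1009,639,707,806,991,734,604,620,701,847,917,527,938,868,818,598,571,979,820,961,805,493,753,554,579,1089,935,720,757,611,1042,1024,1018,775,782,731,839,770,648,634,1093,654,932,728,673,910,745,843,735,1039,549,835,822,829,557,807,617,874,646,552,570,729,643,676,672,1060,1045,690,563,891,992,996,922,749,585,1012,580,506,902,487,813,624,882,722,526,612,747,890,489,615,679,940,1076,1004,542,622,583,746,1080,638,859,787,691,765,623,927,601,481,1057,1053,809,916,688,871,668,772,1064,888,708,1040,740,513,525,792,522,1073,597,952,647,838,717,586,786,1034,576,589,937,869,664,700,954,898,693,784,687,933,1048,990,810,739,1013,867,1069,713,756,1023,538,518,908,795,689,1087,559,686,670,866,698,718,607,721,680,716,524,1074,534,569,661,911,704,973,551,955,930,751,543,790,568,872,823,963,714,988,986,855,769,556,667,715,723,633,595,931,696,547,657,767,1032,510,485,545,532,817,628,967,764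,1031,631,562,798,983,970,627,957,483,1019,1092,878,929,681,632,732,796,636,821,816,651,851,814,1071,903,876,909,999,856,914,850,951,1070,800,948,517,1011,945,1063,564,788,802,901,763,832,548,939,789,1051,981,779,482,828,509,1072,846,873,771,711,936,516,754,616,995,942,804,512,780,712,619,1022,536,965,1027,1008,1038,926,502,591,989,862,977,825,684,905,541,1052,1055,1014,960,490,530,656,584,840,776,773,875,498,865,799,899,519,921,758,1085,1094,581,523,848,662,1079,572,1036,1090,1088,658,920,504,962,736,844,660,1041,1035,1016,587,486,719,1067,1068,567,907,1047,1049,724,738,863,694,645,637,984,479,560,669,858,881,1077,491,1000,592,520,1061,685,606,975,652,912,642,705,1046,613,555,699,1066,488,1075,811,791,896,602,834,743,608,982,710,603,540,521,1033,884,785,755,577,528,702,494,674,923,1025,671,956,1007,889,495,1050,997,678,497,1006,958,1026,565,566,741,1037,750,1058,783,897,998,682,880,857,895,550,605,987,515,1043,1010,665,752,1015,974,533,947,706,833,852,826,900,778,508,879,854,934,966,972,1086,985,594,827,737,759,621,794,1028,777,610,503,1005,537,885,864,913,649,499,1017,575,626,593,1056,742,578,944,659,573,781,600,774,980,677,1020,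815,507,1083,484,725,683,849,943,870,726,630,1059,590,801,797,830,1062,836,969,812,596,609,950,666,529,924,501,1078,762,582,894,697,904,949,1081,841,653,663,588,561,919,644,730,1021,1002,544,1029,641,514,808,994,803,1001,744,964,531,539,976,650,824,692,695,886,1091,505,535,1044,496,675,793,893,599,500,845,760,1054,887,480,959,546,915,511,655,925,629,837,953,906,635,861,946,993,1084,831,1030,727,971,492,761,452,162,16,165,149,39,362,238,363,202,123,267,196,182,124,311,460,189,435,302,131,84,148,429,314,419,122,223,395,345,183,111,105,110,255,213,66,408,98,50,279,29,216,175,35,448,55,254,59,417,174,416,341,390,15,391,53,436,360,109,153,220,146,172,11,87,310,197,186,92,37,26,161,253,128,377,14,376,232,383,80,388,88,99,299,270,217,51,287,378,1,207,178,188,137,301,272,156,459,351,319,355,236,248,282,106,164,45,117,195,396,38,167,275,46,361,437,315,271,239,242,224,445,364,41,214,150,461,69,86,203,54,431,456,100,389,52,297,82,316,208,283,89,317,323,159,337,434,306,65,180,309,72,296,119,399,192,320,405,32,147,412,20,215,400,144,118,398,328,168,120,56,427,384,280,397,201,60,278,401,249,312,133,352,173,307,385,179,190,58,185,44,3,367,298,198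,234,366,409,79,338,265,5,68,136,81,321,10,76,264,449,304,194,93,181,113,240,0,339,379,140,187,247,403,206,273,325,2,406,269,308,300,116,176,154,245,386,430,103,157,141,200,71,293,163,211,225,347,132,85,243,33,332,27,57,313,261,344,104,305,413,294,446,393,291,42,63,402,47,382,424,415,61,13,152,229,67,235,145,204,324,237,209,101,263,143,418,193,129,70,259,441,25,102,442,228,455,73,171,75,212,262,18,453,231,358,420,49,288,138,290,142,350,166,43,414,381,356,432,6,205,139,115,177,90,112,7,410,78,422,127,331,454,336,450,28,433,447,74,318,443,199,407,335,286,374,114,34,77,4,250,277,91,353,256,371,191,12,94,155,251,274,24,126,303,258,244,83,130,421,230,222,96,451,439,292,125,276,8,266,170,457,375,23,340,260,107,380,458,365,373,295,330,246,370,252,423,221,64,19,17,158,21,48,36,219,22,95,438,349,135,97,359,281,392,343,334,40,284,428,289,440,411,327,285,346,62,372,9,241,31,210,387,227,134,426,218,369,329,184,322,342,169,354,151,444,326,368,394,226,333,268,121,404,257,233,160,30,348,357,425,108]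
set_option maxRecDepth 1000000 in
theorem runB : chkRun gens progB 519899659641680805127698729222554256 posB 1100 = true := by decide +kernel

set_option maxRecDepth 100000 in
theorem cntB : cnt1 cL (4080) + (sumS (cnt2 T2 20480) gB 0 + sumS (cnt3 T3 24580) gB 0) = 1100 := by
  decide +kernel

end Cfsg.Agent.Lib.Helper37.D1641
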