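import Mathlib
import Cfsg.Agent.Lib.Helper37.D1641a

set_option autoImplicit false

/-! # Kernel data for the orbits of the stabiliser of `(5,1,…,1)` and `(-4,4,0,…,0)` (generated) -/

namespace Cfsg.Agent.Lib.Helper37.D1641

open Cfsg Cfsg.Agent.Lib.Helper9 Cfsg.Agent.Lib.Helper10 Cfsg.Agent.Lib.Helper37

def rootC : List ℕ := [14,16,18,16,16,16,16,16,16,16,16,18,16,16,14,16,16,16,16,16,14,14,14,14]
set_option maxRecDepth 100000 in
def progC : List (Option ℕ) := [some 0,some 0,some 0,some 0,some 3,none,none,some 1,some 0,none,some 5,none,none,some 2,none,some 3,some 4,none,some 5,none,none,some 4,some 5,none,none,some 5,some 0,none,none,none,some 1,some 0,some 5,none,none,some 1,some 3,none,some 4,none,none,some 2,some 3,none,none,some 3,some 0,none,none,some 4,some 1,none,none,none,some 2,some 0,some 0,none,some 1,none,none,some 1,some 4,none,some 5,none,none,some 2,some 0,none,some 2,none,some 3,none,none,some 3,some 3,none,some 4,none,some 5,none,none,some 4,some 0,none,none,some 5,none,none,some 3,some 1,none,some 2,some 2,none,some 4,none,none,some 3,some 1,none,some 3,none,none,some 4,some 0,none,some 2,none,none,some 5,some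 1,none,some 4,none,some 5,none,none,none,some 4,some 2,some 2,none,some 4,none,none,some 3,none,some 5,some 2,none,some 3,none,some 4,none,none,none,some 5,some 0,some 4,none,some 5,none,none,some 1,some 1,none,some 2,none,some 4,none,none,some 2,some 0,none,some 4,none,some 5,none,none,some 3,some 4,none,none,some 4,some 0,none,some 1,none,none,some 5,some 0,none,some 2,none,some 4,none,none,none,none,some 1,some 0,some 0,some 0,none,some 3,none,none,some 1,some 0,none,some 2,none,some 4,none,none,some 2,some 0,none,some 1,none,some 2,none,some 3,none,none,some 3,some 3,none,some 4,none,some 5,none,none,some 4,some 1,none,none,some 5,some 2,none,none,none,some 1,some 0,some 4,none,some 5,none,none,some 1,some 4,none,none,some 2,some 0,none,some 3,none,none,some 3,some 5,none,none,some 4,none,some 5,some 3,none,some 4,none,none,none,some 2,some 0,none,some 1,some 0,none,some 1,none,none,some 2,some 3,none,none,some 3,none,some 4,some 4,none,none,some 5,some 2,none,some 5,none,none,none,some 3,some 1,some 1,none,some 2,none,some 3,none,some 5,none,none,some 2,some 1,none,some 2,none,none,some 3,some 3,none,some 4,none,none,some 4,some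 5,none,none,none,some 4,some 0,some 1,none,some 3,none,none,some 3,some 1,none,none,some 4,some 0,none,some 1,none,none,some 5,some 2,none,none,none,some 5,some 3,some 1,none,some 5,none,none,some 4,none,some 5,some 1,none,some 4,none,none,none,none,some 2,some 0,some 2,some 1,some 0,none,none,some 4,none,none,some 4,some 0,none,some 1,none,none,some 5,none,none,some 1,some 0,some 2,none,none,some 2,some 0,none,some 2,none,some 3,none,some 4,none,none,some 4,some 0,none,some 3,none,none,none,some 2,some 0,none,some 2,some 4,none,some 5,none,none,some 3,none,some 4,some 2,none,none,some 5,none,none,some 3,some 2,some 4,none,none,some 3,some 1,none,some 2,none,some 3,none,some 4,none,none,some 5,none,none,some 4,some 0,some 1,none,some 2,none,some 3,none,some 4,none,some 5,none,none,some 1,some 1,none,none,some 3,none,some 4,some 0,none,some 1,none,none,some 5,some 2,none,none,none,some 5,some 0,none,some 1,none,some 2,some 0,none,none,some 3,some 0,none,none,some 4,none,none,none,some 3,some 1,some 0,some 1,none,some 5,none,none,some 1,some 4,none,some 5,none,none,some 2,none,some 3,some 2,none,some 5,none,none,some 4,some 1,none,none,some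 5,none,none,some 2,some 0,none,some 3,some 1,none,some 2,none,some 4,none,some 5,none,none,some 4,some 4,none,none,none,some 3,some 0,some 1,none,some 5,none,none,some 1,none,some 2,some 1,none,some 3,none,none,some 4,some 3,none,none,some 5,some 0,none,some 5,none,none,none,none,some 4,some 0,some 0,some 0,none,some 3,none,none,some 1,some 0,none,some 2,none,some 4,none,none,some 2,some 2,none,some 4,none,none,some 3,some 3,none,some 5,none,none,none,some 1,some 0,some 1,none,none,some 1,none,some 2,none,some 5,some 1,none,some 5,none,none,none,some 2,some 2,some 2,none,none,some 3,some 3,none,some 4,none,none,some 5,some 1,none,none,none,some 3,some 0,none,some 2,some 3,none,none,some 3,some 0,none,none,some 4,some 1,none,some 3,none,none,none,some 4,some 0,some 0,none,some 2,none,some 4,none,some 5,none,none,some 2,none,some 3,none,some 4,some 3,none,none,some 5,some 0,none,some 3,none,some 4,none,none,none,some 5,some 1,some 0,none,some 4,none,none,some 4,none,some 5,some 0,none,some 1,none,some 2,none,none,none,none,some 5,some 0,some 0,none,some 1,none,some 2,some 0,none,none,some 5,none,none,some 1,some 1,some 2,none,none,some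 2,none,some 3,none,some 4,some 1,none,some 4,none,none,some 5,some 0,none,none,none,some 2,some 0,some 3,none,none,some 2,some 3,none,none,some 3,some 0,none,some 1,none,none,some 4,none,some 5,some 3,none,none,none,some 3,some 0,some 3,none,none,some 1,none,some 2,some 4,none,none,some 3,some 0,none,none,some 5,none,none,some 4,some 0,some 1,none,some 4,none,none,some 1,none,some 2,some 0,none,some 1,none,some 2,none,none,some 3,some 2,none,some 3,none,none,some 4,none,some 5,none,none,some 5,some 0,none,some 1,none,some 4,none,none,none,none,some 1,some 0,some 0,some 1,some 1,none,none,some 2,none,some 3,none,some 4,some 0,none,some 4,none,none,some 5,some 2,none,some 4,none,some 5,none,none,none,some 1,some 0,none,some 1,none,some 2,some 4,none,none,some 3,none,some 5,none,none,some 2,some 0,some 4,none,none,some 1,none,some 2,some 0,none,some 3,none,none,some 3,none,some 5,some 2,none,none,none,some 3,some 0,none,some 1,none,some 2,none,some 3,some 4,none,none,some 4,none,some 5,none,none,some 4,some 2,none,some 3,none,some 4,some 3,none,none,some 5,none,none,some 5,some 0,some 2,none,some 3,none,some 4,none,none,some 1,none,some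 2,some 0,none,none,none,none,some 1,some 1,some 3,some 1,none,some 5,none,none,some 4,some 1,none,none,none,some 2,some 2,some 2,none,some 3,none,some 4,none,none,some 3,some 2,none,none,some 5,none,none,some 5,some 0,some 5,none,none,some 3,some 1,none,some 2,none,none,none,none,some 2,some 0,some 1,none,some 2,none,some 3,some 4,none,none,some 4,some 2,none,some 5,none,none,some 5,some 0,none,some 1,none,none,none,some 1,some 0,some 5,none,none,some 1,none,some 3,none,some 4,none,none,some 2,some 0,none,some 1,none,some 2,none,some 3,some 2,none,some 3,none,none,some 5,none,none,some 3,some 1,some 2,none,some 3,none,none,some 2,none,some 3,none,some 4,none,some 5,none,none,some 4,some 0,none,some 2,some 4,none,none,some 4,some 4,none,none,some 5,some 1,none,none,none,some 5,some 0,none,some 1,none,some 2,none,some 4,some 0,none,none,none,none,some 3,some 0,some 0,none,some 1,some 2,none,none,some 2,none,none,some 1,some 0,none,some 4,none,none,some 2,some 0,some 3,none,none,some 2,some 3,none,some 4,none,none,none,some 3,some 0,some 1,none,some 3,none,none,some 1,none,some 2,none,some 3,none,some 4,some 5,none,none,none,some 4,some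 0,none,some 3,none,none,some 5,some 1,some 0,none,some 4,none,none,some 2,none,some 4,some 0,none,some 2,none,none,some 5,none,none,none,some 4,some 0,some 0,none,some 2,none,some 3,some 3,none,none,some 4,none,some 5,some 0,none,none,none,some 1,some 1,none,some 2,none,some 4,none,some 5,none,none,some 2,some 0,some 1,none,none,some 1,none,some 2,some 0,none,none,some 4,none,some 5,none,none,some 3,some 0,some 1,none,none,some 1,some 4,none,none,some 3,none,some 4,none,none,some 4,some 0,some 2,none,none,some 2,none,some 3,some 2,none,none,none,some 5,some 0,none,some 2,some 5,none,none,some 3,none,some 4,some 0,none,none,some 5,some 2,none,none,none,none,some 5,some 0,some 3,none,some 5,none,none,some 1,some 1,none,some 2,none,some 5,none,none,some 2,some 2,none,some 3,some 4,none,none,some 4,none,some 5,none,none,some 3,some 0,none,some 1,some 3,none,none,some 2,none,some 3,none,none,some 5,some 2,none,some 3,none,none,none,none,some 2,some 0,some 0,some 1,some 0,none,none,some 4,none,some 5,none,none,some 3,some 0,some 1,none,some 3,none,none,some 2,some 4,none,none,some 3,none,some 4,none,some 5,none,none,some 4,some 0,none,some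 3,none,some 5,none,none,some 5,some 1,none,some 3,none,none,none,some 1,some 0,some 0,none,some 1,none,some 2,none,some 4,none,none,some 2,none,some 3,some 0,none,some 1,some 3,none,none,some 3,none,some 5,none,none,some 4,some 0,some 0,none,none,some 1,none,some 2,none,some 3,some 4,none,none,some 5,some 4,none,none,none,some 5,some 0,none,some 2,none,some 3,none,some 5,none,none,none,some 2,some 0,some 1,none,some 2,none,none,some 1,some 5,none,none,some 2,some 1,some 3,none,none,some 2,some 1,none,none,some 4,none,some 5,none,none,some 4,some 0,none,some 2,none,some 4,none,none,some 5,some 0,none,some 1,none,some 3,none,none,none,some 3,some 0,some 3,none,some 4,none,some 5,some 4,none,none,none,some 1,some 1,none,some 2,some 0,none,none,some 3,none,some 4,none,none,some 2,some 2,none,some 3,some 4,none,none,some 4,none,some 5,some 3,none,none,none,some 3,some 0,some 2,none,none,some 1,none,some 3,none,some 4,none,some 5,some 3,none,some 4,none,none,none,some 5,some 0,none,some 2,none,some 3,some 0,none,none,none,none,some 4,some 0,some 2,some 2,none,none,some 5,some 4,none,none,none,some 1,some 0,some 2,none,none,some 1,none,some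 3,some 0,none,some 3,none,none,none,some 2,some 0,none,some 1,none,some 2,some 0,none,none,some 5,none,none,some 3,some 1,none,none,some 4,some 1,none,some 2,none,some 3,none,some 5,none,none,some 5,some 1,none,some 3,none,some 4,none,some 5,none,none,none,some 5,some 0,some 0,none,some 2,none,some 3,none,some 4,none,some 5,none,none,some 1,some 0,none,some 2,none,some 3,none,some 4,none,some 5,none,none,some 2,some 2,none,some 4,none,none,some 3,some 1,none,some 2,none,some 3,none,some 5,none,none,some 4,some 0,some 4,none,none,some 2,none,some 3,none,some 4,none,some 5,none,none,some 5,some 1,none,some 2,none,some 4,none,none,none,none,some 3,some 0,some 0,some 1,none,some 2,some 0,none,none,some 3,none,some 5,some 0,none,none,none,some 1,some 0,none,some 1,none,some 5,none,none,some 2,some 5,none,none,some 3,some 2,none,none,some 4,some 0,none,some 3,none,some 5,none,none,some 5,some 2,some 0,none,none,some 4,none,some 5,none,none,none,some 1,some 0,some 0,some 4,none,none,some 2,none,some 4,none,none,some 1,none,some 2,some 1,some 1,none,none,some 3,none,some 4,some 0,none,none,none,some 3,some 1,none,some 2,none,some 5,none,none,some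 4,some 0,none,some 1,none,some 3,none,some 4,none,none,none,some 2,some 0,some 2,none,some 3,none,none,some 1,some 0,none,some 4,none,none,some 2,some 0,some 1,none,none,some 1,some 0,none,none,some 2,some 4,none,none,some 4,none,some 5,none,none,some 3,some 1,none,none,some 4,some 0,none,some 2,none,some 3,none,some 4,none,some 5,none,none,some 5,some 1,none,some 2,none,some 4,none,some 5,none,none,none,some 3,some 0,some 0,none,some 1,none,some 2,none,none,some 1,some 1,none,some 2,none,some 4,none,none,some 2,some 1,none,some 2,none,some 4,none,none,some 3,some 0,none,some 1,none,some 3,none,some 4,none,none,some 4,some 0,none,some 1,none,some 3,none,some 4,none,some 5,none,none,some 5,some 1,none,some 4,none,none,some 6,some 0,some 0,some 0,some 0,none,some 2,none,some 4,none,none,some 1,some 2,none,some 3,none,none,some 2,some 0,none,some 5,none,none,some 3,some 4,none,none,some 4,some 3,none,some 4,none,none,some 5,some 0,none,some 1,none,some 2,none,some 4,none,none,none,some 1,some 0,some 2,none,none,some 2,some 4,none,none,some 3,some 0,none,some 1,some 5,none,none,some 3,none,some 5,some 3,none,none,none,some 4,some 2,none,some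 3,none,some 4,none,none,some 5,some 3,none,some 4,none,none,none,some 2,some 0,some 0,none,some 5,none,none,some 1,some 2,none,some 3,none,some 4,none,none,some 2,some 3,none,some 4,none,none,some 3,some 1,none,some 3,none,some 4,none,none,some 4,some 2,none,some 3,none,none,some 5,some 5,none,none,none,some 3,some 3,some 3,none,some 4,some 4,none,none,some 5,none,none,some 5,some 1,none,some 2,none,some 3,none,some 4,none,none,none,some 4,some 0,some 0,none,some 1,none,some 5,none,none,some 1,none,some 2,some 1,none,some 3,none,none,some 3,some 1,none,some 2,none,some 5,none,none,some 4,some 2,none,none,some 5,some 0,none,some 5,none,none,none,some 5,some 2,some 0,none,none,some 3,some 0,none,none,some 4,some 1,none,some 5,none,none,some 5,none,none,none,some 1,some 0,some 1,some 2,none,some 3,none,some 4,none,some 5,none,none,some 3,some 3,none,some 5,none,none,some 4,some 2,none,some 3,none,some 5,none,none,some 5,some 1,none,some 2,none,some 3,none,some 5,none,none,none,some 2,some 0,some 2,none,none,some 1,some 4,none,none,some 2,some 1,none,some 4,none,none,some 4,some 0,none,some 2,none,some 4,none,some 5,none,none,none,some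 3,some 0,some 0,none,some 1,none,none,some 1,some 0,none,some 4,none,none,some 2,some 2,none,some 3,none,some 5,none,none,some 3,some 0,none,some 1,none,none,some 4,some 4,none,none,some 5,some 1,none,some 3,none,some 5,none,none,none,some 4,some 0,none,some 1,some 1,none,none,some 3,none,some 4,some 5,none,none,some 5,some 3,none,some 4,none,none,none,some 5,some 0,some 1,none,some 2,none,none,some 1,some 2,none,none,some 2,some 1,none,some 3,none,some 4,none,none,some 3,some 5,none,none,some 5,some 2,none,none,none,none,some 2,some 0,some 0,some 1,none,some 3,none,none,some 1,some 4,none,none,some 3,none,some 5,some 2,none,some 3,none,some 4,none,none,none,some 1,some 0,some 4,none,none,some 1,none,some 5,some 1,none,some 2,none,none,none,some 2,some 0,some 5,none,none,some 1,some 2,none,none,some 2,some 5,none,none,some 4,some 4,none,none,some 5,none,none,some 3,some 0,none,some 1,some 1,none,some 4,none,none,some 2,none,some 3,none,some 5,none,none,some 4,some 1,some 3,none,some 5,none,none,some 3,some 3,none,some 4,none,none,some 4,none,none,some 5,some 0,some 0,none,some 2,none,none,some 1,some 3,none,none,some 2,none,some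 3,none,some 5,none,none,none,some 3,some 1,some 0,some 2,none,none,some 2,none,some 4,some 2,none,none,some 5,none,none,some 2,some 3,none,some 5,none,none,some 3,some 0,none,some 1,some 3,none,none,some 2,none,some 3,some 5,none,none,some 5,some 2,none,none,none,some 4,some 0,some 3,none,none,some 2,none,some 3,none,some 4,some 1,none,none,some 5,some 5,none,none,none,some 5,some 3,some 1,none,none,some 5,none,none,none,some 4,some 0,some 1,none,some 2,some 1,none,none,some 3,some 4,none,none,some 4,some 3,none,none,none,some 1,some 0,none,some 5,none,none,some 2,some 0,none,some 1,none,some 3,some 3,none,none,some 4,some 3,none,some 4,none,none,some 5,none,none,some 3,some 0,some 0,none,none,some 1,none,some 3,some 2,none,some 3,none,none,some 4,none,some 5,none,none,some 4,some 0,none,some 1,none,some 2,none,some 4,none,some 5,none,none,some 5,some 0,none,some 1,none,some 2,none,some 5,none,none,none,some 5,some 0,some 0,none,some 1,none,some 2,none,none,some 1,some 2,none,some 3,none,some 4,none,none,some 3,some 1,none,some 2,none,some 4,none,some 5,none,none,some 4,some 1,some 4,none,none,some 2,some 0,none,none,some 3,none,some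 4,none,none,some 5,some 0,none,some 1,none,some 2,none,some 4,none,none,none,none,none,some 4,some 0,some 1,none,none,some 1,some 2,none,some 3,none,some 4,none,some 5,none,none,some 2,some 0,none,some 4,none,none,some 3,some 1,none,some 2,none,some 3,none,some 4,none,some 5,none,none,some 4,some 0,none,some 1,none,some 5,none,none,some 5,some 0,none,some 1,none,some 2,none,some 3,some 3,none,none,none,none,some 5,some 0,some 1,none,some 2,none,some 3,none,some 4,none,some 5,some 4,none,none,none,some 1,some 0,none,some 3,none,none,some 2,some 0,none,some 1,none,some 2,none,none,some 3,some 0,none,some 3,none,none,some 4,some 1,none,some 2,none,none,some 5,some 0,none,some 1,none,some 4,none,some 5,none,none,none,none,some 4,some 0,some 0,some 0,some 4,none,none,some 1,none,some 4,none,some 5,none,none,some 1,some 0,none,some 4,none,none,some 2,some 2,none,some 4,none,none,some 3,some 0,none,none,some 5,some 2,none,none,none,some 1,some 0,some 1,none,some 2,none,none,some 2,some 0,none,some 3,none,some 5,none,none,some 3,some 2,none,some 4,none,some 5,none,none,some 4,some 1,none,some 3,none,none,some 5,some 4,some 0,none,none,none,none,some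 2,some 1,some 0,none,some 1,none,some 4,none,none,some 2,some 0,none,some 4,none,none,some 3,some 0,none,some 1,none,some 2,none,some 3,none,none,some 4,some 5,none,none,some 5,some 2,none,none,none,some 3,some 0,some 1,none,some 4,none,some 5,none,none,some 1,some 1,none,some 4,none,some 5,none,none,some 2,some 3,none,none,some 4,some 0,none,some 1,none,some 2,none,some 3,none,some 4,none,none,some 5,some 0,none,some 3,none,some 4,none,some 5,none,none,none,some 4,some 0,some 3,none,some 4,none,none,some 2,some 3,none,some 5,none,none,some 3,some 0,some 5,none,none,some 3,none,some 4,some 5,none,none,some 5,none,none,some 4,some 0,none,some 5,none,none,some 5,some 1,none,some 2,none,none,none,some 5,some 0,some 5,none,none,some 2,some 1,none,some 2,none,some 4,none,some 5,none,none,some 3,some 2,none,none,some 4,some 0,none,some 3,none,some 5,none,none,some 5,some 0,none,some 2,none,some 5,none,none,none,none,some 5,some 0,some 0,some 0,none,some 4,none,some 5,none,none,some 1,some 0,none,some 1,none,some 2,none,none,some 2,some 2,none,some 5,none,none,some 3,none,some 4,some 3,none,some 4,none,none,none,some 1,some 0,some 2,none,none,some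 1,some 1,none,some 2,none,some 3,none,none,some 2,some 1,none,some 4,none,none,some 3,some 1,none,some 4,none,some 5,none,none,some 4,some 1,none,some 4,none,some 5,none,none,some 5,none,none,some 2,some 0,some 2,none,some 5,none,none,some 1,some 0,none,some 5,none,none,some 2,some 1,none,some 5,none,none,some 3,some 0,none,some 4,none,none,some 5,some 0,none,none,none,some 3,some 0,some 1,none,some 5,none,none,some 1,some 0,none,some 2,none,none,some 2,some 0,none,some 1,none,some 3,none,some 4,none,none,some 3,none,some 4,some 2,none,some 3,none,none,some 5,some 4,none,none,none,some 4,some 0,some 1,none,some 5,none,none,some 1,some 0,none,none,some 2,some 0,none,some 3,none,none,some 3,some 0,none,some 3,none,none,some 4,some 0,none,none,some 5,some 2,none,some 4,none,some 5,none,none,none,some 5,some 0,some 2,none,some 4,none,none,some 2,some 0,none,some 2,none,some 3,none,none,some 3,some 2,none,some 5,none,none,some 4,some 1,none,some 3,none,none,none,none,some 6,some 0,some 0,some 0,some 0,some 2,some 3,none,none,some 3,none,some 5,none,none,some 1,some 0,none,some 2,none,some 3,some 2,none,some 5,none,none,some 4,some 1,none,none,none,some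 2,some 0,none,some 1,none,some 2,some 0,none,none,some 3,none,none,some 3,some 0,none,some 1,none,some 3,some 2,none,none,some 4,none,some 5,some 4,none,none,none,some 4,some 0,none,some 1,none,some 3,some 1,none,none,some 4,none,some 5,none,none,some 5,some 1,some 1,none,none,none,none,some 1,some 0,some 1,some 2,none,none,some 2,none,some 3,some 3,none,none,some 5,none,none,some 1,some 0,none,some 1,none,some 3,none,none,some 3,some 1,none,some 2,none,some 3,some 4,none,none,some 4,some 5,none,none,some 5,none,none,some 4,some 0,none,some 3,none,some 5,none,none,some 5,some 0,none,some 2,none,some 3,some 0,none,none,some 5,none,none,none,some 2,some 0,some 0,none,some 2,some 3,none,some 5,none,none,some 3,none,some 4,none,none,some 1,some 2,some 1,none,none,some 4,none,none,some 2,some 0,none,some 2,none,some 4,some 1,none,none,some 5,some 1,none,none,none,some 3,some 1,some 1,none,none,some 3,none,some 4,none,some 5,none,none,some 4,some 0,some 0,none,some 3,none,none,some 2,none,some 3,some 2,none,none,some 5,some 0,none,none,none,some 5,some 0,none,some 1,none,some 2,some 4,none,none,some 3,none,some 4,none,some 5,none,none,none,some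 3,some 0,some 2,none,none,some 1,some 0,some 4,none,none,some 1,some 2,none,none,some 3,none,none,some 2,some 0,none,some 1,some 0,none,none,some 2,some 5,none,none,some 3,none,some 4,some 2,none,none,some 5,some 5,none,none,none,some 3,some 0,none,some 1,some 2,none,none,some 2,none,some 3,some 0,none,none,some 4,none,some 5,none,none,some 4,some 1,none,some 2,none,some 3,none,some 4,none,some 5,none,none,some 5,some 2,some 2,none,none,some 3,none,some 4,none,none,none,some 4,some 0,some 2,none,some 5,none,none,some 1,some 2,none,some 3,none,none,some 2,some 0,none,some 1,none,some 2,none,none,some 3,some 0,none,some 2,some 5,none,none,some 4,some 0,none,some 3,none,none,none,some 4,some 0,none,some 1,none,some 2,none,some 3,some 5,none,none,some 5,some 4,none,none,none,some 5,some 3,none,some 4,none,none,none,some 5,some 0,some 0,none,some 1,none,some 5,none,none,some 1,some 2,none,some 3,none,some 4,none,some 5,none,none,some 2,some 0,none,some 1,none,some 2,none,some 3,none,some 4,none,none,some 3,some 0,none,some 4,some 4,none,none,none,some 4,some 0,some 3,none,none,some 2,none,some 5,none,none,some 5,some 2,none,some 5,some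 0,none,none,none,none,none,some 1,some 0,some 0,some 2,none,some 3,none,none,some 1,some 0,none,some 3,none,some 4,none,some 5,none,none,some 2,some 0,none,some 2,none,none,some 3,some 0,none,some 2,some 5,none,none,some 3,none,some 4,none,some 5,none,none,some 4,some 0,none,some 2,none,some 5,none,none,some 5,some 2,none,some 3,none,none,none,some 1,some 1,some 2,none,some 4,none,some 5,none,none,some 2,some 3,none,none,some 3,some 0,none,some 1,none,some 2,none,none,some 4,some 3,none,some 4,none,none,some 5,some 1,none,some 2,none,none,none,some 2,some 0,some 1,none,some 2,none,none,some 2,none,some 3,some 1,none,some 2,none,some 3,none,some 5,none,none,some 4,some 0,none,some 1,none,some 3,none,none,some 5,some 0,none,some 2,none,some 4,none,none,none,some 3,some 0,some 1,none,some 5,none,none,some 1,some 0,none,some 1,some 0,none,none,some 3,none,some 5,none,none,some 2,some 1,some 3,none,none,some 3,some 1,none,none,some 4,none,some 5,none,none,some 3,some 2,none,some 3,none,some 5,none,none,some 4,some 0,none,some 1,none,some 2,none,some 3,some 0,none,none,some 5,none,none,some 5,some 1,none,some 4,none,some 5,none,none,none,some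 4,some 0,some 0,none,some 1,none,some 3,none,none,some 1,some 1,none,some 2,none,none,some 2,some 0,some 2,none,none,some 2,none,some 5,none,none,some 3,some 0,some 2,none,some 4,none,none,some 3,none,some 4,none,some 5,none,none,some 4,some 1,none,some 2,none,some 3,none,some 5,none,none,some 5,some 1,none,some 2,none,some 5,none,none,none,some 5,some 0,some 1,none,some 2,none,none,some 1,some 2,some 2,none,none,none,some 2,some 0,none,some 1,none,some 2,none,some 5,none,none,some 3,some 1,none,some 2,none,some 3,none,some 4,none,none,some 4,some 2,none,some 5,none,none,none,none,some 2,some 0,some 0,some 0,none,some 1,none,some 3,none,some 4,none,none,some 1,some 1,none,some 4,none,some 5,none,none,some 2,some 3,none,none,some 3,some 0,none,some 1,none,some 2,some 1,none,none,some 4,none,none,some 4,some 0,some 3,none,none,some 2,none,some 3,none,some 5,none,none,some 5,some 1,some 3,none,none,some 2,none,some 3,none,some 4,some 4,none,none,some 5,none,none,none,some 1,some 0,some 1,none,some 2,none,some 3,none,some 4,none,some 5,none,none,some 1,some 0,none,none,some 2,some 0,none,some 1,none,some 2,none,some 4,none,some 5,some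 4,none,none,none,some 3,some 0,none,some 2,none,some 3,some 4,none,none,none,some 4,some 0,some 1,none,some 3,none,none,some 1,none,some 3,none,none,none,some 2,some 1,some 0,none,some 1,some 0,none,none,some 2,some 1,none,some 5,none,none,some 3,none,none,some 2,some 1,none,some 2,none,some 3,none,some 4,none,some 5,none,none,some 3,some 2,none,some 3,some 4,none,none,some 4,none,some 5,none,none,some 4,some 2,none,some 3,some 2,none,none,some 4,none,none,some 5,some 3,none,some 4,none,none,none,some 3,some 0,some 3,none,some 4,some 5,none,none,some 5,none,none,some 1,some 2,none,some 3,none,none,some 2,some 0,none,some 1,none,some 5,none,none,some 3,some 0,none,some 1,none,some 2,none,some 4,none,none,some 4,some 0,none,some 1,none,some 4,none,none,some 5,some 3,none,none,none,some 4,some 0,some 0,none,some 1,some 2,none,none,some 3,none,some 4,none,none,some 1,some 0,none,some 1,none,some 3,none,none,some 2,some 0,none,some 1,none,some 2,none,some 4,none,some 5,none,none,some 4,some 0,none,none,none,some 5,some 0,some 0,none,some 1,none,none,some 1,some 0,none,some 1,none,some 2,none,some 4,none,none,some 2,some 2,none,none,some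 3,some 0,none,some 2,none,some 3,none,some 4,none,some 5,none,none,some 4,some 1,none,none,some 5,some 1,none,some 5,none,none,none,none,some 3,some 0,some 0,some 0,none,some 5,none,none,some 1,none,some 2,some 0,some 4,none,none,some 5,none,none,some 3,some 0,none,some 2,none,some 3,none,some 5,none,none,some 4,some 0,none,some 4,none,some 5,none,none,some 5,some 0,none,some 1,none,some 2,none,some 3,none,some 4,none,none,none,some 1,some 0,some 0,none,some 2,none,some 3,none,some 4,none,some 5,none,none,some 1,some 3,none,none,some 2,some 1,none,some 5,none,none,some 3,some 0,none,some 1,none,some 2,none,none,some 4,some 0,none,some 1,none,some 2,none,some 4,none,none,some 5,some 2,none,some 3,none,some 5,none,none,none,some 2,some 0,some 1,none,some 2,none,some 5,none,none,some 2,some 2,none,some 4,none,none,some 3,some 1,none,some 2,none,some 4,none,none,some 4,some 4,none,none,some 5,some 4,none,some 5,none,none,none,some 3,some 0,some 1,none,some 2,none,some 4,some 3,none,none,some 5,none,none,some 1,some 0,none,some 3,none,some 4,none,none,some 2,some 1,none,some 2,none,some 3,none,some 5,none,none,some 3,some 1,some 3,none,some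 5,none,none,some 4,none,none,some 5,some 0,none,some 1,none,some 2,none,some 4,none,none,none,some 4,some 0,some 1,none,some 5,none,none,some 1,some 0,none,some 2,none,some 4,none,none,some 2,some 0,none,some 2,none,some 3,none,none,some 3,some 0,none,none,some 4,some 1,none,some 3,none,some 5,none,none,some 5,some 0,none,some 1,none,some 2,none,some 4,none,none,none,none,some 4,some 0,some 0,some 1,none,some 4,none,none,some 1,some 1,none,some 2,none,some 3,none,some 5,none,none,some 2,some 1,none,some 5,none,none,some 3,some 1,none,some 2,none,some 4,none,some 5,none,none,some 4,some 0,none,some 1,none,some 2,none,some 3,none,some 4,none,none,some 5,some 1,none,some 2,none,some 3,none,none,none,some 1,some 0,some 1,none,some 2,none,some 3,some 5,none,none,some 5,none,none,some 1,some 0,none,some 1,none,some 2,none,none,some 2,some 4,none,some 5,none,none,some 4,some 1,none,some 4,none,none,some 5,some 4,some 4,none,none,none,none,some 2,some 0,some 1,none,none,some 1,some 1,none,none,some 2,some 1,none,some 2,none,some 4,none,none,some 3,some 1,none,none,some 4,some 1,none,some 2,none,some 5,none,none,some 5,some 0,none,some 1,none,some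 3,none,none,none,some 3,some 0,some 2,none,some 5,none,none,some 1,some 0,none,some 1,none,some 2,none,some 4,none,none,some 2,some 4,none,none,some 3,some 2,none,some 3,none,none,some 4,some 1,none,none,some 5,some 0,none,some 1,none,some 4,none,none,none,some 4,some 0,some 0,some 3,none,none,none,some 1,some 5,none,none,some 2,some 0,none,some 2,none,some 4,none,some 5,none,none,some 3,some 0,none,some 1,none,none,some 4,some 1,none,some 2,none,some 3,some 2,none,none,some 4,none,some 5,none,none,some 5,some 2,none,some 4,none,some 5,none,none,none,some 5,some 0,some 0,none,some 1,none,some 2,none,some 3,none,some 5,none,none,some 1,some 0,none,some 2,none,some 3,none,some 4,none,none,some 2,none,some 3,some 1,none,some 3,none,some 4,none,none,some 4,some 1,none,some 3,none,some 5,none,none,some 5,some 2,none,some 3,none,some 5,none,none,none,none,some 5,some 0,some 0,some 1,none,some 4,none,some 5,none,none,some 1,some 1,none,some 2,none,none,some 3,some 1,none,some 3,none,none,some 4,some 1,none,some 3,none,some 4,none,some 5,none,none,none,some 1,some 1,some 2,some 0,none,none,none,some 2,some 4,none,some 5,none,none,some 3,some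 1,none,some 5,none,none,some 4,some 0,none,some 1,none,some 2,none,none,some 5,some 1,some 5,none,none,some 2,none,some 3,none,some 4,some 3,none,none,some 5,none,none,none,some 2,some 0,some 3,none,some 5,none,none,some 1,some 1,none,some 2,none,some 5,none,none,some 2,some 0,none,some 1,none,none,some 3,some 3,none,some 4,some 3,none,none,some 5,none,none,some 4,some 4,none,some 5,none,none,none,some 3,some 0,some 1,none,some 5,none,none,some 1,some 1,none,some 3,some 2,none,none,some 4,none,none,some 2,some 2,none,some 3,none,some 4,none,some 5,none,none,some 4,some 2,none,some 3,none,some 5,none,none,some 5,some 0,none,some 2,none,some 5,none,none,none,some 4,some 0,some 2,none,some 3,none,none,some 2,some 0,none,some 1,none,some 4,none,none,some 3,some 4,none,some 5,none,none,some 4,some 1,none,some 2,none,some 5,none,none,none,some 5,some 0,some 5,none,none,some 1,some 0,none,some 1,none,some 3,none,some 4,none,none,some 2,some 2,none,none,some 3,some 2,none,some 3,none,none,some 4,some 0,none,none,some 5,some 0,none,some 1,none,some 2,none,some 5,none,none,none,none,none,some 1,some 0,some 0,some 0,some 0,none,some 2,none,some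 5,none,none,some 1,some 0,none,some 3,none,some 4,none,none,some 2,some 0,none,some 2,none,some 3,none,none,some 3,some 0,some 4,none,none,some 1,none,some 2,none,some 3,none,none,some 4,some 1,none,some 2,none,some 3,none,some 4,none,none,some 5,some 0,none,some 5,none,none,none,some 1,some 0,some 0,none,some 2,none,some 3,none,some 5,none,none,some 1,some 1,none,some 3,none,some 5,none,none,some 3,some 4,none,none,some 4,some 0,none,some 2,none,some 4,none,none,some 5,some 0,none,some 1,none,some 3,none,none,none,some 2,some 0,some 5,none,none,some 1,some 0,none,some 1,none,some 3,none,some 5,none,none,some 2,some 0,none,some 2,none,some 3,none,some 4,none,some 5,none,none,some 4,some 0,none,some 1,none,some 2,none,some 3,none,none,none,some 3,some 0,some 1,none,some 4,none,none,some 1,some 1,none,some 2,none,some 5,none,none,some 2,some 2,none,some 4,none,some 5,none,none,some 3,some 0,none,some 1,none,some 4,none,none,some 4,some 1,none,some 3,none,some 4,none,none,some 5,some 1,none,some 4,none,some 5,none,none,none,some 4,some 1,some 2,none,none,some 2,some 1,none,some 2,none,some 3,none,none,some 3,some 1,none,none,some 4,some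 0,none,some 1,none,some 4,none,none,some 5,some 1,none,some 2,none,none,none,some 5,some 2,some 0,none,none,some 3,some 1,none,some 2,none,none,some 4,some 0,none,some 2,none,some 3,none,some 4,none,some 5,none,none,some 5,some 2,none,some 3,none,none,none,none,some 1,some 0,some 0,some 0,none,some 1,none,some 3,none,none,some 1,some 2,none,some 4,none,none,some 2,some 0,none,some 1,none,some 2,none,some 3,none,none,some 3,some 2,none,some 5,none,none,some 4,some 2,none,some 3,none,none,some 5,some 1,none,some 4,none,none,none,some 1,some 0,none,some 2,some 0,none,some 1,none,some 2,none,some 3,none,some 5,none,none,some 3,some 2,none,some 5,none,none,some 5,some 0,none,some 3,none,some 5,none,none,none,some 2,some 2,some 0,none,some 1,none,some 3,none,none,some 3,some 0,none,some 1,none,some 4,none,none,some 4,some 1,none,none,some 5,some 1,none,none,none,some 3,some 0,some 1,none,some 3,none,none,some 1,some 1,none,none,some 2,some 4,none,none,some 4,some 1,none,some 2,none,some 3,none,some 5,none,none,some 5,some 0,none,some 1,none,some 2,none,some 5,none,none,none,some 4,some 0,some 0,none,some 2,some 3,none,none,none,some 1,some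 0,none,some 4,none,none,some 2,some 0,none,some 2,none,none,some 4,some 0,none,some 3,none,some 5,none,none,some 5,some 1,none,some 3,none,some 5,none,none,none,some 5,some 0,some 5,none,none,some 1,some 0,none,some 3,none,some 4,none,some 5,none,none,some 2,some 0,none,some 1,none,some 2,none,some 5,none,none,some 3,some 0,none,some 5,none,none,some 4,some 2,some 3,none,none,some 4,none,none,none,none,some 2,some 0,some 0,some 1,none,some 3,none,some 5,none,none,some 1,some 2,none,some 3,none,some 4,none,none,some 2,some 1,none,some 3,none,some 5,none,none,some 3,some 3,none,some 5,none,none,some 4,some 2,none,none,none,some 1,some 0,some 0,none,some 3,none,none,some 2,some 2,none,some 3,none,some 4,none,some 5,none,none,some 3,some 2,none,some 3,none,none,some 4,some 5,none,none,some 5,some 2,none,some 3,none,none,none,some 2,some 0,some 3,none,some 5,none,none,some 1,some 0,none,some 3,none,none,some 2,some 3,none,some 4,some 5,none,none,some 5,none,none,some 3,some 1,none,some 2,none,some 3,none,none,some 4,some 4,none,none,some 5,some 4,none,none,none,some 3,some 0,none,some 1,none,some 2,some 0,none,some 4,none,some 5,none,none,some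 3,some 2,none,some 5,none,none,some 4,some 0,none,some 4,none,none,some 5,none,none,some 4,some 1,some 4,none,none,some 4,some 1,none,some 3,none,none,none,none,some 3,some 0,some 0,some 3,none,none,some 1,some 2,none,some 3,none,some 4,none,none,some 2,some 2,none,some 3,none,none,some 3,some 1,none,some 3,none,some 5,none,none,some 4,none,none,some 1,some 0,none,some 1,some 0,none,some 1,none,some 3,none,some 5,none,none,some 2,some 2,none,some 5,none,none,some 5,some 0,none,some 4,none,none,none,some 2,some 1,some 0,none,some 3,none,some 5,none,none,some 2,some 0,none,some 1,none,some 5,none,none,some 3,some 0,none,some 4,none,none,some 4,some 3,none,some 5,none,none,some 5,none,none,some 3,some 0,none,some 2,none,some 4,some 0,none,some 5,none,none,some 5,some 3,none,some 5,none,none,none,some 4,some 0,some 1,none,some 2,none,some 3,none,none,some 1,some 1,none,some 4,none,some 5,none,none,some 2,none,some 3,some 4,none,some 5,none,none,some 4,some 2,none,none,some 5,some 2,none,some 3,none,some 5,none,none,none,some 5,some 1,some 1,none,some 4,none,none,some 2,some 2,none,some 3,none,some 5,none,none,some 3,some 0,none,some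 3,none,some 5,none,none,some 4,some 0,none,none,some 5,some 0,none,some 2,none,none,none,none,some 4,some 0,some 0,some 0,none,some 2,none,none,some 2,some 1,none,some 5,none,none,some 3,some 4,none,some 5,none,none,some 5,some 2,none,some 3,none,some 4,none,none,none,some 1,some 0,some 4,none,none,some 1,some 4,none,none,some 2,some 0,none,none,some 4,some 4,none,none,some 5,some 2,none,some 3,none,some 4,none,none,none,some 2,some 0,some 0,none,some 1,none,some 4,none,none,some 1,some 1,none,some 2,none,some 4,none,some 5,none,none,some 2,some 2,none,none,some 3,some 3,none,none,some 4,some 0,none,none,some 5,some 5,none,none,none,some 3,some 0,some 2,none,some 5,none,none,some 2,some 3,none,some 5,none,none,some 3,some 0,none,none,some 4,some 1,none,none,some 5,some 1,none,none,none,some 4,some 0,some 0,none,some 3,none,none,some 1,some 0,none,some 1,none,some 3,none,none,some 2,none,none,some 5,some 0,some 3,none,none,some 1,some 2,none,some 3,none,none,some 2,some 1,none,some 2,none,some 3,none,some 5,none,none,some 4,none,some 5,some 5,none,none,none,none,some 5,some 0,some 0,none,some 2,some 2,none,some 3,none,none,some 3,some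 1,none,some 4,none,none,some 4,none,some 5,some 0,none,some 3,none,none,none,some 1,some 1,none,some 3,some 5,none,none,some 4,none,some 5,some 0,none,some 2,none,some 3,none,none,none,some 2,some 0,some 0,none,some 2,none,some 4,none,none,some 2,none,some 4,some 1,none,some 2,none,some 3,none,some 5,none,none,some 5,some 3,none,none,none,some 3,some 0,some 0,none,some 1,none,some 2,none,some 4,none,none,some 1,some 2,none,some 3,none,some 5,none,none,some 3,some 1,none,some 2,none,none,some 4,some 0,none,some 5,none,none,some 5,none,none,some 4,some 0,some 1,none,some 3,none,none,some 1,some 4,none,none,some 2,some 4,none,some 5,none,none,some 3,none,some 4,some 0,none,some 3,none,none,some 5,some 0,none,some 1,none,some 4,none,none,none,some 5,some 0,some 4,none,none,some 1,some 0,none,some 1,none,none,some 2,some 5,none,none,some 3,some 3,none,some 4,none,none,some 4,some 2,none,some 4,none,none,some 5,none,none,none,none,some 2,some 0,some 0,some 0,some 0,none,some 3,none,none,some 2,some 1,none,some 4,none,none,some 3,some 2,none,some 3,none,none,some 4,some 2,none,some 3,none,none,some 5,some 0,none,none,none,some 1,some 1,some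 2,none,some 3,none,some 4,none,none,some 2,none,some 3,some 5,none,none,some 4,some 1,none,none,none,some 2,some 0,some 0,none,some 3,none,some 4,none,some 5,none,none,some 2,some 1,none,none,some 4,none,some 5,some 1,none,some 2,none,none,none,some 3,some 0,some 4,none,none,some 1,some 0,none,none,some 2,some 1,none,none,some 3,none,some 4,some 0,none,some 1,none,some 4,none,none,some 5,some 0,none,none,none,some 4,some 0,some 2,none,none,some 1,some 0,none,some 1,none,some 2,none,some 3,none,some 5,none,none,some 2,some 4,none,some 5,none,none,some 4,some 3,none,none,none,some 5,some 0,some 1,none,some 4,none,some 5,none,none,some 1,some 1,none,some 2,none,some 3,none,some 4,none,none,some 2,some 4,none,some 5,none,none,some 3,some 3,none,none,some 4,some 4,none,some 5,none,none,some 5,some 3,none,some 5,none,none,none,none,some 1,some 1,some 0,some 3,none,some 4,none,some 5,none,none,some 1,some 0,none,some 2,none,some 4,none,none,some 5,some 0,none,some 1,none,some 3,none,none,none,some 2,some 0,none,some 1,some 4,none,none,some 2,some 5,none,none,some 4,some 3,none,none,none,some 3,some 0,none,some 1,some 4,none,none,some 2,some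 4,none,none,some 3,some 0,none,some 2,none,some 3,none,some 5,none,none,some 4,some 0,none,none,some 5,some 3,none,some 5,none,none,none,some 4,some 0,none,some 2,none,some 3,some 0,none,some 4,none,some 5,none,none,some 4,some 1,none,some 3,none,some 4,none,none,none,some 5,some 0,some 0,none,none,some 1,none,some 2,some 4,none,none,some 3,some 4,none,some 5,none,none,some 4,some 1,none,some 4,none,some 5,none,none,some 5,some 0,none,none,none,none,some 2,some 0,some 0,some 4,none,none,some 1,some 4,none,none,some 2,some 0,none,none,some 3,some 2,none,none,some 5,some 0,none,some 2,none,some 4,none,none,none,some 1,some 0,some 0,none,some 1,none,none,some 1,some 1,none,some 3,none,none,some 2,some 0,none,some 2,none,none,some 3,some 0,none,some 1,none,none,some 4,some 1,none,some 2,none,none,some 5,some 3,none,some 4,none,some 5,none,none,none,some 2,some 1,some 3,none,some 4,none,some 5,none,none,some 2,some 0,none,some 1,none,none,some 3,none,some 4,some 3,none,none,some 5,some 0,none,some 2,none,some 4,none,none,none,some 3,some 0,some 1,none,none,some 1,some 1,none,none,some 3,some 3,none,some 4,none,none,none,some 4,some 0,some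 3,none,none,some 1,none,some 2,some 2,none,none,some 3,some 1,none,some 3,none,some 4,none,some 5,none,none,some 4,some 2,none,some 4,none,none,some 5,some 1,none,some 4,none,some 5,none,none,none,some 5,some 1,some 2,none,some 5,none,none,some 2,some 5,none,none,some 3,none,some 4,some 0,none,some 1,none,some 4,none,none,some 5,some 3,none,some 5,none,none,none,none,some 3,some 0,some 0,some 0,none,none,some 3,none,some 4,some 0,none,none,some 5,some 0,none,none,none,some 1,some 0,none,some 1,some 1,none,some 2,none,some 5,none,none,some 2,some 0,none,some 1,none,none,some 3,some 0,none,some 1,none,some 2,none,some 4,none,none,some 5,some 5,none,none,none,some 2,some 0,some 4,none,some 5,none,none,some 1,some 1,none,none,some 2,some 1,none,some 5,none,none,some 3,some 4,none,none,some 5,some 0,none,none,none,some 3,some 0,some 1,none,some 2,none,some 5,none,none,some 1,some 1,none,some 2,none,none,some 3,some 2,none,some 3,none,some 4,none,some 5,none,none,none,some 4,some 0,none,some 3,some 0,none,some 4,none,none,some 4,some 1,none,some 3,none,none,some 5,none,none,some 5,some 0,none,some 1,some 3,none,some 5,none,none,some 2,none,some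 3,some 0,none,some 4,none,none,some 4,none,some 5,some 3,none,none,none,none,some 4,some 0,some 0,some 0,none,some 1,none,none,some 1,some 4,none,none,some 4,some 1,none,none,some 5,none,none,some 1,some 0,none,some 1,some 0,none,some 1,none,some 2,none,some 5,none,none,some 2,some 2,none,none,some 3,none,some 4,some 3,none,some 5,none,none,some 5,some 1,none,none,none,some 2,some 0,none,some 1,none,some 2,none,some 3,some 5,none,none,some 5,none,none,some 3,some 0,some 1,none,none,some 1,none,some 2,some 0,none,none,some 4,some 1,none,some 2,none,none,some 5,some 0,none,none,none,some 4,some 1,some 0,none,some 4,none,none,some 3,some 1,none,some 2,none,none,some 5,some 3,none,none,none,some 5,some 1,some 0,none,some 2,none,some 5,none,none,some 2,some 0,none,none,none,none,some 5,some 0,some 2,some 5,none,none,some 3,none,some 4,some 4,none,none,none,some 1,some 0,some 2,none,none,some 2,none,some 3,some 0,none,some 2,none,some 5,none,none,some 5,none,none,some 2,some 0,none,some 1,some 3,none,none,some 3,none,some 4,none,some 5,none,none,some 3,some 0,some 1,none,none,some 1,some 0,none,none,some 2,some 3,none,some 4,none,none,some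 3,some 2,none,some 4,none,none,some 4,some 3,none,none,some 5,none,none,some 4,some 1,some 0,none,some 1,none,none,some 2,some 1,none,some 4,none,none,some 5,some 4,none,none,none,some 5,some 0,none,some 1,some 0,none,none,some 2,none,some 4,none,some 5,none,none,none,none,some 3,some 0,some 0,some 0,some 4,none,none,some 1,none,some 2,some 2,none,none,some 4,some 4,none,none,some 5,none,none,some 1,some 0,some 5,none,none,some 2,some 1,none,none,some 5,some 1,none,none,none,some 3,some 0,none,some 2,none,some 3,some 2,none,none,some 4,some 0,none,none,some 5,none,none,some 4,some 0,none,some 1,none,some 2,some 0,none,none,some 3,none,some 5,none,none,some 5,some 1,some 1,none,none,some 2,some 0,none,some 2,none,none,some 3,some 1,none,none,some 4,none,none,none,some 1,some 0,some 0,some 4,none,none,some 3,some 0,none,some 1,none,none,some 4,none,none,some 1,some 2,some 1,none,some 4,none,none,some 4,some 1,none,none,some 5,some 5,none,none,none,some 2,some 1,none,some 2,some 0,none,some 2,none,some 4,none,some 5,none,none,some 4,some 3,none,none,none,some 3,some 0,some 3,none,none,some 1,none,some 2,some 1,none,some 4,none,none,some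 4,none,some 5,some 3,none,none,none,some 4,some 0,some 1,none,some 2,none,some 3,none,some 5,none,none,some 3,some 1,none,none,some 4,some 4,none,none,some 5,some 4,none,none,none,none,some 2,some 0,some 0,some 4,none,some 5,none,none,some 1,some 0,none,none,some 2,some 2,none,some 5,none,none,some 3,none,some 4,some 1,none,none,some 5,none,none,some 1,some 2,none,some 3,none,some 4,some 2,none,some 4,none,none,none,some 2,some 0,some 2,none,none,some 1,some 0,none,some 1,none,none,some 2,none,none,some 3,some 0,some 5,none,none,some 1,none,some 2,none,some 4,some 5,none,none,some 5,none,none,some 4,some 0,none,some 1,some 1,none,some 3,none,none,some 2,some 0,none,some 1,none,some 3,none,none,some 3,some 0,none,some 1,none,none,some 4,none,some 5,some 1,none,none,none,some 5,some 0,none,some 1,some 2,none,none,some 3,some 3,none,none,some 4,some 5,none,none,none,none,some 3,some 0,some 1,none,some 2,none,some 4,none,some 5,some 5,none,none,none,some 2,some 0,none,some 1,none,some 2,some 2,none,none,some 3,none,some 4,none,none,some 3,some 1,some 1,none,none,some 2,none,some 4,some 5,none,none,some 5,some 0,none,none,none,some 4,some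 0,some 0,none,none,some 1,some 1,none,none,some 2,some 3,none,none,some 5,some 4,none,none,none,some 5,some 0,none,some 1,some 3,none,none,some 2,none,some 3,some 3,none,some 4,none,none,some 4,some 2,none,none,some 5,none,none,none,some 4,some 0,some 0,none,some 1,none,some 4,none,some 5,none,none,some 1,some 1,some 2,none,none,some 2,some 2,none,none,some 3,none,some 5,none,none,some 2,some 0,some 0,none,some 2,none,some 3,none,none,some 1,some 5,none,none,some 3,some 2,none,some 4,none,none,some 4,some 4,none,none,none,some 3,some 1,some 5,none,none,some 2,some 0,none,some 4,none,none,some 5,some 3,none,none,none,some 4,some 1,some 3,none,none,some 2,some 0,none,some 1,none,some 3,none,none,some 4,some 0,none,some 1,none,none,none,some 5,some 0,some 0,none,none,some 2,none,some 3,none,some 4,none,none,none,some 5,some 0,some 0,some 2,none,some 3,none,some 4,none,none,some 1,none,some 3,some 1,none,none,some 4,none,none,some 1,some 0,none,some 1,none,some 2,none,some 4,some 0,none,none,some 5,none,none,some 2,some 0,some 3,none,some 4,none,none,some 1,some 5,none,none,some 2,some 4,none,some 5,none,none,some 3,none,some 4,none,some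 5,none,none,some 3,some 1,some 3,none,none,some 2,some 3,none,none,some 3,none,some 4,none,some 5,some 5,none,none,none,some 4,some 0,some 5,none,none,some 1,none,some 2,some 2,none,none,some 3,some 5,none,none,some 4,some 3,none,some 4,none,none,none,some 5,some 1,none,none,none,none,some 4,some 0,some 0,some 0,none,some 1,some 0,none,some 1,none,some 4,none,some 5,none,none,some 2,none,some 3,some 3,none,none,none,some 1,some 1,some 0,none,none,some 2,some 1,none,none,some 3,none,some 5,none,none,some 2,some 0,some 2,none,none,some 1,none,some 2,none,some 3,some 5,none,none,some 4,none,none,some 3,some 0,none,some 1,some 3,none,none,some 3,none,some 4,none,none,some 4,some 0,none,some 1,none,some 2,none,some 3,some 5,none,none,some 4,some 4,none,some 5,none,none,some 5,none,none,some 5,some 0,none,some 3,some 2,none,none,some 4,some 2,none,some 4,none,none,some 5,none,none,none,some 1,some 0,some 1,none,some 2,some 5,none,none,some 3,none,some 4,some 2,none,none,some 5,some 5,none,none,none,some 1,some 1,some 5,none,none,some 2,some 5,none,none,some 5,none,none,some 2,some 0,none,some 1,none,none,some 3,some 0,some 5,none,none,some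 1,some 0,none,some 5,none,none,some 2,some 4,none,none,some 4,none,some 5,none,none,some 4,some 0,some 1,none,some 5,none,none,some 1,some 2,none,none,some 4,none,some 5,some 1,none,none,none,some 5,some 1,some 0,none,none,some 2,some 3,none,none,some 3,none,none,none,some 2,some 0,some 0,none,some 1,some 0,none,some 4,none,none,some 2,none,some 3,none,some 4,some 0,none,none,none,some 1,some 0,some 4,none,none,some 1,some 2,none,none,none,some 2,some 1,some 4,none,none,some 2,some 3,none,none,some 3,some 2,none,none,some 4,some 0,none,none,none,some 3,some 0,none,some 1,none,some 2,none,some 3,some 4,none,none,none,some 4,some 0,none,some 1,some 0,none,some 5,none,none,some 3,some 0,none,none,none,some 5,some 0,none,some 2,some 0,none,none,some 5,none,none,none,some 3,some 0,some 0,none,some 1,some 3,none,none,some 2,none,some 3,some 0,none,none,some 4,some 3,none,none,some 5,none,none,some 1,some 1,some 1,none,none,some 3,none,some 4,none,some 5,none,none,some 2,some 0,none,some 1,none,some 3,none,some 4,none,none,some 3,some 1,none,some 2,some 4,none,none,some 3,none,some 4,some 0,none,none,some 5,none,none,some 4,some 0,some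 2,none,some 5,none,none,some 1,some 2,none,some 4,none,none,some 3,some 4,none,some 5,none,none,none,some 5,some 1,none,some 2,none,some 3,none,some 5,none,none,none,some 4,some 0,some 0,none,some 2,some 4,none,none,some 5,none,none,some 1,some 0,some 4,none,none,some 2,some 2,none,none,some 3,some 2,none,some 5,none,none,some 4,none,some 5,some 1,none,some 3,none,none,none,some 2,some 0,some 0,none,none,some 1,none,some 2,some 4,none,none,some 3,some 1,none,some 4,none,none,some 4,none,none,some 3,some 0,none,some 1,none,some 2,some 1,none,some 5,none,none,some 3,some 5,none,none,none,some 5,some 1,some 1,none,none,some 2,some 2,none,none,some 3,some 4,none,none,some 4,some 0,none,none,some 5,some 1,none,none,none,none,some 5,some 0,some 0,none,some 1,none,some 2,some 4,none,none,some 3,none,some 5,none,none,some 1,some 0,some 1,none,some 2,none,none,some 1,some 3,none,none,some 2,none,some 3,some 4,none,none,some 4,some 5,none,none,none,some 2,some 0,some 5,none,none,some 4,some 1,none,none,some 5,some 2,none,none,none,some 3,some 1,none,some 3,none,some 4,none,some 5,none,none,some 4,some 0,some 0,none,some 4,none,none,some 1,none,some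 4,some 3,none,some 4,none,none,some 5,none,none,some 5,some 2,none,some 3,none,some 5,none,none,none,none,some 5,some 0,some 0,some 1,some 0,none,none,some 2,none,some 3,none,none,some 2,some 1,none,some 2,none,some 4,none,some 5,none,none,some 3,some 1,none,some 3,none,none,some 5,some 1,none,some 3,none,some 4,none,some 5,none,none,none,some 1,some 0,some 0,some 3,none,none,some 1,none,some 2,none,some 3,some 5,none,none,some 5,none,none,some 2,some 0,none,some 1,none,some 2,some 1,none,none,some 4,none,some 5,none,none,some 3,some 2,some 0,none,some 3,none,none,some 3,none,none,some 4,some 0,some 3,none,some 5,none,none,some 2,some 4,none,none,some 4,none,none,some 5,some 0,none,some 2,some 2,none,none,some 5,none,none,none,some 2,some 0,some 0,none,some 2,none,some 3,some 5,none,none,some 4,some 0,none,none,none,some 1,some 0,some 0,none,none,some 1,none,some 3,some 4,none,none,some 4,none,none,some 2,some 0,none,some 2,none,some 5,none,none,some 3,some 2,none,some 3,none,some 4,none,some 5,some 1,none,some 2,none,none,none,some 4,some 2,some 0,none,none,some 3,some 0,none,some 4,none,none,some 5,some 4,none,none,none,some 5,some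 3,some 1,none,none,some 4,some 3,none,none,some 5,some 4,none,none,none,none,some 3,some 0,some 0,some 4,none,none,some 2,none,some 3,none,some 4,none,none,some 1,some 0,some 2,none,none,some 1,some 0,none,some 1,none,none,some 2,none,some 3,none,some 4,some 2,none,none,some 5,none,none,some 2,some 0,some 2,none,none,some 1,none,some 4,some 2,none,none,some 5,none,none,some 3,some 0,none,some 1,none,some 2,none,some 5,none,none,some 4,some 0,none,some 2,some 1,none,some 2,none,none,some 4,some 2,none,none,some 5,none,none,some 5,some 2,none,some 3,some 0,none,some 1,none,none,some 5,none,none,none,some 4,some 0,some 0,none,some 2,some 5,none,none,some 3,none,some 4,some 5,none,none,none,some 1,some 0,none,some 1,some 2,none,none,some 3,none,some 4,none,some 5,none,none,some 2,some 0,none,some 2,none,some 4,none,some 5,none,none,some 3,some 0,none,some 1,none,some 4,none,some 5,none,none,some 4,some 0,none,some 1,none,some 2,none,some 4,none,some 5,some 0,none,some 1,none,none,none,some 5,some 0,none,some 1,none,some 2,some 2,none,none,some 4,none,some 5,some 4,none,none,none,none,some 5,some 0,some 0,none,some 1,some 5,none,none,some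 4,some 3,none,none,some 5,some 1,none,none,none,some 1,some 1,some 0,none,none,some 2,none,some 3,none,none,some 3,some 0,some 0,none,some 4,none,none,some 1,some 1,none,none,some 2,some 1,none,none,none,some 4,some 0,none,some 2,some 5,none,none,some 4,none,some 5,none,none,some 5,some 0,none,some 2,some 0,none,none,some 3,some 4,none,none,some 4,none,none,none,none,none]
set_option maxRecDepth 100000 in
def posC : List ℕ := [4124,3513,3406,3773,2718,3869,3289,2788,3499,3383,3852,2776,3686,3582,2715,3491,3239,3360,2819,3768,3692,3428,2675,3426,4044,3634,3649,3257,2845,4119,3407,3764,3454,3314,4113,4053,3762,2761,2806,3790,3332,3884,3405,3576,2784,2764,3766,4061,2803,3865,3630,2770,4063,2826,3842,3621,2724,3552,2885,3347,2655,3427,3934,3722,3858,3674,4070,4109,2707,3629,3747,3479,3780,2830,3966,2692,3937,3894,3302,3823,3538,3324,3381,2858,4042,3425,4116,3728,3555,2835,2754,4058,2874,3444,3691,3702,4102,2794,4111,3578,2714,2816,3769,3944,2859,2798,2902,3663,4123,3442,3614,2775,2677,3807,4024,4090,3799,3544,3909,3893,3562,2654,2760,3749,3931,3845,2766,3322,3268,3933,2651,3280,3913,2841,2844,3914,3287,2820,3581,3763,3490,2777,3997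,3940,2717,3945,2899,3376,2881,2781,2805,4065,2670,3809,3793,3755,3675,3753,3372,3732,3659,2703,3265,3344,3448,3635,2646,3971,3660,3274,3255,3402,3367,3623,2901,2682,4040,2811,2838,3898,3761,2818,3695,3719,3399,3871,3682,2773,2891,2758,4073,3802,3867,3737,3518,3462,3648,2802,3290,4049,2882,2642,2647,3560,3348,2683,3308,2674,4117,4000,3687,3481,3748,3774,3771,2799,2785,3300,3895,2722,3680,2708,3870,3829,4075,2681,4043,2904,3765,2771,3386,2897,3803,3885,3628,3421,3874,3510,3960,2876,3590,4011,2833,2697,3853,3758,4045,3385,3398,2884,2746,3633,3750,3396,3467,3260,3333,3791,3744,4078,2704,3814,3341,4012,3872,2710,2644,2772,2725,3412,3831,3511,3881,3926,3556,3293,3488,2671,3525,3800,3818,3485,3724,3699,3813,2690,3959,3276,3703,3896,3486,2711,2875,3501,3826,2778,3952,3972,3327,3368,4089,3698,3357,3647,4033,3624,2787,3767,3515,2663,3380,2752,3770,3778,3751,3514,2905,3259,3677,3392,2839,2812,3712,3545,3346,3739,3920,3473,3389,3910,4035,3618,3323,2731,4103,4114,2831,2894,4009,3904,2870,3954,3429,3453,4108,4118,3520,3975,3564,3645,2645,3710,3503,3551,2688,3713,3637,3521,3452,3697,3459,2900,3539,2892,3572,4046,3810,3303,3408,3267,3377,3237,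3991,2893,3577,2829,3676,2871,2808,3985,2782,4081,3708,3643,3788,3777,4021,3683,3709,2699,3901,3286,3433,2843,2730,3861,3354,3476,3620,2832,2886,2755,3729,2756,3541,2667,3696,3423,2852,2797,3924,2767,3557,2716,3352,3424,3797,4050,4057,3832,3900,3469,3238,3741,2856,3899,3593,3446,3827,3329,3464,3535,3783,3336,3650,3330,3661,4003,3489,3740,3888,3684,3474,3857,2738,3534,3890,3738,2807,3706,3967,4047,3787,3382,3611,3321,3583,4098,3340,3434,3253,3561,4056,3678,3258,2863,3785,2822,3798,4066,4110,2853,4006,3616,3757,3902,3811,3958,2743,3445,2702,3756,2810,2815,2662,2817,4015,3812,2694,3580,3996,4086,3632,3294,3886,2898,3284,2865,3976,2906,3540,3820,2673,2689,2850,3393,2749,3725,3295,2669,2723,2686,3646,3965,3325,3394,3413,3350,2684,3573,2800,3387,3833,3772,2855,3979,4010,3478,3395,3533,3523,3990,2780,3548,3978,3903,3822,3815,3808,4036,3720,3443,2873,3450,3270,3498,3397,3596,3935,3862,3745,4051,3309,3516,4091,3641,3754,2854,3522,3342,3463,3681,2890,3251,3759,3711,3369,2648,3404,3714,2691,3974,3873,3999,3734,4104,3531,3420,4115,4013,3343,3980,3526,3480,4069,3492,4099,4016,3472,2887,4076,4034,2666,4088,3912,3806,2679,4096,4084,3409,3915,3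316,4030,2846,3955,4101,3943,3371,3246,3731,3370,3730,3248,3804,3715,3970,3868,3466,2721,2720,2709,3836,3568,3973,3995,3440,3542,4094,3438,4092,2867,2750,3846,3575,3640,3358,3458,3447,3388,2836,3786,3606,3690,2765,4004,4071,2739,4038,3296,3721,3247,3338,2643,3311,3644,2712,2665,3988,3986,3897,3784,3306,3667,2656,3672,3838,4048,3254,3835,3626,3840,3992,3723,3760,2804,3837,3851,4028,3437,4083,4017,2695,3401,3272,3570,3610,2796,3565,3939,3416,3782,3921,3855,4052,2840,2650,2869,2783,3278,4005,2741,3932,3261,3905,2744,4014,3794,3496,3460,3631,2769,2786,3612,3619,3817,2660,2809,4062,3512,3470,3736,2763,3305,3282,3537,3319,2825,2851,3243,3627,3430,2676,3550,3391,2672,3457,4107,4001,3411,3848,3422,3841,3263,4055,4029,3679,2759,4059,3365,3964,3351,2685,3844,3949,3930,3455,2649,3877,3911,3688,3891,3805,3507,3705,3592,3746,3735,3656,3281,3617,3776,2748,3847,2678,4106,3574,3882,4072,3585,3482,4060,3439,3994,4093,3264,3378,3892,3599,3821,3291,3373,2849,2896,3875,2736,3856,3597,3335,3313,4025,2883,3549,3889,2664,3816,3279,4080,3854,3271,3517,2700,3591,3796,3356,2834,3587,3742,3546,2842,4122,3285,3364,3795,3262,3957,2652,3363,2641,3298,4087,40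22,3256,3337,2713,2792,2747,3506,3843,3636,3410,3834,4082,3558,3441,3907,4023,3543,3670,4018,4097,3906,3830,3318,3349,3752,4074,3860,3942,3998,3317,3665,3733,3993,3987,3266,4020,2828,4007,2732,3456,2824,4019,4121,3962,4085,2696,3449,4112,4037,3362,3824,3379,3883,3505,3948,3638,2701,3328,2862,3655,3502,3615,3908,2737,3487,4027,3375,3658,3334,3359,3569,3689,3600,3608,3775,3250,4068,3465,2827,4054,3819,3922,3554,3625,2861,3504,3528,2821,2753,3275,3566,4079,2868,3982,3532,2864,2719,2888,3936,3601,3743,3863,3418,3602,2793,3963,3292,2657,3571,3654,3477,3668,2779,3639,3968,3241,3417,3339,3242,3876,3652,2857,3400,3415,3923,3673,3609,3579,3938,3471,3779,3947,3801,3527,3669,3662,3563,2640,3589,3312,2659,3366,3925,4008,2791,2795,3519,3494,3345,3941,2762,3249,3917,2757,3240,3828,3245,3436,3839,3307,3977,2693,3604,3355,2728,2734,2903,2848,3484,3584,3651,2895,2698,3495,2727,3353,3595,3789,2661,3929,3671,3252,3989,2823,3431,3685,3529,3866,3984,3374,3419,3951,3961,4120,3301,3792,4064,3273,4100,3701,2872,4026,3956,3825,2774,2814,4041,2879,4032,3553,3657,3781,4002,3361,3283,3887,2706,3588,3880,3718,3244,3435,3315,3716,3500,2789,3461,3403,3983,273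3,2877,3918,3946,2658,3475,3664,3603,3451,3320,3288,3879,3468,2751,3497,3277,3384,3950,3326,3849,2768,3269,3493,2687,3694,2742,3508,2801,3981,3390,4067,3919,3524,3969,3598,2729,3607,2680,2866,3953,3707,3414,3704,3642,3605,4105,3594,3299,3916,3547,3864,4039,3432,2740,3717,3509,3559,4077,2705,3700,3726,3653,3927,2668,2653,3878,3859,3666,2880,2735,4031,3483,3586,3622,2726,2837,4095,2813,2889,3567,2847,3297,3331,2745,3530,3693,3613,3304,2878,3310,2790,3536,3727,2860,3850,3928,2262,1794,373,1485,380,1149,925,524,2449,969,122,1141,1027,1076,1190,949,97,883,2535,217,928,1502,1066,2624,1492,740,2592,818,979,1817,1357,2588,1308,334,46,1633,2287,529,1347,1526,908,1262,1189,606,1465,1459,1046,2579,361,750,490,1519,1602,1790,558,366,2489,1904,1159,2487,632,2263,408,99,616,920,2036,1919,452,618,1299,851,1272,684,939,1024,71,699,1317,1761,284,14,1720,1684,674,68,385,2229,1691,967,456,697,572,955,1702,1670,817,1637,1073,1007,76,691,371,1127,778,384,535,1503,1589,1977,1140,670,1182,1249,671,412,861,2132,714,625,2046,458,578,2536,294,614,113,2450,2627,836,2109,1725,2405,335,1089,2050,309,103,1032,1767,1372,707,827,1771,769,1762,1509,453,135,1466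,251,2594,2023,1074,2022,536,83,1419,98,715,1377,573,1100,1638,2460,1282,1951,1099,698,1776,862,285,1342,866,1194,463,950,2221,685,1094,2211,1940,1610,290,1986,18,2052,1314,2577,2527,2275,48,1931,1867,1935,28,90,270,52,274,745,433,78,2230,610,544,2458,720,584,363,2595,74,577,1757,178,1196,401,1442,1630,1183,811,1128,1339,186,2344,41,2199,1340,2496,2342,1671,566,1486,2059,2580,1965,692,1635,449,1002,2620,970,764,753,1802,1460,563,519,239,306,1606,1266,2315,1253,2302,828,1874,429,1090,2578,1469,686,2378,1749,395,1912,1763,2322,1333,2329,106,1815,1908,600,1286,2190,2530,1856,1835,2222,1777,1952,1707,2493,1923,1298,2100,2217,498,2057,494,2367,1170,1371,1656,990,479,2091,2260,1535,986,1109,1203,346,131,2340,2025,1779,739,1482,2444,1235,2150,1942,220,711,323,1417,42,2110,1343,1774,127,242,443,2240,1495,2131,1277,752,2494,1329,1860,840,2382,944,1345,985,1484,2289,2372,2053,2067,1375,1108,2569,564,2473,1930,952,863,2138,399,225,682,1620,146,906,1890,2422,1523,495,1276,1102,1929,1316,1862,300,1780,2637,607,473,1632,193,2576,1017,477,634,2531,310,2441,162,1334,2567,139,1649,1399,2298,1661,1991,1028,493,761,291,1799,2391,155,2512,2224,2307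,2417,2542,1313,1322,1547,1199,968,1809,2074,1155,1770,668,926,2024,1652,2456,2279,1553,556,259,727,85,873,746,1086,878,470,2308,2399,2330,2375,1491,332,822,1583,1058,2484,1408,316,2410,1709,2427,1191,2122,889,1793,1521,472,1222,451,2636,2363,2135,1288,317,281,1169,1672,2609,1945,2204,2051,1223,2081,1085,258,1910,2395,1636,2474,482,2310,2429,1000,783,145,1744,1209,61,1407,1834,797,989,1728,331,1515,347,2086,2006,1206,1207,2225,69,1892,2630,2011,652,1378,461,2411,2018,546,1678,325,1352,1501,1963,1188,844,2168,1871,1981,1475,772,2339,1883,662,1138,1166,2264,455,2130,1808,1134,2056,599,1360,923,2482,17,2061,2214,2134,2341,1075,2233,201,765,1689,1415,2143,2540,1374,2246,1319,808,2242,180,2244,1344,475,1263,2586,1386,190,2397,1341,2614,1504,11,790,1013,81,1336,1389,2241,496,995,805,1735,802,1026,924,1311,491,2239,2249,1855,1480,2226,2015,198,2467,1978,2424,855,1005,2506,2611,2453,2021,165,1321,1518,1332,2356,1050,812,79,754,2207,2044,656,2335,825,2538,1101,1139,1051,2357,2568,794,2544,353,1418,2591,1400,2082,1162,959,2301,2497,965,307,1573,1045,352,377,2191,2290,2126,288,895,640,1433,1330,351,1221,1587,2084,2635,1625,1699,693,1095,11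03,1326,1388,1569,480,1948,2104,185,233,1217,2136,1555,1889,732,1592,424,688,1011,1840,2254,1398,1136,1205,394,1014,704,2072,2384,2285,2354,1440,1541,2080,1116,287,2165,1318,343,1586,1821,1356,1658,271,2348,2141,421,2574,958,2292,807,207,404,1782,565,1204,613,322,1837,1724,1039,2369,1401,2305,947,1350,2281,1211,390,510,2034,2027,1489,617,1748,1379,1063,724,1220,2507,1516,249,1549,2350,789,1579,2079,100,2163,1696,324,1148,2631,951,35,199,2145,2616,1291,791,1202,426,1737,1307,1448,1836,1886,1391,405,392,1694,2396,10,1659,1310,1041,1016,776,1254,1161,1789,359,980,738,1036,2097,1604,628,2387,2599,504,2403,1158,123,506,927,645,762,26,884,2129,903,905,278,224,442,91,814,540,501,2293,982,1110,1755,2526,1600,108,856,1655,877,1796,227,2364,204,438,2201,2563,1195,333,1426,7,1422,481,946,2071,454,2068,1850,2561,487,687,151,1692,80,557,562,1961,729,302,1325,2439,3,1795,626,751,943,196,1706,2523,2152,1734,219,24,2351,356,1137,1537,1119,138,263,240,2346,1494,2426,1540,887,417,1546,1613,2584,118,2101,2154,1554,2437,1297,922,267,2508,1619,1264,623,1768,286,1293,537,2265,1979,1578,2318,2146,1731,1355,293,1987,854,2180,1118,2184,397,974,1200,2547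,650,2389,1328,784,2187,2149,2183,200,2524,1845,1994,881,1123,2107,1362,1255,2461,2476,2167,580,2070,1312,2231,2327,548,1008,744,1304,2007,1229,109,1242,2629,2155,92,144,119,1120,1105,2332,124,2166,516,1873,216,63,646,1180,169,141,1851,930,1069,1806,1595,105,365,539,603,255,1402,1351,2370,143,2148,912,2457,1493,1294,303,2628,1958,1570,1087,1896,2212,266,1810,1114,164,1730,804,915,175,900,1936,1898,1882,1660,2541,2469,2223,547,279,1879,891,57,984,1410,2013,2108,448,1403,1769,466,75,1712,630,2371,226,130,689,743,2035,126,1956,2423,1536,1164,2347,730,1607,407,445,1337,209,964,2182,842,2400,2160,364,1688,2475,1104,2123,801,6,696,932,2048,1527,1198,1907,1559,561,1975,1370,2014,2114,2602,62,2559,53,411,1003,1960,36,1197,1787,409,2468,1693,299,2213,437,2331,2626,422,1499,1151,2277,1514,1230,545,2617,2593,2096,1984,211,2186,1064,2177,2267,253,2205,2235,2355,84,2161,2294,1082,245,235,2297,2610,1648,1171,2550,1959,2178,1385,1644,374,2291,370,1081,1852,843,231,624,2001,2133,1179,503,206,2234,1030,273,1358,1823,2306,779,522,2083,1539,2455,47,192,2505,993,2321,133,775,191,1590,1574,553,156,1428,1520,2603,2596,1438,2606,507,1563,1669,502,468,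2440,2566,810,1247,1279,2451,694,709,911,1049,538,1394,104,619,5,821,1603,719,612,1622,476,450,1513,615,73,1405,1621,1510,1594,788,1654,2479,386,1462,312,2434,1895,2553,1677,197,2394,1060,1165,2463,327,1215,587,1303,937,340,308,2388,931,44,703,777,1825,1068,2513,859,2028,1752,1098,725,1778,136,2276,2158,116,1285,568,2311,1508,2492,594,837,1269,1150,457,569,2634,757,13,134,755,1432,505,815,865,829,1538,2598,1982,2445,447,218,1628,858,1681,824,492,1280,1464,60,913,712,1983,1483,741,1507,39,330,264,1663,2037,64,941,876,1412,1071,690,1697,419,820,1327,2257,758,957,1962,2218,1147,901,389,2323,1657,933,236,1361,232,1048,2065,1454,841,1349,657,1924,942,1993,2304,2520,341,1887,2454,902,1092,2549,1599,400,673,1804,2206,886,1933,1765,2337,1331,489,1456,1265,2002,2612,642,2117,1251,1458,705,962,174,1452,1872,157,215,1846,1056,295,852,1177,513,55,1034,2040,1624,2198,96,344,2504,1390,1529,525,1214,15,771,649,629,1870,1667,1805,1764,834,277,2622,1444,262,1925,2597,723,978,1530,2413,2560,2259,2525,2261,276,1324,425,250,2639,2600,1550,848,1153,518,500,672,228,2127,1133,1231,2278,2548,1445,2089,1457,241,464,1532,716,1605,793,1167,360,2503,2328,1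425,2551,1421,1885,2447,2564,140,1911,1973,375,1747,1722,2256,2284,2338,1481,1373,1758,2064,774,2483,1576,987,1753,659,2608,257,1918,731,1552,1629,388,2228,621,2385,393,894,1031,1812,110,1130,1038,2619,2625,25,2583,1512,763,1439,2360,972,721,2421,2049,916,150,586,1125,597,1284,423,2464,1142,478,2157,2312,321,2179,2288,1053,531,2077,2393,1025,1772,512,431,2087,1185,627,1839,1367,1072,1740,362,2414,2055,839,1522,683,167,1623,2116,1618,554,1988,2303,345,261,2632,2431,1646,1944,2237,875,2539,1381,2416,2401,223,904,439,2248,420,213,1651,2412,567,1365,2326,2498,728,1424,117,2495,484,1741,195,581,2020,1488,2362,252,2250,1261,1369,1742,1478,1157,1878,1473,2120,1950,177,1615,1219,1423,850,1144,1054,702,1437,826,760,208,1413,2112,2320,2556,809,2408,1084,1558,1226,588,664,575,2045,1627,462,963,2573,1743,1302,2196,2156,2033,2113,2589,2366,726,1690,914,653,2085,398,1490,1160,358,2309,1685,1884,1275,1479,329,1359,2383,1861,1727,1928,34,2062,770,806,1252,2232,1841,1126,1864,2398,2465,605,1315,1246,2462,766,570,1404,77,2517,2164,846,2486,342,2425,648,1431,2352,1562,1792,2268,1995,2253,749,1824,2296,102,2258,1739,1306,977,2220,1216,638,2295,1733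,2324,1173,893,1241,1751,666,403,1976,2515,2008,2436,184,736,609,1899,1387,1972,1673,49,1650,1996,416,1609,2419,910,2402,2094,1121,1023,532,20,860,1917,2478,339,1181,29,2511,1107,1902,897,355,1467,1239,591,907,1640,1922,2386,486,2443,1091,1750,1564,1097,2029,2005,2128,695,1528,2314,1443,2252,1760,43,2529,799,1178,1088,1745,999,1676,1295,1891,154,909,2016,243,1647,2151,265,2106,1544,1271,595,1788,994,953,1653,132,654,756,2404,1258,238,2349,214,1548,248,583,23,647,86,1989,633,1115,938,2435,1409,1718,1967,1,1833,1801,2194,800,1174,1267,246,992,975,1225,163,1044,2534,1010,2282,160,2098,917,2623,1675,1396,1035,2390,1990,40,1947,2522,1705,1420,1736,1999,319,2585,1581,2615,1021,1820,1832,2286,1062,882,1047,2432,1146,1641,748,921,2032,367,1004,1868,2633,247,2209,1608,2601,2060,1305,1954,1847,254,872,2480,413,1703,418,598,879,1582,337,2137,1957,1807,2488,1881,1738,381,1461,2521,956,1163,2095,981,465,1506,1842,1009,2115,2459,885,559,660,1224,1309,1695,528,675,1511,1496,823,1875,1531,2590,870,1192,514,32,665,2030,1283,87,1775,459,114,268,1932,781,1645,1273,1674,1729,708,1858,2420,1797,1721,1033,19,2175,832,121,1382,237,176,680,1567,260,182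2,1783,2604,1575,301,1416,1580,2613,2319,1946,297,2299,2247,1631,244,282,819,1353,1393,849,2245,2353,1020,2169,677,1591,354,2618,667,378,314,1517,2063,1029,935,2269,785,1716,1441,1816,701,2210,737,2004,1905,1451,1376,1077,2105,2153,1300,1346,1406,0,2368,2170,1320,2499,2093,2552,357,9,58,2243,499,436,1900,2188,1228,234,1964,2490,414,1666,830,2173,430,511,1560,541,467,296,1257,45,639,2119,1248,1759,1172,1117,1561,2316,1970,1301,2042,552,402,1096,722,27,315,289,1392,2102,56,2000,1773,469,2003,773,2500,283,1568,1848,2142,1853,2418,1037,2543,2255,1588,1296,1601,376,678,1938,1006,189,348,230,210,2174,1565,571,2406,2554,2333,1106,16,1124,1980,1080,983,1915,651,158,2192,601,1338,1524,767,170,474,1474,585,520,65,1969,966,148,1427,2197,1022,1012,759,101,2446,2373,2270,382,1803,611,1953,602,929,1397,1348,1542,2026,1244,2428,2280,1145,2140,1256,1543,350,2438,125,1612,2047,1259,1208,1497,434,1616,2575,1545,2139,2009,1156,2621,1131,51,2076,70,733,396,1893,1042,2162,1176,1662,1018,1998,1470,2203,1634,641,1698,2562,1240,311,1814,643,1446,2283,945,2313,1414,2415,1754,1943,147,864,1429,1626,59,471,187,8,1687,918,1880,596,1909,88,229,2570,1015,199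2,2075,379,95,149,997,2251,2587,2069,1335,2200,1784,2537,892,2215,202,1278,280,534,2448,1395,1556,120,1903,183,1701,415,2088,194,2012,115,874,1187,1785,593,973,37,971,2121,517,888,368,31,2300,934,631,1366,1113,1175,1997,50,54,444,2038,1463,2359,2581,735,833,1500,1455,1498,2208,372,768,2054,1122,38,221,1533,1129,2271,1593,1057,128,2066,441,1888,1154,2159,2181,582,717,954,2514,1916,2442,620,1639,1939,635,1680,644,497,734,1700,1828,2376,304,1914,2273,1447,1111,2430,936,2336,661,2345,66,1234,2528,549,816,326,1184,1920,1212,391,679,1065,1238,991,2472,663,655,1818,798,1043,1906,4,1596,2582,2470,1363,1732,2147,166,1715,1866,523,212,1551,787,555,256,988,1857,2381,1135,2236,780,1525,1854,1557,1468,1237,1786,1323,1756,275,521,406,2039,590,896,1236,446,179,857,153,1719,2545,2266,1746,12,608,1093,292,1289,30,1152,1476,2238,2605,1132,21,853,2409,1245,747,1052,152,998,1571,1901,1800,2452,1974,831,2565,1585,338,336,2638,1213,1383,1059,1411,1897,173,440,432,1926,2510,1955,168,2607,1268,1876,171,1971,2502,387,188,2090,2227,1055,485,1921,1844,1019,1704,1643,622,2433,161,1811,792,669,976,1270,658,890,871,533,1708,509,1232,1611,589,2343,427,1112,18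38,676,1843,530,2509,2017,706,1067,1040,2477,1001,2019,22,786,2519,526,1598,1813,82,1292,1143,328,2176,89,435,2377,1061,1384,1877,460,2031,305,710,2111,428,1354,369,2058,2365,560,1664,1859,838,2532,1201,320,111,542,203,93,137,718,488,2274,813,1434,1566,847,1830,1713,1274,313,1679,298,159,1826,550,2380,2041,1243,1534,1186,142,2124,636,898,1682,1364,604,1597,2471,1281,383,1572,2501,1233,919,2103,2144,318,1723,2374,960,2118,742,2317,795,2325,637,1686,2,2202,2572,1290,574,2392,1949,2185,2334,1968,551,1380,1617,2571,410,181,2533,867,681,1934,508,1168,272,1791,2558,1966,2078,1435,1472,2073,576,483,948,1766,172,1368,1711,112,1863,269,2189,1227,996,1436,1683,899,2125,1827,129,835,1985,2555,2407,1941,1668,527,2491,2466,1487,182,2172,1079,868,1937,2518,1577,1260,1218,205,1614,2481,2379,1287,107,1829,1726,700,2361,543,1710,94,2092,1250,2557,1078,796,592,1471,33,1665,1849,2099,1584,1913,845,349,2485,2219,2195,1869,1083,1449,515,2358,2216,940,869,1927,1642,2193,2010,713,67,2272,2043,1453,803,579,1798,2546,1477,2516,1894,72,2171,1210,1781,782,1430,1831,1505,1070,1717,1819,1193,1865,961,1450,222,880,1714,3014,2933,2959,3038,2990,3139,3018,2997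,2969,3080,2930,3059,3106,3083,3158,3037,3022,2909,2998,2967,2938,3007,3125,3229,3005,3119,2908,2925,3145,3029,3224,2921,3235,3010,3150,3063,3013,3067,3128,2995,3027,3017,3068,2989,2956,3170,3088,3207,3211,3117,3190,3055,3177,3079,2926,3204,3072,2907,3004,2996,3008,3009,3035,3133,3234,2974,3231,2936,3178,2971,3120,3104,3175,2994,3034,3216,2940,2948,3225,2939,2910,3114,3161,3086,3132,2979,3054,3221,3087,2986,2991,3199,3124,2964,3200,2924,3123,3197,3102,3143,3076,3016,3184,3058,3111,2953,3201,3159,2927,3168,3155,3156,3134,3160,2960,3105,2923,3033,3064,3065,3135,3094,3112,3140,3096,3021,3049,2993,3000,2958,3089,3001,3028,2944,3166,3061,3045,3162,2992,3144,3110,2965,3092,2941,3040,2961,2911,3101,3141,3171,3060,3154,3236,3179,3152,3015,2983,3099,3025,2931,3091,2962,2945,3069,3084,3121,2935,2976,3039,2988,2984,3113,3130,2937,3185,3131,3082,2966,3019,3215,3020,3208,3071,3052,3214,3107,3103,3223,3230,3098,3169,2947,2950,3066,3210,3024,3219,3202,3090,3226,3222,3228,3050,3118,2970,2934,2999,2980,2932,3232,3053,3147,3041,3163,3206,3182,3073,3142,3002,3153,3115,3006,3227,2972,2922,2928,3157,3070,2978,3205,3023,3127,3203,3036,2973,3031,3194,2915,2949,3126,3148,3116,3174,2963,2957,3129,2917,3209,3213,3043,3218,3149,2916,3047,2920,3122,2951,3093,3097,3012,3191,2929,3044,3078,2968,3042,3173,3220,2987,3151,3046,3100,2981,3136,3180,3167,2912,3062,3189,3095,3172,3183,2942,2977,3056,3137,3057,3192,3193,3051,2943,3196,3077,3074,3181,3212,3187,3165,2914,3075,3176,2954,3195,2919,3048,2918,2946,3217,2913,3108,3186,3030,3138,3164,3003,2952,3109,3233,2975,2955,3146,2982,2985,3032,3198,3081,3085,3026,3188,3011]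
set_option maxRecDepth 1000000 in
theorem runC : chkRun gens progC 600296596009353209118238799129233934 posC 4125 = true := by decide +kernel

set_option maxRecDepth 100000 in
theorem cntC : cnt1 cL (-16) + (sumS (cnt2 T2 16384) gB 0 + sumS (cnt3 T3 20484) gB 0) = 4125 := by
  decide +kernel

end Cfsg.Agent.Lib.Helper37.D1641
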