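import Mathlib
import Cfsg.Agent.Lib.Helper37.D1641a

set_option autoImplicit false

/-! # Kernel data for the orbits of the stabiliser of `(5,1,…,1)` and `(-4,4,0,…,0)` (generated) -/

namespace Cfsg.Agent.Lib.Helper37.D1641

open Cfsg Cfsg.Agent.Lib.Helper9 Cfsg.Agent.Lib.Helper10 Cfsg.Agent.Lib.Helper37

def rootD : List ℕ := [16,18,16,16,16,16,16,16,16,16,18,16,16,14,16,16,16,16,16,14,14,14,14,14]
set_option maxRecDepth 100000 in
def progD : List (Option ℕ) := [some 0,some 0,some 0,some 0,some 0,none,some 1,none,some 2,some 5,none,none,some 5,some 2,none,none,none,some 2,some 0,some 3,none,some 5,none,none,some 1,none,some 2,some 0,none,some 3,none,some 5,none,none,some 3,some 2,none,some 5,none,none,some 4,none,some 5,none,none,some 3,some 0,none,some 2,none,some 3,some 4,none,none,some 5,none,none,some 4,some 1,none,some 2,none,some 3,none,some 5,some 0,none,some 3,none,none,none,some 5,some 3,none,some 4,none,none,none,some 1,some 0,some 0,some 2,none,some 5,none,none,some 1,some 1,none,some 5,none,none,some 2,some 0,none,none,some 3,some 3,none,none,some 4,none,some 5,none,none,some 1,some 0,some 4,none,none,some 1,some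 3,none,none,some 4,none,none,some 2,some 1,none,some 2,none,some 3,some 4,none,none,some 4,some 4,none,none,some 5,some 5,none,none,none,some 3,some 0,some 3,none,none,some 1,none,some 2,none,some 3,some 0,none,none,some 5,none,none,some 4,some 2,none,some 3,none,some 4,none,none,some 5,some 0,some 2,none,none,some 3,none,some 4,some 3,none,none,some 5,none,none,none,some 2,some 0,some 0,none,some 1,some 4,none,none,some 2,some 0,none,some 1,none,some 2,none,none,some 3,some 3,none,some 4,none,none,some 4,some 5,none,none,some 5,some 4,none,none,none,some 1,some 0,none,some 1,none,some 2,some 1,none,none,some 3,none,some 5,none,none,some 2,some 1,some 4,none,none,some 2,some 0,none,some 2,none,none,some 4,none,none,some 3,some 0,some 1,none,none,some 1,some 2,none,none,some 4,some 0,none,none,some 5,some 3,none,none,none,some 4,some 0,some 0,none,some 5,none,none,some 1,some 2,none,none,some 2,some 0,none,none,some 5,none,none,none,some 3,some 0,some 0,some 2,none,some 4,none,none,some 3,some 1,none,none,some 4,none,some 5,some 3,none,none,none,some 1,some 0,none,some 1,none,some 2,none,some 3,some 3,none,none,some 4,some 3,none,some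 4,none,none,some 5,none,none,some 2,some 0,none,some 1,none,some 2,none,some 3,some 1,none,none,some 5,none,none,some 3,some 0,some 0,none,none,some 2,some 0,none,none,some 3,some 1,none,none,some 5,some 1,none,none,none,some 4,some 0,none,some 1,some 0,none,none,some 2,none,some 3,some 4,none,none,some 4,some 4,none,none,some 5,some 0,none,none,none,some 5,some 2,none,some 4,none,some 5,some 1,none,some 2,none,none,none,none,some 4,some 0,some 1,some 0,none,none,some 2,some 5,none,none,some 5,none,none,some 1,some 0,some 0,none,none,some 1,some 0,none,none,some 4,none,some 5,some 2,none,some 4,none,none,none,some 2,some 0,none,some 2,some 4,none,none,some 5,some 2,none,some 3,none,none,none,some 3,some 0,some 2,none,none,some 1,some 0,none,none,some 2,none,some 4,none,some 5,some 3,none,none,none,some 4,some 1,none,some 2,some 2,none,none,some 3,some 4,none,none,some 4,none,none,some 5,some 0,some 1,none,some 3,none,some 4,none,none,some 2,none,some 5,none,none,none,some 5,some 0,some 0,none,some 2,none,some 4,none,some 5,some 3,none,some 4,none,none,none,some 1,some 0,some 1,none,none,some 1,none,some 5,none,none,some 2,some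 0,some 3,none,none,some 1,some 4,none,none,some 3,none,some 4,some 4,none,some 5,none,none,some 5,none,none,some 3,some 0,none,some 2,none,some 3,none,some 5,some 1,none,none,none,some 4,some 0,some 5,none,none,some 1,some 0,none,none,some 2,none,some 3,none,some 4,some 2,none,some 5,none,none,some 5,some 1,none,none,none,some 5,some 0,some 2,none,none,some 1,none,some 2,none,some 4,some 4,none,none,none,none,none,some 1,some 0,some 0,some 0,some 1,none,some 4,none,none,some 1,some 4,none,none,some 2,some 5,none,none,some 3,some 1,none,some 5,none,none,some 4,none,none,some 1,some 0,none,some 1,none,some 2,some 0,none,some 5,none,none,some 3,none,some 4,some 5,none,none,none,some 2,some 1,none,some 3,none,some 4,some 3,none,none,some 5,none,none,some 3,some 0,none,some 1,none,some 4,some 1,none,none,some 5,some 0,none,some 3,none,none,none,some 4,some 0,none,some 1,none,some 2,none,some 4,none,none,some 5,some 0,some 2,none,none,some 1,none,some 2,some 3,none,none,some 3,some 0,none,none,some 4,none,some 5,none,none,none,some 1,some 0,some 0,none,some 5,some 1,none,some 4,none,none,none,some 1,some 0,none,some 3,some 4,none,none,some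 4,none,some 5,some 3,none,some 4,none,none,none,some 2,some 0,none,some 3,some 1,none,some 2,none,none,some 5,some 1,none,some 3,none,none,none,some 3,some 1,none,some 2,none,some 3,some 2,none,none,some 4,some 5,none,none,some 5,some 5,none,none,none,some 4,some 0,none,some 2,none,some 3,none,some 4,none,none,some 5,some 2,some 3,none,some 4,none,none,some 3,none,some 4,some 3,none,some 5,none,none,some 5,none,none,none,some 2,some 0,some 1,none,some 2,none,some 3,none,some 4,some 5,none,none,none,some 1,some 0,none,some 2,some 3,none,none,some 3,none,some 5,some 5,none,none,none,some 2,some 1,some 2,none,none,some 2,none,some 4,some 3,none,none,none,some 4,some 0,none,some 1,some 0,none,none,some 2,none,some 3,none,some 5,some 5,none,none,none,some 5,some 0,some 1,none,none,some 2,some 2,none,none,some 3,none,some 4,some 0,none,none,some 5,some 4,none,none,none,none,some 3,some 0,some 1,none,some 4,none,none,some 1,some 1,some 3,none,none,some 2,none,some 3,some 4,none,none,some 4,none,some 5,none,none,some 2,some 1,some 4,none,some 5,none,none,some 2,none,some 4,some 2,none,none,none,some 3,some 0,none,some 2,none,some 3,some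 2,none,none,some 5,none,none,some 4,some 0,none,some 1,none,some 2,some 2,none,some 4,none,none,some 3,some 0,none,some 2,none,none,some 4,some 3,none,none,none,some 5,some 0,none,some 1,none,some 2,none,some 3,some 1,none,none,some 5,some 1,none,none,none,none,some 4,some 0,some 0,none,some 2,some 0,none,none,some 4,some 2,none,none,some 5,some 1,none,none,none,some 1,some 1,none,some 2,some 5,none,none,some 4,none,some 5,some 4,none,none,none,some 2,some 1,none,some 3,some 1,none,some 4,none,some 5,none,none,some 4,some 2,none,none,none,some 4,some 0,none,some 1,some 2,none,none,some 2,some 2,none,none,some 3,none,some 4,some 0,none,some 3,none,some 4,none,none,none,some 5,some 0,none,some 1,none,some 2,none,some 4,none,none,none,some 5,some 0,some 0,none,some 1,none,some 2,none,some 3,none,some 4,none,some 5,some 3,none,none,none,some 1,some 1,none,some 2,some 2,none,some 5,none,none,some 3,none,some 4,none,some 5,none,none,some 2,some 0,none,some 2,none,some 4,some 0,none,some 2,none,none,none,some 3,some 0,none,some 1,none,some 2,none,some 5,some 4,none,none,none,some 4,some 0,some 0,none,none,some 2,some 5,none,none,some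 3,none,some 4,none,some 5,none,none,some 5,some 0,some 0,none,none,some 2,none,none,none,none,some 2,some 0,some 0,some 1,some 5,none,none,some 2,none,some 3,some 5,none,none,some 5,some 0,none,none,none,some 2,some 0,some 1,none,none,some 2,some 1,none,none,some 3,some 1,none,none,some 5,none,none,some 3,some 0,none,some 1,some 0,none,none,some 2,none,some 5,some 5,none,none,none,some 5,some 0,some 2,none,none,some 1,some 1,none,none,some 3,none,some 4,none,some 5,some 1,none,none,none,none,some 1,some 0,some 0,none,some 2,none,some 3,none,some 4,none,some 5,none,none,some 1,some 1,none,some 2,some 5,none,none,some 3,some 4,none,none,some 4,some 5,none,none,none,some 2,some 2,none,some 3,none,some 5,none,none,some 3,some 1,some 3,none,none,some 3,none,some 4,none,none,some 4,some 1,none,some 2,none,some 3,some 3,none,none,some 5,none,none,some 5,some 0,some 1,none,none,some 3,none,some 4,none,some 5,none,none,none,some 2,some 0,some 1,none,some 2,some 5,none,none,some 5,none,none,some 1,some 0,none,some 1,none,some 3,some 0,none,none,some 4,none,none,some 2,some 4,none,none,some 3,some 0,none,some 1,none,some 2,none,some 3,some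 1,none,some 2,none,none,some 4,some 3,none,none,some 5,some 5,none,none,none,some 4,some 0,none,some 2,none,some 3,none,some 4,some 1,none,some 3,none,none,some 5,none,none,some 5,some 0,none,some 1,none,some 2,some 4,none,none,some 3,none,some 4,some 5,none,none,some 5,some 2,none,some 3,none,none,none,none,some 3,some 0,some 0,none,some 1,none,some 2,none,some 3,some 4,none,none,some 4,none,none,some 2,some 0,none,some 3,none,none,some 3,some 0,none,some 2,none,some 3,none,some 4,some 2,none,none,none,some 4,some 0,some 2,none,none,some 1,none,some 3,some 3,none,some 5,none,none,some 5,none,none,some 5,some 1,none,some 3,none,some 4,none,none,none,some 4,some 0,some 0,none,some 1,some 2,none,none,some 3,none,some 4,none,some 5,none,none,some 1,some 3,none,some 4,none,none,some 2,some 1,none,some 3,none,some 4,none,some 5,none,none,some 4,some 0,none,some 1,some 0,none,none,some 2,some 0,none,none,some 4,none,none,some 5,some 3,some 4,none,none,some 4,some 3,none,none,none,none,some 5,some 0,some 1,none,some 4,none,none,some 1,some 2,none,some 4,some 5,none,none,some 5,some 3,none,none,none,some 2,some 0,some 0,none,none,some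 1,none,some 3,none,some 5,none,none,some 3,some 0,none,some 1,none,some 2,none,none,some 4,some 0,some 1,none,none,some 1,none,some 2,none,some 3,none,some 5,none,none,some 5,some 0,none,some 2,none,some 3,none,some 4,some 0,none,none,none,none,none,some 3,some 0,some 0,some 0,some 1,none,none,some 4,some 5,none,none,none,some 2,some 0,none,some 1,some 0,none,none,some 2,none,some 3,some 4,none,none,none,some 3,some 1,none,some 2,none,some 3,none,some 4,none,none,some 4,some 1,none,some 2,none,some 3,some 4,none,none,none,some 5,some 0,some 4,none,none,some 1,none,some 2,none,some 3,none,some 4,none,some 5,none,none,none,some 1,some 0,some 0,none,some 3,some 3,none,none,some 4,none,some 5,none,none,some 1,some 2,some 0,none,none,some 5,none,none,some 2,some 0,none,some 1,none,some 2,none,some 5,none,none,some 3,some 0,some 3,none,none,some 1,none,some 2,none,some 3,some 3,none,none,some 5,none,none,some 4,some 3,none,none,some 5,some 0,some 4,none,none,some 2,none,some 4,some 1,none,none,none,none,some 3,some 1,some 0,some 3,none,none,some 1,none,some 3,none,some 5,none,none,some 4,some 0,none,some 3,none,some 4,none,none,none,some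 4,some 1,some 1,none,some 2,some 5,none,none,some 3,some 0,none,some 2,none,none,some 4,none,none,some 2,some 2,some 5,none,none,some 4,none,none,some 3,some 0,none,some 3,none,none,some 4,some 2,none,some 5,some 2,none,none,none,some 5,some 0,none,some 2,none,some 4,none,none,none,some 5,some 0,some 1,none,some 2,none,some 3,none,some 5,none,none,some 1,some 0,none,some 2,none,some 4,none,none,some 2,some 0,some 3,none,none,some 1,some 1,none,none,some 2,none,some 3,none,some 4,some 1,none,some 5,none,none,none,some 3,some 0,none,some 2,none,some 3,none,none,some 4,some 2,some 3,none,none,some 3,none,some 4,none,none,some 5,some 0,some 2,none,none,some 1,none,some 3,none,some 4,none,some 5,none,none,none,none,some 4,some 0,some 0,some 1,none,some 2,none,some 3,none,none,some 1,some 0,none,none,some 2,some 0,none,some 2,none,some 3,none,some 4,none,some 5,none,none,some 3,some 1,some 3,none,none,some 2,none,some 3,none,some 4,none,none,some 4,some 0,none,some 1,none,some 4,none,some 5,none,none,some 5,some 3,none,some 4,none,some 5,none,none,none,some 1,some 0,some 2,none,some 4,none,some 5,none,none,some 1,some 1,none,some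 4,none,some 5,some 4,none,none,none,some 2,some 1,none,some 2,none,some 3,some 2,none,none,some 4,none,some 5,none,none,some 3,some 1,some 4,none,none,some 3,none,some 4,none,none,some 4,some 0,some 0,none,none,some 1,none,some 2,some 5,none,none,some 4,none,some 5,some 4,none,none,none,some 5,some 4,none,some 5,none,none,none,some 2,some 0,some 4,none,some 5,none,none,some 1,some 1,none,some 4,none,none,some 2,some 0,some 4,none,none,some 3,none,some 5,none,none,some 3,some 0,none,some 1,some 4,none,none,some 3,none,none,some 4,some 0,none,some 1,none,some 2,none,some 5,none,none,some 5,some 0,some 1,none,none,some 1,none,some 2,none,some 3,none,some 4,none,some 5,none,none,none,some 3,some 1,some 0,none,some 2,none,some 3,none,some 4,some 1,none,none,some 5,none,none,some 2,some 0,none,some 2,some 0,none,some 4,none,none,some 3,some 4,none,some 5,none,none,some 5,none,none,some 3,some 3,none,some 5,none,none,some 4,some 3,some 2,none,none,some 4,none,some 5,none,none,some 5,some 0,none,some 1,none,some 4,none,none,none,some 5,some 0,some 2,none,some 3,some 1,none,none,some 4,some 1,none,none,none,some 1,some 2,none,some 3,none,some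 5,none,none,some 2,some 0,none,some 1,some 2,none,none,some 2,some 0,none,none,some 3,none,some 4,some 2,none,none,some 5,none,none,some 4,some 1,none,some 2,none,some 4,none,none,none,none,some 5,some 0,some 0,some 1,some 3,none,none,some 4,none,none,some 1,some 0,none,some 2,none,some 4,none,none,some 2,some 1,none,some 2,some 1,none,none,some 3,none,none,some 3,some 0,none,some 1,none,some 3,none,none,some 4,some 1,some 4,none,none,some 2,none,some 3,none,none,some 5,some 1,some 4,none,none,some 2,none,some 3,none,some 4,some 1,none,none,none,none,some 1,some 0,some 1,none,some 3,none,some 4,none,some 5,some 1,none,none,none,some 1,some 0,some 5,none,none,some 1,none,some 2,none,some 4,none,none,some 3,some 1,none,some 2,none,some 4,some 5,none,none,none,some 4,some 0,none,some 1,none,some 3,none,some 4,none,none,some 5,some 2,some 5,none,none,some 3,none,some 4,none,some 5,some 5,none,none,none,none,some 2,some 0,some 0,none,some 1,some 2,none,none,some 2,some 4,none,none,some 3,none,none,some 1,some 0,none,some 2,none,some 4,none,none,some 2,some 0,some 1,none,none,some 3,none,some 5,none,none,some 3,some 2,none,some 3,none,some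 4,some 2,none,some 4,none,none,some 5,none,none,some 4,some 0,none,some 1,none,some 2,none,some 3,none,some 4,none,none,none,some 3,some 0,some 0,none,some 3,none,some 4,none,none,some 1,some 0,none,some 1,none,some 2,none,some 3,none,none,some 2,some 0,none,some 1,none,some 3,none,some 4,none,none,some 3,some 0,some 1,none,some 3,none,none,some 1,none,some 2,none,some 4,none,none,some 4,some 0,none,some 2,none,some 4,some 3,none,none,some 5,none,none,some 5,some 0,none,some 1,none,none,none,some 4,some 0,some 1,none,some 2,none,none,some 1,some 2,none,some 3,none,none,some 2,some 0,none,some 1,none,some 2,none,some 4,none,none,some 4,some 1,some 2,none,none,some 4,some 5,none,none,some 5,none,none,some 5,some 1,none,some 3,none,some 4,none,none,none,some 5,some 0,some 2,none,some 4,none,none,some 1,some 0,none,some 2,none,some 4,none,some 5,none,none,some 2,some 2,none,some 3,none,none,some 3,some 0,none,some 2,none,some 5,none,none,some 4,some 0,none,some 2,none,some 3,some 4,none,none,none,some 5,some 0,none,some 2,none,some 3,none,some 4,none,none,none,none,none,some 1,some 0,some 0,some 0,some 1,none,none,some 1,some 1,none,some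 3,none,some 4,none,some 5,none,none,some 2,some 0,none,some 1,none,some 2,none,some 5,some 2,none,none,none,some 3,some 1,none,some 3,none,some 4,none,some 5,none,none,some 4,some 5,none,none,none,some 1,some 0,some 0,none,some 1,none,some 3,none,some 4,none,none,some 1,some 1,none,some 2,none,some 3,none,some 4,none,some 5,none,none,some 2,some 1,none,some 2,none,some 4,none,some 5,none,none,some 3,some 0,none,some 1,none,some 4,none,some 5,none,none,some 4,some 1,none,some 2,none,some 5,none,none,some 5,some 0,none,some 2,none,some 3,none,some 4,none,none,none,some 2,some 0,some 0,none,some 3,none,some 5,none,none,some 1,some 1,some 0,none,none,some 2,none,none,some 2,some 0,none,some 1,none,some 3,none,some 4,none,none,some 3,some 1,none,some 3,none,none,some 4,some 1,none,some 2,none,some 3,none,some 5,none,none,some 5,some 0,none,some 4,none,some 5,none,none,none,some 3,some 0,some 0,none,some 1,none,some 3,none,some 5,some 2,none,none,none,some 1,some 0,some 4,none,none,some 2,none,some 3,none,none,some 2,some 0,none,some 1,some 3,none,none,some 2,none,some 3,none,some 4,none,some 5,none,none,some 3,some 0,none,some 1,none,some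 2,none,none,some 4,some 0,none,some 2,none,some 3,none,some 4,none,some 5,none,none,some 5,some 1,none,some 2,none,some 5,none,none,none,some 4,some 0,some 0,none,some 1,none,some 2,none,some 3,none,some 5,none,none,some 2,some 0,none,some 2,none,some 3,none,none,some 3,some 0,none,some 1,none,some 3,none,some 5,none,none,some 4,some 0,none,some 1,none,some 2,none,some 5,none,none,none,some 5,some 0,some 0,none,some 1,none,some 2,none,some 5,none,none,some 1,some 0,none,some 1,none,some 4,none,none,some 2,some 2,none,some 5,none,none,some 3,some 2,none,some 3,none,some 4,none,some 5,none,none,some 4,some 0,none,some 1,none,some 2,none,some 3,none,some 4,none,some 5,none,none,some 5,some 0,none,some 2,none,some 4,none,none,none,none,some 1,some 0,some 0,some 2,none,some 3,none,some 4,none,none,some 1,some 0,none,some 3,none,none,some 2,some 0,none,some 1,none,some 5,none,none,some 3,some 4,some 1,none,none,some 5,none,none,some 4,some 3,none,some 4,none,some 5,none,none,some 5,some 0,some 5,none,none,some 1,some 4,none,none,some 3,none,none,none,some 1,some 0,some 1,none,some 4,none,some 5,some 5,none,none,none,some 2,some 0,none,some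 1,none,some 3,none,some 4,none,none,some 4,some 0,none,some 2,none,some 4,none,some 5,none,none,some 5,some 0,some 0,none,some 2,none,none,some 3,none,some 4,none,some 5,none,none,none,some 2,some 0,some 0,none,some 1,none,some 2,none,some 5,none,none,some 1,some 0,none,some 3,some 2,none,none,some 4,none,none,some 2,some 0,none,some 1,none,some 2,none,some 3,none,none,some 3,some 1,none,some 3,none,some 4,none,none,some 4,some 0,none,some 2,none,some 3,none,some 4,some 0,none,none,some 5,none,none,some 5,some 0,none,some 4,none,some 5,none,none,none,some 3,some 0,some 0,none,some 2,none,some 3,some 3,none,some 4,none,none,some 4,none,none,some 1,none,some 2,some 2,none,some 3,none,none,some 3,some 0,none,some 1,none,some 2,none,some 4,none,none,some 5,some 0,none,some 1,none,some 2,none,some 3,none,none,none,some 4,some 0,some 0,none,some 1,none,some 3,none,none,some 1,some 0,none,some 1,none,some 2,none,some 4,none,none,some 2,some 1,none,some 2,none,some 3,none,some 4,none,none,some 3,some 1,none,some 2,none,some 3,none,some 5,none,none,some 5,some 0,none,some 4,none,none,none,some 5,some 0,some 0,none,some 4,some 2,none,none,none,some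 3,some 4,none,none,some 4,some 1,none,some 3,none,some 5,none,none,some 5,none,none,none,some 2,some 0,some 0,some 4,none,none,some 1,some 0,none,some 1,some 5,none,none,some 3,none,some 4,none,none,some 2,some 0,none,some 2,none,some 4,none,none,some 4,some 0,some 5,none,none,some 4,none,some 5,none,none,some 5,some 1,none,some 2,none,some 4,none,some 5,none,none,none,some 1,some 0,some 3,none,some 4,none,some 5,none,none,some 1,some 0,none,some 1,some 3,none,none,some 2,none,some 3,none,some 5,none,none,some 2,some 1,none,some 2,none,some 3,none,some 4,none,some 5,none,none,some 3,some 0,none,some 1,none,some 3,none,some 4,none,some 5,none,none,none,some 2,some 0,some 4,none,none,some 1,some 0,none,some 3,none,some 4,none,some 5,none,none,some 2,some 3,none,none,some 3,some 0,none,some 2,none,some 3,none,some 4,none,none,some 4,some 0,none,some 2,none,some 3,none,some 4,none,some 5,none,none,some 5,some 0,some 2,none,none,some 1,some 1,none,none,some 2,none,some 3,none,none,none,some 3,some 0,some 0,none,some 1,none,some 5,none,none,some 1,some 5,none,none,some 2,some 0,none,some 2,none,some 4,none,none,some 3,some 0,none,some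 1,none,some 2,none,some 3,none,some 4,none,none,some 4,some 5,none,none,some 5,some 4,none,some 5,none,none,none,some 4,some 1,some 4,none,none,some 2,some 0,none,some 4,none,some 5,none,none,some 3,some 0,none,some 1,none,some 2,none,some 3,some 2,none,none,some 5,none,none,some 4,some 2,none,some 5,none,none,none,some 5,some 0,some 2,none,some 3,none,none,some 1,some 2,none,some 3,none,some 4,none,none,some 2,some 0,none,some 3,none,none,some 3,some 0,none,some 2,none,some 3,none,some 4,none,none,some 4,some 2,none,some 3,none,some 4,none,some 5,none,none,some 5,some 0,none,some 3,some 3,none,none,some 5,none,none,none,none,some 3,some 0,some 0,some 5,none,none,some 1,some 2,none,some 3,none,none,some 2,some 0,none,some 3,none,none,some 3,some 1,none,some 4,some 3,none,none,none,some 4,some 0,none,some 2,some 2,none,none,some 3,none,none,some 5,some 3,none,some 4,none,some 5,none,none,none,some 1,some 0,some 1,none,some 2,none,some 4,none,none,some 1,some 0,none,some 1,none,some 3,none,none,some 2,some 1,none,some 3,none,some 4,none,none,some 3,some 1,none,some 4,none,none,some 4,some 0,none,some 2,none,some 4,none,none,some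 5,some 0,none,some 3,none,none,none,some 3,some 0,some 4,none,none,some 1,some 3,none,some 4,none,some 5,none,none,some 2,some 0,none,none,some 3,some 5,some 4,none,none,none,some 4,some 3,none,some 4,none,none,some 5,some 0,none,some 1,none,some 3,none,none,none,some 4,some 0,some 4,none,some 5,none,none,some 1,some 2,none,some 3,none,none,some 2,some 0,none,some 1,none,none,some 3,some 0,none,some 4,none,some 5,none,none,some 4,some 0,none,some 1,none,none,some 5,some 1,none,some 4,none,some 5,none,none,none,some 5,some 0,some 1,none,some 2,none,some 5,none,none,some 1,some 0,none,some 1,none,some 3,none,none,some 2,some 4,none,some 5,none,none,some 3,some 0,none,some 1,none,some 4,none,none,some 4,some 0,none,some 2,none,some 5,none,none,some 5,some 4,none,some 5,none,none,none,none,some 4,some 0,some 0,some 3,none,some 5,none,none,some 1,some 2,none,some 3,none,some 4,none,none,some 2,some 2,none,some 3,none,none,some 3,some 3,none,none,some 5,some 1,none,none,none,some 1,some 1,some 1,none,some 5,none,none,some 2,some 1,none,none,some 4,some 0,none,some 2,none,some 3,none,some 5,none,none,some 5,some 2,none,some 4,none,some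 5,none,none,none,some 2,some 0,some 4,none,none,some 1,some 0,none,some 1,none,some 5,none,none,some 2,some 3,none,some 5,none,none,some 3,some 2,none,some 4,none,some 5,none,none,some 4,some 0,none,some 1,none,some 3,none,none,some 5,some 0,none,some 1,none,some 3,some 4,none,none,none,none,some 3,some 0,some 0,none,some 3,none,some 5,none,none,some 1,some 1,none,some 2,none,some 3,none,some 4,none,none,some 2,none,some 3,some 0,none,some 2,none,some 3,none,some 4,none,some 5,none,none,some 4,some 0,none,some 2,none,some 5,none,none,some 5,some 1,none,some 2,none,some 3,none,some 4,none,none,none,some 4,some 0,some 1,none,some 2,none,none,some 1,some 0,some 1,none,none,some 3,none,some 5,none,none,some 2,some 1,none,some 2,some 3,none,none,some 5,none,none,some 3,some 5,none,none,none,some 5,some 0,some 1,some 5,none,none,some 2,none,some 5,none,none,some 2,some 1,none,some 3,none,some 4,none,none,some 3,some 1,none,some 2,none,some 4,none,none,some 4,some 0,none,some 3,none,some 5,none,none,some 5,some 0,none,some 2,none,some 5,none,none,none,none,some 5,some 0,some 0,some 0,none,some 1,none,some 2,none,some 4,none,some 5,none,none,some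 1,some 0,none,some 3,none,some 4,none,some 5,none,none,some 2,some 0,none,some 2,none,some 5,none,none,some 3,some 1,none,some 2,none,some 4,none,none,some 4,some 3,none,none,some 5,some 1,none,some 2,none,some 4,none,some 5,none,none,none,some 1,some 0,some 0,none,some 1,none,some 2,none,some 3,none,some 4,none,none,some 1,some 0,none,some 3,none,some 4,none,some 5,none,none,some 2,some 0,none,some 1,none,some 2,none,some 4,none,some 5,none,none,some 3,some 0,none,some 1,none,some 2,none,some 3,none,some 4,none,none,some 4,some 2,none,none,some 5,some 0,none,some 2,none,none,none,some 2,some 0,some 1,none,some 2,none,some 5,none,none,some 1,some 0,none,some 2,none,some 4,none,none,some 2,some 0,none,some 3,none,some 4,none,none,some 3,some 2,none,some 5,none,none,some 4,some 2,none,none,some 5,some 0,none,some 1,none,some 2,none,some 3,none,none,none,some 3,some 1,some 1,none,some 3,none,some 4,none,some 5,none,none,some 2,some 2,none,some 4,none,some 5,none,none,some 3,some 2,none,some 3,none,some 4,none,some 5,none,none,some 4,some 0,none,none,some 5,some 0,none,some 2,none,some 4,none,none,none,some 4,some 1,some 1,none,none,some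 2,some 0,none,some 2,none,none,some 3,some 0,none,some 1,none,some 5,none,none,some 4,some 4,none,some 5,none,none,some 5,some 0,none,some 3,none,some 5,none,none,none,some 5,some 0,some 0,none,none,some 2,some 0,none,some 3,none,some 4,none,none,some 3,some 1,none,some 5,none,none,some 4,some 3,none,some 4,none,none,none,none,none,some 2,some 0,some 0,some 1,some 0,none,some 1,none,some 3,none,some 4,none,none,some 2,some 0,none,some 1,none,some 4,none,none,some 3,some 2,none,some 3,none,none,some 4,some 0,none,some 1,none,none,some 5,some 3,none,some 5,none,none,none,some 1,some 0,some 0,none,some 2,none,none,some 1,some 0,none,some 2,none,none,some 2,some 5,none,none,some 3,none,some 4,some 1,none,some 5,none,none,some 5,some 1,none,some 3,none,none,none,some 2,some 0,some 0,some 4,none,none,some 1,none,some 3,none,none,some 1,some 3,none,some 4,none,some 5,none,none,some 2,some 3,none,none,some 3,some 0,none,some 3,none,none,some 4,some 1,none,some 2,none,some 4,none,some 5,none,none,some 5,some 0,none,some 3,none,some 4,none,none,none,some 3,some 0,some 0,none,some 1,none,some 4,none,some 5,none,none,some 1,some 1,none,some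 2,none,none,some 2,some 0,none,some 1,none,some 3,none,none,some 4,some 0,none,some 3,none,some 4,none,none,none,some 4,some 3,some 5,none,none,some 4,some 2,none,some 3,none,some 4,none,none,some 5,some 1,none,some 4,none,none,none,some 5,some 0,some 5,none,none,some 1,some 0,none,some 2,none,some 3,none,some 4,none,some 5,none,none,some 2,some 3,none,none,some 3,some 1,none,none,some 4,some 4,none,none,some 5,some 0,none,none,none,none,some 1,some 0,some 0,some 1,none,some 5,none,none,some 2,some 3,none,some 4,none,some 5,none,none,some 3,some 4,none,some 5,none,none,some 4,some 0,none,some 2,none,none,some 5,none,none,some 1,some 0,some 0,none,some 1,none,none,some 1,some 3,none,some 4,none,none,some 2,some 0,none,some 2,none,some 5,none,none,some 3,some 3,none,some 4,none,some 5,none,none,some 4,some 1,none,some 2,none,some 3,none,some 4,none,none,some 5,some 0,none,some 3,none,some 4,none,none,none,some 2,some 1,some 2,none,some 3,none,none,some 3,some 4,none,none,some 4,some 0,none,some 1,none,some 4,none,none,some 5,some 0,none,some 1,none,some 2,none,some 4,none,some 5,none,none,none,some 3,some 0,some 3,none,some 5,none,none,some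 1,some 4,none,none,some 2,some 0,none,some 4,none,some 5,none,none,some 3,some 0,none,some 1,none,some 5,none,none,some 4,some 0,none,some 2,none,none,some 5,some 1,none,none,none,some 4,some 0,some 1,none,some 3,none,some 4,none,some 5,none,none,some 1,some 5,none,none,some 2,some 1,none,some 2,none,some 3,none,some 4,none,none,some 3,some 1,none,none,some 5,some 1,none,some 2,none,some 3,none,some 4,none,some 5,none,none,none,some 5,some 2,some 0,none,some 4,none,none,some 3,some 4,none,none,some 4,some 1,none,some 3,none,some 5,none,none,none,none,some 2,some 0,some 0,some 0,none,some 3,none,some 5,none,none,some 1,some 1,none,some 2,none,some 3,none,some 5,none,none,some 3,some 0,none,some 1,none,some 5,none,none,some 4,some 1,none,some 2,none,some 3,none,none,some 5,none,none,some 1,some 1,some 0,some 0,none,none,some 2,none,some 4,none,none,some 2,some 0,none,some 4,none,some 5,none,none,some 3,none,some 4,some 4,none,none,some 5,some 0,none,some 3,none,some 5,none,none,none,some 2,some 0,none,some 2,none,some 3,none,some 4,some 3,none,some 4,none,some 5,none,none,some 5,some 5,none,none,none,some 3,some 0,some 0,none,some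 2,none,some 4,none,none,some 1,some 1,none,none,some 2,some 1,none,none,some 3,some 1,none,some 4,none,some 5,none,none,some 4,none,some 5,some 1,none,some 2,none,some 5,none,none,none,some 4,some 0,none,some 1,some 3,none,some 4,none,none,some 2,some 4,none,some 5,none,none,some 3,some 2,none,some 5,none,none,some 5,some 0,none,some 1,none,some 2,none,some 3,none,some 4,none,some 5,none,none,none,some 5,some 0,some 0,none,some 2,none,some 3,none,some 4,none,none,some 1,some 1,none,none,some 2,some 2,none,some 5,none,none,some 4,some 0,none,some 2,none,some 3,none,none,some 5,some 0,none,some 3,none,none,none,none,some 3,some 0,some 0,some 0,none,some 1,none,some 4,none,none,some 1,some 1,none,some 2,none,some 5,none,none,some 3,some 2,none,some 4,none,some 5,none,none,some 5,some 2,none,some 5,none,none,none,some 1,some 0,some 0,none,some 1,none,some 3,none,none,some 1,some 1,none,some 3,none,none,some 2,some 1,none,some 2,none,some 3,none,some 4,none,some 5,none,none,some 5,some 1,none,none,none,some 2,some 1,some 3,none,some 5,none,none,some 2,some 1,none,some 2,none,some 4,none,none,some 3,none,some 4,some 2,none,some 3,none,some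 5,none,none,some 5,some 0,none,none,none,some 3,some 0,some 4,none,none,some 1,some 0,none,some 3,none,some 4,none,none,some 2,some 0,none,some 4,none,none,some 3,some 0,none,none,some 4,some 0,none,some 2,none,none,some 5,some 4,none,some 5,none,none,none,some 4,some 0,some 5,none,none,some 1,some 0,none,some 5,none,none,some 3,some 1,none,some 2,none,some 4,none,some 5,none,none,some 4,some 5,none,none,none,some 5,some 0,some 0,none,none,some 1,some 0,none,some 3,none,some 5,none,none,some 2,some 0,none,some 1,none,none,some 3,some 0,none,some 5,none,none,some 4,some 1,none,none,some 5,some 1,none,some 3,none,none,none,none,some 4,some 0,some 0,some 0,none,some 2,none,some 4,none,none,some 2,some 0,none,some 4,none,none,some 3,some 2,none,some 3,none,some 5,none,none,some 4,some 1,none,none,some 5,some 0,none,some 1,none,some 2,none,some 3,none,none,none,some 1,some 1,some 2,none,none,some 2,some 0,none,some 3,none,some 5,none,none,some 3,some 0,none,some 1,none,some 2,none,none,some 4,some 0,none,none,some 5,some 0,none,some 1,none,some 2,none,some 4,none,some 5,none,none,none,some 2,some 0,some 3,none,some 5,none,none,some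 1,some 0,none,some 2,none,none,some 2,some 0,none,some 1,none,some 3,none,some 5,none,none,some 3,some 2,none,some 3,none,none,some 5,some 1,none,none,none,some 3,some 0,some 0,none,some 2,none,none,some 2,some 2,none,some 4,none,some 5,none,none,some 4,some 0,none,some 2,none,some 3,none,some 5,none,none,some 5,some 4,none,some 5,none,none,none,some 4,some 0,some 4,none,some 5,none,none,some 2,some 1,none,some 5,none,none,some 3,some 2,none,some 3,none,some 4,none,some 5,none,none,some 4,some 2,none,some 5,none,none,some 5,some 0,none,none,none,some 5,some 0,some 4,none,none,some 1,some 3,none,some 4,none,none,some 2,some 3,none,none,some 3,some 5,none,none,some 4,some 0,none,some 3,none,none,some 5,some 3,none,none,none,none,some 5,some 0,some 0,some 1,none,some 2,none,some 3,none,some 4,none,some 5,none,none,some 1,some 3,none,none,some 2,some 2,none,none,some 3,some 5,none,none,some 4,some 5,none,none,some 5,some 3,none,some 5,none,none,none,some 1,some 0,some 1,none,some 2,none,some 3,none,none,some 1,some 1,none,some 3,none,none,some 3,some 3,none,none,some 4,some 0,none,some 5,none,none,some 5,some 0,none,some 1,none,some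 3,none,some 5,none,none,none,some 2,some 0,some 0,none,some 2,none,some 3,none,none,some 1,some 0,none,some 1,none,some 4,none,some 5,none,none,some 2,some 1,none,none,some 3,some 0,none,none,some 5,some 2,none,some 4,none,none,none,some 3,some 0,some 0,none,some 1,none,some 4,none,none,some 2,some 0,none,some 2,none,none,some 3,some 2,none,none,some 4,some 3,none,some 5,none,none,some 5,some 1,none,some 5,none,none,none,some 4,some 0,some 0,none,some 2,none,none,some 1,some 1,none,none,some 2,some 1,none,none,some 3,some 0,none,some 3,none,some 4,none,none,some 4,some 0,none,some 5,none,none,some 5,some 3,none,none,none,some 5,some 0,some 0,none,some 3,none,none,some 1,some 1,none,some 3,none,some 5,none,none,some 2,some 1,none,some 3,none,none,some 3,some 5,none,none,some 4,some 1,none,some 3,none,none,some 5,some 5,none,none,none,none,none,some 3,some 0,some 0,some 3,some 1,none,some 4,none,none,none,some 1,some 0,some 0,none,some 1,none,some 3,none,some 4,none,none,some 1,none,some 2,none,some 3,some 1,none,some 3,none,none,some 4,some 0,none,some 3,none,some 4,none,none,some 5,some 3,none,some 4,none,none,none,some 2,some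 0,some 3,none,none,some 1,none,some 2,some 1,none,some 5,none,none,some 3,some 1,none,some 3,none,none,some 4,some 2,none,some 5,none,none,some 5,some 0,none,some 5,none,none,none,some 3,some 1,none,some 3,some 4,none,none,some 4,none,none,some 4,some 0,some 1,none,some 2,none,some 3,none,none,some 1,none,some 2,some 2,none,some 3,none,none,some 3,some 1,none,some 4,none,none,some 4,some 0,none,some 2,none,some 3,none,none,some 5,some 2,none,none,none,some 5,some 1,some 1,none,some 3,none,some 4,none,none,some 2,none,some 3,none,some 4,none,some 5,some 2,none,some 4,none,none,none,none,some 1,some 0,some 2,some 4,none,none,some 3,some 3,none,some 4,none,none,some 4,some 2,none,none,none,some 1,some 0,some 0,none,some 3,none,some 4,none,none,some 2,none,some 3,some 0,none,none,some 4,none,none,some 2,some 0,some 1,none,some 3,none,some 4,none,none,some 1,some 0,none,none,some 2,some 2,none,some 4,none,none,some 3,none,some 4,some 0,none,some 5,none,none,some 5,some 3,none,none,none,some 3,some 0,some 1,none,some 2,none,some 3,none,none,some 1,some 0,none,none,some 3,none,some 5,some 0,none,some 3,none,none,none,some 4,some 0,some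 0,none,some 3,none,some 5,none,none,some 1,some 1,none,some 2,none,some 5,none,none,some 2,some 2,none,none,some 3,some 0,none,some 3,none,none,some 4,some 2,none,none,some 5,some 3,none,some 5,none,none,none,some 5,some 0,some 1,none,some 4,none,none,some 1,none,some 2,none,some 3,some 0,none,some 5,none,none,some 4,some 4,none,some 5,none,none,none,none,some 2,some 0,some 1,some 2,none,some 3,none,none,some 2,some 1,none,some 5,none,none,some 3,some 4,none,none,some 4,some 4,none,none,some 5,some 5,none,none,none,some 1,some 0,some 0,none,some 3,none,some 5,none,none,some 1,some 3,none,some 5,none,none,some 2,some 2,none,none,some 4,some 1,none,some 2,none,some 5,none,none,none,some 2,some 0,some 0,none,some 2,none,some 5,none,none,some 1,none,some 2,some 0,none,some 1,none,some 2,none,some 5,none,none,some 5,some 5,none,none,none,some 3,some 0,some 1,none,some 4,none,some 5,none,none,some 1,none,some 2,some 5,none,none,some 3,some 4,none,none,some 4,some 1,none,some 4,none,none,some 5,some 3,none,some 5,none,none,none,some 4,some 1,none,some 3,none,some 4,some 3,none,none,some 5,some 0,none,some 2,none,some 3,none,some 4,none,some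 5,none,none,none,some 5,some 0,none,some 1,some 0,none,some 5,none,none,some 2,some 2,none,some 3,none,none,some 4,some 2,none,some 3,none,some 5,none,none,some 5,none,none,none,some 3,some 0,some 0,none,some 1,some 3,none,none,some 4,some 2,none,none,some 5,some 5,none,none,none,some 1,some 0,some 0,none,some 1,none,some 2,none,some 4,none,none,some 1,some 1,none,some 3,none,some 4,none,none,some 2,some 0,none,some 3,none,some 4,none,none,some 3,none,some 4,none,none,some 2,some 1,some 0,none,some 1,none,some 3,none,none,some 2,some 1,none,some 5,none,none,some 3,some 5,none,none,some 4,some 1,none,some 2,none,some 3,none,some 5,none,none,some 5,some 3,none,none,none,some 3,some 1,some 3,none,some 4,none,none,some 3,some 1,none,none,some 4,none,some 5,some 1,none,none,none,some 4,some 0,some 3,none,some 5,none,none,some 1,none,some 2,some 1,none,some 2,none,none,some 3,none,some 4,some 1,none,some 4,none,some 5,none,none,some 5,some 1,none,some 4,none,none,none,some 5,some 2,none,some 5,none,none,none,some 4,some 0,some 0,some 3,none,none,some 1,some 1,none,some 3,none,none,some 2,some 4,none,none,some 4,some 0,none,none,none,some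 1,some 0,some 2,none,some 3,none,none,some 1,some 1,none,some 5,none,none,some 2,some 0,none,some 1,none,some 2,none,some 5,none,none,some 3,some 2,none,some 5,none,none,some 4,some 0,none,some 1,none,some 2,none,none,some 5,some 0,none,some 2,none,none,none,some 2,some 0,some 5,none,none,some 1,some 0,none,none,some 2,some 0,none,some 2,none,none,some 3,some 1,none,none,some 4,some 3,none,some 4,none,some 5,none,none,some 5,some 4,none,some 5,none,none,none,some 5,some 0,some 2,none,none,some 1,some 3,none,some 4,none,none,some 2,some 3,none,none,some 5,none,none,none,some 5,some 0,some 0,some 0,none,some 3,none,none,some 1,some 4,none,none,some 4,some 5,none,none,some 5,none,none,some 1,some 1,some 0,none,some 1,none,some 3,none,some 4,none,none,some 2,some 4,none,some 5,none,none,some 3,some 0,none,some 1,none,none,some 4,some 2,none,none,some 5,some 3,none,none,none,some 3,some 0,some 3,none,none,some 3,some 0,none,some 2,none,none,some 4,some 5,none,none,none,some 4,some 0,some 3,none,none,some 2,some 2,none,some 4,none,none,some 3,some 2,none,none,some 4,some 2,none,none,some 5,some 2,none,some 4,none,none,none,some 5,some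 0,none,some 1,some 4,none,none,some 2,some 3,none,some 4,none,none,some 4,some 2,none,none,some 5,some 2,none,some 3,none,none,none,none,some 6,some 0,some 0,some 0,some 0,some 0,none,some 3,none,none,some 1,some 4,none,none,some 2,some 0,none,some 4,none,none,some 3,some 5,none,none,some 4,some 2,none,none,none,some 1,some 0,some 3,none,some 5,none,none,some 3,some 0,none,some 4,none,none,none,some 2,some 4,some 2,none,none,some 5,some 5,none,none,none,some 3,some 0,some 1,none,none,some 2,some 3,none,none,some 4,some 0,none,none,some 5,some 5,none,none,none,some 4,some 0,none,some 2,none,some 3,none,some 4,some 0,none,some 5,none,none,some 5,none,none,some 5,some 1,some 2,none,none,some 3,none,some 4,none,some 5,some 5,none,none,none,none,some 1,some 0,some 0,none,some 1,some 3,none,none,some 2,some 5,none,none,some 3,some 1,none,none,none,some 1,some 0,none,some 1,some 0,none,some 5,none,none,some 2,some 0,none,some 5,none,none,some 3,some 0,none,none,some 5,none,none,some 2,some 2,none,some 3,none,some 5,some 1,none,some 4,none,none,none,some 3,some 0,none,some 2,none,some 4,none,none,some 4,some 0,none,some 1,some 1,none,some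 4,none,none,some 3,none,some 5,none,none,some 5,some 1,some 2,none,none,some 2,some 3,none,some 4,none,none,some 3,some 2,none,some 3,none,some 4,none,none,some 4,some 3,none,none,some 5,some 4,none,none,none,none,some 2,some 0,some 0,none,some 2,some 1,none,none,some 3,none,some 4,none,some 5,none,none,some 1,some 0,none,some 1,none,some 2,none,some 3,none,some 4,some 5,none,none,none,some 2,some 0,none,some 4,none,none,some 3,some 1,none,some 4,none,some 5,none,none,some 4,some 0,some 5,none,none,some 2,none,some 3,none,some 4,some 3,none,none,some 5,none,none,some 5,some 0,none,some 1,none,some 2,some 2,none,none,some 3,none,some 4,none,none,none,some 3,some 0,some 1,some 4,none,none,some 2,none,some 3,none,some 4,none,none,some 1,some 0,some 0,none,some 4,none,none,some 2,none,some 5,some 3,none,none,none,some 2,some 0,some 3,none,none,some 1,none,some 3,some 2,none,some 3,none,some 5,none,none,some 5,none,none,some 3,some 0,none,some 2,none,some 3,none,some 4,none,some 5,none,none,some 4,some 0,none,some 1,none,some 3,none,some 4,none,none,some 5,some 0,none,some 1,none,some 2,some 3,none,none,some 4,none,some 5,none,none,none,some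 4,some 0,some 0,some 1,none,none,some 1,none,none,some 1,some 1,some 4,none,none,some 2,some 1,none,some 2,none,none,some 3,some 4,none,none,some 4,none,none,some 2,some 0,none,some 1,some 5,none,none,some 2,none,some 3,none,some 4,none,none,some 3,some 0,none,some 1,none,some 3,none,some 5,none,none,some 4,some 3,none,none,some 5,some 2,none,some 3,some 1,none,none,some 5,none,none,none,some 5,some 0,some 3,none,some 4,none,some 5,some 3,none,none,none,some 1,some 0,some 3,none,none,some 2,none,some 3,none,none,some 2,some 1,none,some 5,none,none,some 3,some 0,none,some 1,some 0,none,none,some 4,some 3,none,none,none,some 4,some 1,none,some 2,none,some 5,none,none,some 5,some 0,none,some 2,none,some 3,none,some 5,some 1,none,none,none,none,none,some 1,some 0,some 1,some 0,none,some 1,none,some 3,none,some 4,none,none,some 2,some 2,none,some 3,none,some 4,none,some 5,none,none,some 4,some 5,none,none,some 5,some 2,none,some 4,none,none,none,some 1,some 0,some 1,none,some 3,none,some 4,none,none,some 2,some 0,some 4,none,none,some 2,none,some 3,none,none,some 3,some 0,none,some 1,none,some 2,none,some 3,none,some 4,none,none,some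 4,some 0,some 5,none,none,some 2,none,some 3,none,some 4,none,some 5,none,none,some 5,some 1,none,some 3,none,some 4,none,none,none,some 2,some 0,some 1,none,some 2,none,some 3,none,some 4,some 2,none,none,some 5,none,none,some 1,some 0,none,some 4,none,some 5,none,none,some 3,some 0,none,some 1,none,some 2,none,some 3,none,some 4,none,some 5,none,none,some 4,some 3,none,some 5,some 2,none,none,none,some 5,some 2,none,some 3,none,some 4,none,none,none,some 3,some 0,some 0,none,some 2,none,some 3,none,some 5,none,none,some 1,some 0,none,some 1,none,some 2,none,none,some 2,some 0,some 5,none,none,some 3,none,none,some 3,some 1,none,some 2,none,none,some 4,some 0,none,some 1,none,some 2,none,some 3,none,none,some 5,some 1,none,some 3,none,some 4,none,none,none,some 4,some 0,some 3,none,some 4,none,none,some 1,some 1,some 0,none,none,some 4,none,none,some 2,some 2,none,some 3,none,some 4,none,none,some 3,some 2,none,some 4,none,some 5,none,none,some 4,some 0,none,some 1,none,some 2,none,some 3,none,some 4,none,some 5,none,none,some 5,some 1,none,some 2,none,some 3,none,some 4,none,none,none,some 5,some 1,some 0,none,some 3,none,some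 4,none,none,some 2,some 2,none,some 4,none,none,some 3,some 3,none,some 4,none,some 5,none,none,some 5,some 0,none,some 2,none,some 3,none,none,none,none,some 2,some 0,some 1,some 0,none,some 1,none,some 2,none,some 5,none,none,some 2,some 1,none,some 4,none,some 5,none,none,some 4,some 0,none,some 1,none,some 4,none,some 5,none,none,none,some 1,some 0,none,some 1,some 4,none,some 5,none,none,some 3,some 0,none,some 1,none,some 2,none,some 3,none,some 4,none,some 5,none,none,some 4,some 0,none,some 3,none,some 4,none,none,some 5,some 1,none,some 3,some 4,none,none,some 5,none,none,none,some 2,some 1,some 1,none,none,some 2,some 0,none,some 2,none,some 3,none,none,some 4,some 1,none,some 4,none,none,some 5,some 1,none,some 2,none,none,none,some 3,some 0,some 0,none,some 1,none,some 2,none,none,some 1,some 0,none,some 4,none,none,some 2,some 2,none,some 3,none,none,some 3,some 0,none,some 3,none,some 4,none,none,some 5,some 2,none,some 4,none,none,none,some 4,some 0,some 1,none,some 2,none,some 3,none,some 4,none,none,some 1,some 4,none,none,some 2,some 5,none,none,none,some 5,some 0,some 4,none,some 5,none,none,some 1,some 1,none,some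 2,none,some 3,none,none,some 2,some 1,none,none,some 3,some 1,none,some 2,none,some 4,none,none,some 5,none,none,none,some 3,some 0,some 0,some 0,none,some 4,none,some 5,none,none,some 1,none,some 2,some 0,none,some 1,none,some 3,none,none,some 3,none,some 4,some 2,none,some 4,none,none,some 5,some 3,none,some 5,none,none,none,some 1,some 0,some 0,none,some 3,none,none,some 1,some 0,none,some 1,none,none,some 2,some 2,none,some 3,none,some 4,none,some 5,none,none,some 3,some 2,none,some 4,none,some 5,none,none,some 4,none,some 5,some 4,none,none,none,some 2,some 0,some 5,none,none,some 1,none,some 3,some 0,none,some 4,none,none,some 4,some 4,none,none,none,some 3,some 2,some 0,none,none,some 3,some 0,none,some 2,none,none,some 4,some 1,none,some 3,none,some 5,none,none,some 5,none,none,some 5,some 0,some 3,none,none,some 1,none,some 3,some 0,none,some 3,none,none,some 4,some 1,none,some 2,none,some 4,none,none,some 5,some 2,none,none,none,none,some 4,some 0,some 0,none,some 1,some 0,none,some 3,none,none,some 3,some 3,none,some 4,none,none,none,some 1,some 0,some 2,none,none,some 1,some 0,none,some 1,none,some 2,none,none,some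 2,some 5,none,none,some 3,some 1,none,some 2,none,none,some 4,none,some 5,some 1,none,some 2,none,some 4,none,none,none,some 2,some 0,some 1,none,some 3,none,some 5,none,none,some 1,some 0,none,some 1,none,some 3,none,none,some 2,some 0,none,some 1,none,some 5,none,none,some 4,some 2,none,none,none,some 3,some 0,none,some 3,none,some 5,some 2,none,none,none,some 4,some 0,some 1,none,some 5,none,none,some 1,some 5,none,none,some 4,some 4,none,none,some 5,none,none,some 5,some 0,none,some 1,some 3,none,none,some 2,some 0,none,none,some 3,some 2,none,some 5,none,none,some 4,some 0,none,some 1,none,none,none,none,some 5,some 0,some 0,some 0,none,some 4,none,none,some 1,some 2,none,some 5,none,none,some 2,some 4,none,none,some 3,some 0,none,some 5,none,none,some 5,some 3,none,some 5,none,none,none,some 2,some 0,some 0,none,some 4,none,none,some 5,some 2,none,none,none,some 3,some 0,some 2,none,none,some 1,some 2,none,none,some 4,some 0,none,none,some 5,some 2,none,none,none,some 4,some 0,some 1,none,none,some 2,some 3,none,none,some 3,some 3,none,none,some 4,some 1,none,none,some 5,some 5,none,none,none,some 5,some 0,some 1,none,none,some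 1,some 0,none,none,some 2,some 0,none,some 1,none,some 4,none,some 5,none,none,some 3,some 4,none,none,some 4,some 5,none,none,some 5,none,none,none,none,none,some 4,some 0,some 0,some 0,some 1,none,some 4,none,none,some 2,some 0,none,some 3,none,none,some 3,some 4,none,none,some 4,some 4,none,none,some 5,some 0,none,none,none,some 1,some 0,some 3,none,none,some 1,some 5,none,none,some 2,some 0,none,none,some 3,none,some 4,some 4,none,none,none,some 2,some 0,none,some 3,none,some 4,some 2,none,none,some 5,some 4,none,none,none,some 3,some 0,some 0,none,some 3,none,none,some 3,some 4,none,none,some 4,some 0,none,some 1,none,some 4,none,none,some 5,some 0,none,none,none,some 5,some 0,some 4,none,none,some 3,some 1,none,none,some 4,some 0,none,some 1,none,some 5,none,none,some 5,none,none,none,some 1,some 0,some 0,some 2,none,some 3,none,some 4,none,none,some 2,some 4,none,some 5,none,none,some 5,none,none,some 1,some 0,some 2,none,some 3,none,none,some 2,none,some 5,none,none,some 2,some 0,some 1,none,none,some 1,some 0,none,none,some 2,some 1,none,none,some 4,some 4,none,none,some 5,some 1,none,none,none,some 3,some 0,none,some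 3,some 0,none,some 1,none,none,none,some 4,some 0,some 0,none,some 1,none,none,some 1,some 2,none,some 4,none,none,some 3,some 5,none,none,some 4,some 0,none,none,some 5,some 4,none,none,none,some 5,some 0,some 0,none,none,some 1,none,some 2,some 4,none,none,some 3,none,some 4,none,some 5,none,none,none,some 2,some 0,some 0,some 2,none,none,some 1,some 1,none,some 5,none,none,some 2,some 2,none,none,some 3,some 0,none,none,some 4,some 3,none,none,none,some 1,some 1,some 0,none,none,some 2,none,some 4,some 0,none,some 1,none,some 4,none,some 5,none,none,some 5,some 0,none,none,none,some 2,some 0,some 1,none,none,some 1,none,some 2,none,some 3,some 3,none,some 5,none,none,some 4,some 1,none,some 2,none,some 3,none,some 4,none,none,none,some 3,some 1,none,some 2,none,some 4,some 0,none,none,some 5,some 0,none,some 1,none,some 2,none,none,none,some 4,some 0,none,some 1,none,some 2,some 0,none,some 1,none,none,some 3,some 4,none,some 5,none,none,some 4,none,some 5,some 1,none,none,none,some 5,some 0,some 3,none,some 5,none,none,some 1,some 1,none,some 4,none,some 5,none,none,some 3,none,some 4,some 2,none,none,some 5,none,none,none,some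 3,some 0,some 0,some 4,none,some 5,none,none,some 1,some 3,none,none,some 2,some 0,none,some 4,none,none,some 3,none,some 4,none,some 5,none,none,some 1,some 0,none,some 1,some 5,none,none,some 2,none,some 3,some 4,none,none,some 4,some 4,none,none,some 5,none,none,some 2,some 0,some 2,none,some 4,none,none,some 1,none,some 2,none,some 3,some 2,none,some 5,none,none,some 5,some 3,none,some 5,none,none,none,some 3,some 1,some 1,none,none,some 2,none,some 3,some 1,none,none,some 4,some 0,none,some 1,none,none,some 5,some 2,none,some 3,none,none,none,some 4,some 5,none,none,some 5,some 0,none,some 1,none,some 2,some 1,none,some 3,none,none,some 3,some 2,none,some 5,none,none,none,none,some 4,some 0,some 0,some 2,none,none,some 2,some 2,none,some 5,none,none,some 4,some 2,none,some 3,none,none,none,some 1,some 0,some 2,none,some 4,none,none,some 1,some 0,none,none,some 2,some 0,none,none,some 3,some 0,none,some 4,none,none,some 4,some 5,none,none,some 5,some 4,none,none,none,some 2,some 4,some 1,none,some 4,none,none,none,some 5,some 0,some 3,none,none,some 1,none,some 2,some 2,none,none,some 3,some 0,none,some 4,none,none,none,none,some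 5,some 0,some 2,none,some 3,none,some 4,some 1,none,none,none,some 1,some 0,none,some 1,none,some 3,none,some 4,some 4,none,none,some 5,some 3,none,none,none,some 2,some 0,none,some 3,some 2,none,none,none,some 3,some 0,none,some 2,some 2,none,none,some 3,some 3,none,none,some 4,none,none,some 4,some 0,some 1,none,some 2,none,none,some 1,none,some 2,none,some 3,some 2,none,none,none,some 5,some 0,none,some 1,some 0,none,some 4,none,none,some 2,none,some 3,some 3,none,none,some 4,none,some 5,some 1,none,some 4,none,none,none,none,none,some 5,some 0,some 0,some 0,some 5,none,none,some 2,some 0,none,some 4,none,none,some 4,some 0,none,some 3,none,some 4,none,none,some 5,some 2,none,none,none,some 1,some 0,some 2,none,some 5,none,none,some 3,some 4,none,none,some 4,some 5,none,none,none,some 2,some 0,some 0,none,none,some 1,some 0,none,none,some 2,none,some 3,none,some 4,none,some 5,some 1,none,some 3,none,some 4,none,none,none,some 3,some 0,some 0,none,none,some 2,none,some 5,some 2,none,none,none,some 4,some 1,some 2,none,none,some 2,some 0,none,none,some 3,none,some 4,none,some 5,some 1,none,some 3,none,none,none,some 5,some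 1,none,some 2,some 1,none,none,some 4,none,some 5,some 2,none,none,none,none,some 1,some 0,some 0,none,some 1,some 0,none,some 2,none,some 3,none,none,some 2,some 1,none,none,some 3,some 0,none,none,some 5,some 2,none,none,none,some 1,some 2,some 1,none,none,some 3,some 4,none,none,some 4,some 2,none,some 3,none,none,some 5,some 2,none,some 3,none,none,none,some 2,some 0,some 2,none,none,some 1,none,some 4,some 3,none,some 4,none,none,some 5,none,none,some 3,some 0,some 3,none,none,some 1,some 2,none,some 3,none,none,some 2,none,some 3,some 3,none,none,some 5,none,none,some 4,some 0,some 0,none,none,some 1,some 5,none,none,some 2,some 1,none,some 4,none,none,some 3,some 4,none,none,some 4,some 4,none,none,some 5,some 4,none,none,none,some 5,some 2,some 5,none,none,some 3,some 1,none,none,some 5,some 3,none,some 4,none,none,none,none,some 2,some 0,some 0,some 4,none,some 5,none,none,some 1,none,some 2,some 2,none,none,some 3,some 0,none,none,none,some 1,some 0,none,some 2,none,some 4,some 0,none,none,some 5,some 3,none,none,none,some 2,some 0,some 2,none,none,some 1,none,some 2,some 0,none,some 1,none,some 4,none,none,some 3,none,some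 4,some 0,none,none,none,some 3,some 0,some 0,none,none,some 1,none,some 3,none,some 4,none,none,some 4,some 0,some 1,none,none,some 1,some 2,none,some 4,none,none,some 2,some 0,none,some 2,none,none,some 4,some 1,none,some 2,none,some 4,none,none,some 5,some 1,none,some 2,none,none,none,some 5,some 0,some 4,none,none,some 2,some 4,none,none,some 4,none,some 5,none,none,none,some 3,some 0,some 0,some 4,none,none,some 1,none,some 5,some 0,none,none,none,some 1,some 0,some 0,none,none,some 1,some 0,none,some 3,none,some 4,none,none,some 2,some 1,none,none,some 3,none,some 4,none,some 5,none,none,some 2,some 0,none,some 1,some 4,none,none,some 3,none,some 5,none,none,some 3,some 1,some 3,none,some 4,none,none,some 4,some 4,none,none,some 5,some 0,none,some 4,none,some 5,none,none,none,some 4,some 0,some 0,none,some 2,none,none,some 2,some 1,none,some 2,none,some 3,none,none,some 3,some 3,none,none,some 4,none,none,some 5,some 0,some 4,none,some 5,none,none,some 1,some 1,none,none,some 2,some 3,none,none,none,none,some 4,some 0,some 1,some 3,none,none,some 2,none,some 3,none,some 4,some 2,none,none,some 5,none,none,some 1,some 0,some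 5,none,none,some 1,some 3,none,some 4,none,none,some 2,none,some 3,none,some 5,some 0,none,some 3,none,some 5,none,none,none,some 2,some 0,none,some 2,none,some 4,none,some 5,some 2,none,none,none,some 3,some 0,some 2,none,some 4,none,none,some 4,some 1,none,some 4,none,none,some 5,none,none,some 4,some 0,some 5,none,none,some 2,none,some 5,some 0,none,some 1,none,some 2,none,none,none,some 5,some 0,some 1,none,none,some 1,some 2,none,none,some 2,some 0,none,some 2,none,some 3,none,none,some 3,none,some 5,some 3,none,none,none,none,some 5,some 0,some 0,some 2,none,some 4,none,none,some 1,none,some 3,some 2,none,none,some 4,none,some 5,some 0,none,none,none,some 1,some 1,some 1,none,some 2,none,none,some 2,some 1,none,none,some 4,some 0,none,none,some 5,none,none,some 2,some 0,some 4,none,none,some 1,none,some 2,some 0,none,none,some 4,none,some 5,some 4,none,none,none,some 3,some 0,none,some 2,none,some 3,some 0,none,some 5,none,none,some 4,some 1,none,none,some 5,some 1,none,none,none,some 4,some 1,none,some 2,none,some 4,some 2,none,none,some 5,none,none,some 5,some 0,some 4,none,none,some 1,some 0,none,none,some 4,some 1,none,none,none,none,none,some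 6,some 0,some 0,some 0,some 0,some 2,none,some 5,none,none,some 1,some 4,none,none,some 2,some 0,none,some 1,none,some 2,none,some 3,none,some 5,none,none,some 4,some 1,none,none,some 5,some 3,none,some 5,none,none,none,some 1,some 0,some 2,none,some 4,none,none,some 1,some 2,none,some 3,none,none,some 2,some 0,none,some 3,none,some 4,none,none,some 3,some 1,none,some 2,none,some 5,none,none,some 4,some 3,some 0,none,none,some 4,none,none,some 5,some 2,none,some 4,none,some 5,none,none,none,some 2,some 0,some 0,none,some 1,none,none,some 1,some 1,none,some 3,none,some 4,none,none,some 2,some 2,none,some 4,none,none,some 3,some 0,none,some 2,some 1,none,none,some 3,none,some 4,none,none,some 4,some 1,none,none,some 5,some 2,none,none,none,some 3,some 0,some 0,none,some 3,none,some 4,none,none,some 1,some 0,none,some 1,none,some 4,none,none,some 2,none,some 3,some 3,none,none,some 4,some 0,none,some 2,none,some 3,none,none,none,some 4,some 1,none,some 2,some 4,none,some 5,none,none,some 3,some 4,none,some 5,none,none,some 4,some 3,none,some 4,none,some 5,none,none,some 5,some 2,none,none,none,some 5,some 1,some 1,none,some 2,none,some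 3,none,some 4,none,none,some 2,some 0,none,none,some 3,some 1,none,some 3,none,some 4,none,some 5,none,none,some 4,some 2,none,some 4,none,none,some 5,some 0,none,some 2,none,none,none,none,some 1,some 0,some 0,none,some 1,none,some 2,some 3,none,none,some 4,none,some 5,some 0,none,some 4,none,none,none,some 1,some 0,some 1,none,some 5,none,none,some 1,some 3,none,some 4,none,none,some 4,some 1,none,some 2,none,some 4,none,some 5,none,none,some 5,some 0,none,some 1,none,some 2,none,some 3,none,some 5,none,none,none,some 2,some 0,some 0,none,some 5,none,none,some 1,some 2,none,none,some 2,some 3,none,none,some 3,none,some 4,some 0,none,some 2,none,none,some 5,some 0,none,some 1,none,some 3,none,none,none,some 3,some 0,none,some 1,some 3,none,none,some 2,some 0,none,some 3,none,none,some 3,some 1,none,some 2,none,none,none,some 4,some 1,some 0,none,some 4,none,some 5,none,none,some 2,some 0,none,some 2,none,some 3,none,none,some 3,some 4,none,none,some 5,some 2,none,none,none,some 5,some 0,some 0,none,some 1,none,some 2,none,none,some 1,none,some 2,some 4,none,some 5,none,none,some 3,some 0,none,some 5,none,none,some 4,some 1,none,none,some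 5,some 5,none,none,none,none,some 2,some 0,some 0,some 0,none,some 1,none,none,some 1,some 0,none,some 2,none,none,some 2,some 3,none,some 4,none,some 5,none,none,some 3,some 4,none,none,some 4,some 5,none,none,some 5,some 1,none,none,none,some 1,some 2,none,some 3,some 1,none,none,some 4,some 1,none,none,some 5,some 2,none,none,none,some 2,some 0,none,some 2,some 4,none,some 5,none,none,some 3,some 1,none,some 2,none,some 4,none,some 5,none,none,some 4,none,some 5,some 2,none,none,none,some 3,some 1,some 2,none,none,some 4,some 1,none,none,some 5,some 1,none,some 4,none,none,none,some 4,some 0,some 0,none,some 2,none,none,some 1,some 0,none,some 5,none,none,some 3,some 1,none,none,some 4,none,some 5,none,none,some 5,some 0,none,some 1,none,some 2,some 2,none,some 4,none,none,some 3,some 1,none,some 3,none,none,some 5,some 1,none,some 4,none,none,none,none,some 3,some 0,some 0,some 2,none,none,some 1,some 5,none,none,some 2,some 3,none,some 4,none,none,some 3,some 4,none,some 5,none,none,some 4,none,some 5,some 3,none,some 4,none,none,none,some 1,some 0,some 5,none,none,some 2,some 3,none,none,some 5,some 2,none,none,none,some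 2,some 0,none,some 1,some 2,none,none,some 2,some 1,none,some 4,none,none,some 3,some 0,none,some 3,none,none,some 4,some 0,none,some 3,none,none,none,some 3,some 0,none,some 1,none,some 5,some 1,none,some 4,none,none,none,some 4,some 0,some 1,none,some 4,none,none,some 1,some 1,none,some 5,none,none,some 3,none,some 4,some 3,none,some 4,none,none,some 5,some 0,none,some 1,none,some 3,none,some 4,none,none,none,some 5,some 0,some 3,none,none,some 1,none,some 2,some 1,none,none,some 3,some 0,none,some 3,none,none,some 4,some 0,none,none,some 5,some 4,none,none,none,none,some 4,some 0,some 0,none,some 1,none,some 2,none,some 3,none,some 5,none,none,some 1,some 0,some 2,none,none,some 1,some 1,none,none,some 2,some 0,none,some 1,none,some 4,none,none,some 3,some 1,none,some 3,none,none,some 4,some 0,none,none,some 5,none,none,some 2,some 2,some 1,none,none,some 3,some 0,none,some 2,none,none,some 4,some 1,none,none,some 5,none,none,some 3,some 0,none,some 1,some 0,none,some 3,none,none,some 2,some 1,none,some 4,none,none,some 3,some 1,none,none,none,some 4,some 0,some 3,none,none,some 2,some 5,none,none,some 4,none,some 5,some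 2,none,some 4,none,none,none,some 5,some 0,none,some 2,some 0,none,none,some 3,some 0,none,none,some 4,some 3,none,none,some 5,some 4,none,none,none,none,some 5,some 0,some 0,some 2,none,none,some 1,none,some 2,some 1,none,some 4,none,some 5,none,none,some 5,some 3,none,none,none,some 1,some 1,some 0,none,none,some 2,some 0,none,some 3,none,none,some 3,some 5,none,none,some 4,some 3,none,none,some 5,some 0,none,none,none,some 2,some 1,some 3,none,some 5,none,none,some 2,some 0,none,none,some 4,none,none,some 3,some 0,none,some 1,some 2,none,none,some 2,none,some 3,none,some 4,some 4,none,none,some 5,none,none,some 4,some 0,some 2,none,none,some 3,some 0,none,none,some 4,some 0,none,some 4,none,none,none,some 5,some 0,none,some 2,some 1,none,none,some 3,none,some 4,some 2,none,none,some 5,some 3,none,some 4,none,none,none,none,none,some 1,some 0,some 0,some 0,some 4,none,some 5,none,none,some 2,none,some 4,some 3,none,none,some 5,some 1,none,some 3,none,none,none,some 1,some 2,none,some 4,none,some 5,none,none,some 2,some 0,some 0,none,some 2,none,none,some 1,none,some 2,none,none,some 3,some 0,none,some 1,some 1,none,none,some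 3,some 2,none,some 4,none,none,some 4,some 4,none,none,some 5,some 2,none,some 5,none,none,none,some 4,some 1,some 2,none,none,some 2,some 0,none,none,some 5,some 2,none,none,none,some 5,some 1,some 0,none,none,some 2,none,some 3,some 1,none,none,some 4,some 3,none,none,none,none,some 1,some 0,some 0,none,some 2,none,some 5,none,none,some 1,some 0,none,some 2,none,some 3,some 4,none,none,some 5,none,none,some 2,some 0,none,some 1,some 3,none,some 4,none,none,none,some 3,some 0,none,some 1,none,some 3,none,some 4,none,some 5,none,none,some 4,some 1,some 5,none,none,some 2,some 1,none,none,some 3,some 0,none,some 1,none,none,none,some 5,some 2,some 0,none,none,some 4,some 1,none,none,some 5,none,none,none,some 2,some 0,some 0,none,some 1,some 3,none,none,some 2,none,some 3,none,some 4,none,some 5,none,none,some 1,some 0,some 3,none,none,some 1,some 0,none,none,some 2,some 3,none,none,none,some 2,some 0,none,some 2,none,some 4,some 0,none,some 4,none,none,none,some 3,some 1,none,some 2,none,some 4,none,some 5,none,none,some 4,some 1,none,some 2,some 4,none,none,some 3,none,some 4,none,some 5,some 1,none,some 2,none,some 4,none,none,none,some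 5,some 0,none,some 2,none,some 4,none,some 5,none,none,none,some 3,some 0,some 2,some 2,none,none,some 4,none,none,some 1,some 2,none,some 3,some 0,none,none,some 5,none,none,some 2,some 0,some 2,none,some 4,none,none,some 1,none,some 2,none,some 3,none,some 4,some 2,none,some 4,none,none,some 5,none,none,some 3,some 0,some 2,none,none,some 5,none,none,some 4,some 0,none,some 2,none,some 4,some 0,none,some 5,none,none,none,some 5,some 2,none,some 3,some 4,none,none,some 4,none,some 5,some 5,none,none,none,none,some 4,some 1,some 0,none,some 1,none,some 2,none,some 4,none,some 5,some 5,none,none,none,some 2,some 2,some 0,none,some 3,none,none,some 4,some 0,none,some 4,none,none,none,some 3,some 1,none,some 2,some 2,none,none,some 3,none,some 4,some 1,none,none,none,some 4,some 0,some 3,none,none,some 1,none,some 2,none,some 4,none,some 5,none,none,some 5,some 2,none,some 4,some 2,none,none,none,none,some 5,some 0,some 0,some 2,none,none,some 1,none,some 2,some 3,none,none,some 4,none,none,some 1,some 0,some 1,none,none,some 2,none,some 4,some 4,none,none,some 5,some 3,none,none,none,some 2,some 0,none,some 1,none,some 2,none,some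 4,none,none,some 3,some 0,none,some 1,some 2,none,none,some 3,none,none,some 4,some 0,none,some 1,none,some 2,some 0,none,some 2,none,none,some 5,none,none,some 5,some 0,some 5,none,none,some 2,some 5,none,none,some 3,none,some 4,none,none,none,none,some 2,some 0,some 1,some 0,none,some 1,some 5,none,none,some 2,none,some 3,some 3,none,none,none,some 2,some 0,none,some 1,none,some 3,some 5,none,none,some 4,none,none,some 3,some 0,none,some 1,none,some 3,none,some 4,none,some 5,none,none,some 4,some 1,none,some 2,none,some 3,none,none,some 5,some 1,some 1,none,none,some 2,none,some 3,none,some 5,some 0,none,none,none,none,some 1,some 0,some 1,none,some 2,none,some 3,none,some 5,none,none,some 1,some 0,none,some 2,some 3,none,none,some 4,some 1,none,none,some 5,none,none,some 3,some 1,none,some 4,none,some 5,none,none,some 4,some 0,none,some 3,some 5,none,none,some 5,none,none,some 5,some 0,none,some 3,none,none,none,some 2,some 0,some 3,some 5,none,none,some 5,none,none,some 1,some 1,none,some 2,some 1,none,none,none,some 2,some 3,some 3,none,none,some 5,none,none,some 3,some 0,some 1,none,none,some 3,none,some 4,none,some 5,none,none,some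 4,some 1,none,some 2,none,some 4,none,some 5,none,none,some 5,some 0,none,some 2,none,some 3,none,some 5,none,none,none,some 3,some 0,some 0,none,some 3,none,some 4,none,none,some 1,some 4,some 3,none,none,some 5,none,none,some 2,some 0,none,some 2,some 3,none,none,some 3,none,some 4,none,none,some 3,some 0,none,some 4,some 2,none,none,none,some 4,some 0,none,some 2,some 2,none,none,some 4,none,none,some 5,some 0,some 3,none,none,some 2,some 1,none,none,some 3,some 0,none,some 1,none,none,some 4,none,none,none,some 4,some 0,some 1,some 4,none,none,some 2,none,some 3,none,some 4,none,some 5,some 0,none,none,none,some 1,some 1,none,some 3,none,some 4,none,some 5,none,none,some 2,some 1,some 2,none,none,some 3,some 4,none,none,none,some 4,some 2,none,some 3,none,none,some 5,some 0,some 4,none,none,some 1,none,some 5,none,none,none,some 5,some 0,some 0,none,some 3,none,some 4,none,some 5,none,none,some 1,some 1,none,some 2,none,some 3,none,some 4,none,some 5,none,none,some 2,some 0,none,some 4,none,none,some 3,some 1,none,some 5,none,none,some 4,some 0,none,none,some 5,some 0,none,some 1,none,some 2,none,some 4,some 3,none,none,some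 5,some 1,none,none,none,none,none,some 3,some 0,some 0,some 2,none,none,some 1,some 3,none,some 5,none,none,some 2,some 1,some 5,none,none,some 3,none,some 4,none,none,some 3,some 0,none,some 2,none,none,some 4,some 1,none,some 3,none,some 4,none,none,some 5,some 1,none,some 3,none,none,none,some 1,some 0,some 0,none,some 2,none,some 4,none,some 5,some 3,none,none,none,some 2,some 1,none,some 2,none,some 4,none,none,some 3,some 0,some 0,none,none,some 4,none,some 5,some 1,none,none,none,some 4,some 1,none,some 3,none,some 5,none,none,some 5,some 0,none,some 1,none,some 2,none,some 5,none,none,none,some 2,some 0,some 2,none,some 4,none,none,some 1,some 0,some 2,none,none,some 1,none,some 2,none,some 5,none,none,some 2,some 2,none,some 3,some 2,none,none,some 4,none,none,some 3,some 2,none,some 5,none,none,some 4,some 1,none,some 2,none,some 4,none,none,some 5,some 2,none,some 3,none,none,none,some 3,some 0,some 0,none,some 1,none,some 5,none,none,some 1,some 3,none,some 4,none,some 5,none,none,some 2,some 2,none,none,some 3,some 0,none,some 5,none,none,some 4,some 1,none,some 2,none,some 4,none,none,some 5,some 1,none,some 2,none,some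 4,none,some 5,none,none,none,some 4,some 0,some 0,some 4,none,none,some 1,none,some 3,some 1,none,none,some 4,none,some 5,some 1,none,none,none,some 1,some 1,none,some 2,none,some 3,none,some 4,none,some 5,none,none,some 2,some 2,none,some 4,none,some 5,none,none,some 4,some 0,none,some 1,none,some 2,none,none,some 5,some 0,none,some 5,none,none,none,some 5,some 1,some 3,none,some 4,none,some 5,none,none,some 2,some 1,none,some 2,some 4,none,none,some 5,none,none,some 3,some 2,none,some 3,none,some 4,none,none,some 4,some 0,none,some 1,none,some 2,none,some 4,none,none,some 5,some 2,none,some 3,none,some 4,none,some 5,none,none,none,none,some 4,some 0,some 0,some 4,none,none,some 1,some 4,none,some 5,none,none,some 3,some 0,none,some 1,some 1,none,none,some 5,none,none,none,some 1,some 1,some 1,none,some 4,none,some 5,none,none,some 2,some 0,none,some 2,some 0,none,none,some 3,none,some 4,none,none,some 3,some 1,none,some 2,none,some 4,some 2,none,none,none,some 4,some 2,none,some 4,some 2,none,none,none,some 5,some 2,none,some 3,none,some 5,none,none,none,some 2,some 0,some 0,none,some 1,none,none,some 1,some 0,none,some 2,none,some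 3,none,some 5,none,none,some 2,some 1,none,some 2,none,some 4,none,some 5,none,none,some 3,some 0,none,some 2,none,some 5,none,none,some 4,some 5,none,none,some 5,some 1,none,some 2,none,some 3,none,some 5,none,none,none,some 3,some 0,some 2,none,some 3,none,some 5,none,none,some 1,some 1,some 5,none,none,some 3,none,some 4,none,some 5,none,none,some 2,some 0,none,some 2,none,some 3,none,some 5,none,none,some 3,some 3,none,none,some 5,none,none,some 4,some 1,some 0,none,some 2,none,none,some 3,some 1,none,some 3,none,some 4,none,some 5,none,none,some 4,some 0,none,some 2,none,none,some 5,some 0,none,some 1,none,some 2,none,some 4,none,none,none,some 5,some 1,some 1,none,some 2,none,some 3,none,none,some 2,none,some 3,some 4,none,some 5,none,none,some 4,some 0,none,some 2,none,some 3,none,some 5,none,none,some 5,some 0,none,some 1,none,some 3,none,some 5,none,none,none,none,some 5,some 0,some 0,some 0,none,none,some 1,some 2,none,some 4,none,none,some 2,some 1,none,some 4,none,none,some 3,some 0,none,some 1,none,some 2,none,some 4,none,some 5,some 4,none,none,none,some 4,some 1,none,some 2,none,some 3,none,some 4,none,none,none,some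 1,some 1,some 3,none,some 4,none,some 5,none,none,some 2,some 3,none,none,some 3,some 0,none,none,some 4,some 1,none,some 2,none,some 3,none,some 5,none,none,some 5,some 0,none,some 1,none,some 2,none,some 5,some 0,none,none,none,none,some 2,some 0,some 0,none,some 1,none,some 4,none,some 5,none,none,some 3,some 4,none,none,some 4,some 0,none,some 2,none,none,some 5,some 0,none,some 1,none,none,none,some 3,some 0,some 0,none,none,some 1,some 1,none,some 4,none,some 5,none,none,some 2,some 1,none,some 5,none,none,some 3,some 1,none,some 3,none,none,some 4,some 1,none,some 5,none,none,some 5,some 0,none,some 2,none,some 4,none,none,none,some 4,some 0,some 3,none,some 5,none,none,some 1,some 1,none,some 2,none,none,some 2,some 4,none,none,some 3,none,some 4,some 2,none,none,some 5,some 0,none,some 2,none,none,none,some 5,some 0,some 1,none,none,some 1,some 1,none,some 4,none,none,some 3,some 0,none,some 2,none,some 4,none,none,some 5,some 4,none,none,none,none,none]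
set_option maxRecDepth 100000 in
def posD : List ℕ := [2256,2154,2002,1895,1982,2433,2017,2329,2375,2027,1968,2522,2098,2024,1907,2124,1913,2502,2325,1926,2517,2161,2381,1891,2553,1963,2408,2437,2499,1939,2211,2347,2081,2141,2331,2040,2097,1969,2172,2221,2001,2200,2146,2110,2174,2487,2467,2092,2213,1947,2116,2326,2389,2006,2205,2168,2187,2405,2009,2401,2492,2075,2206,2118,1942,1981,2465,2137,2117,2045,2266,2294,2046,2051,2010,2394,2335,2226,2114,2038,2201,2203,2278,2511,2224,2545,2302,2204,1991,1924,2014,2306,2396,2295,2490,2448,2355,2115,2399,2549,2148,2099,2547,2167,2102,2162,2184,1923,2404,1940,1966,2395,2147,2469,1915,2121,1958,2260,2418,1943,2086,2501,2287,2359,2091,1999,2427,1905,2341,2348,2070,2034,2286,2312,2536,2210,2472,1930,2252,2215,2181,2361,2156,2186,2063,2265,2247,2544,2022,2180,2406,1932,2445,2054,2254,2318,2529,2537,2364,2464,2149,2531,2095,2488,2089,2507,2460,2101,2151,2426,2528,2276,2152,2450,2145,2225,2481,2015,1973,2183,2087,2195,1920,2561,2185,2402,1975,2218,2319,1961,2495,2058,2374,2120,2391,2271,2005,2113,2504,1949,2482,1988,1950,2328,2273,2340,2327,2388,2069,2496,2366,2044,2214,2012,2346,2412,2122,2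138,2179,2293,1980,2105,2485,1896,2559,1957,2194,2199,2514,2175,2466,2491,2419,2000,2363,1890,2188,1993,1938,2107,2080,2190,2021,2033,2039,1914,2532,2135,2414,2438,2497,2234,1974,2285,1927,2332,1992,2127,1901,2019,2354,2165,2074,1931,2521,2106,2535,2451,1984,2516,2036,2345,2317,2368,2315,2228,1906,2123,2552,2209,2055,2029,2170,2461,1936,2385,2324,2429,1929,2362,2053,2131,2441,1977,2444,2432,2041,2479,2304,2525,2269,2463,2061,2246,2270,1996,2144,2275,1933,2104,2524,2037,2330,2166,2474,1898,2376,1916,2555,2358,2519,2264,1937,2109,2334,2290,2548,1964,2031,1903,2173,2094,2539,2360,2311,2067,2076,2410,2253,2468,2309,2217,1944,2263,2439,2288,2321,2384,2066,2112,2494,2032,1967,2428,2314,2407,2125,2296,2158,1955,2526,2064,2510,2008,1959,2071,2281,2222,2048,2435,1928,2257,2393,2139,2316,2336,2338,1990,2403,2191,2259,2084,2133,2303,1971,2351,1935,2216,2542,2219,2182,1934,2546,2249,2283,2143,2023,2042,1900,2100,2291,2057,1922,2108,2305,2413,2322,2554,2178,2163,2164,2543,2527,2386,2150,2090,2189,1952,2020,1904,2540,1994,1956,2333,2372,2320,2282,2452,2425,1953,2248,2242,2035,2007,1983,2500,2093,2197,2155,2556,2082,2446,2233,1909,2025,253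4,1948,2378,2059,2078,2397,1911,1997,2455,2085,1917,2261,2171,2409,2299,2202,2344,2415,2454,2551,2208,2043,1976,2231,2313,1918,2353,2533,2235,2392,2520,2223,2506,2238,1978,2475,2129,2483,2049,2489,2310,2176,2508,2390,2377,1899,2229,1897,2430,2560,2258,2136,2434,2512,2052,2013,2449,1902,2459,2239,2142,2056,2373,1995,2498,2050,2442,2227,2486,2422,2072,1919,2119,2307,2132,2470,2411,2387,2424,2230,2065,2473,1921,2140,2300,2241,2193,2478,2128,2541,2212,2062,1972,2126,2523,2077,2417,2530,2518,1954,2079,2337,2367,2343,2297,2250,2370,2356,1912,2379,1998,2505,2277,2420,2462,2357,2157,1894,1892,2159,1962,2349,2073,2134,2004,1965,2480,2423,2421,2308,1908,2493,2458,2369,1951,2196,2096,2298,2267,2301,2177,1910,2272,1987,2047,2251,2169,2383,2292,2028,2380,2352,1946,2088,1979,2068,1893,2513,2284,2476,2323,1989,2274,2243,2443,2083,2198,2240,2398,2447,2220,2232,2436,2484,2236,2342,2477,2538,2026,1985,1945,1970,2515,2453,2060,2400,2550,2153,2557,2268,2237,2018,2416,2289,2509,2365,2339,2030,2431,2350,2456,1960,1941,2255,2371,2245,2244,2103,1986,2471,2003,2207,2558,2457,2440,2280,1925,2011,2160,2382,2262,2016,2279,2130,2111,2192,2503,5599,1783,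4866,1866,5008,1793,2849,3402,1624,4811,4978,4982,2589,5119,5403,1355,4412,5294,4779,3367,4077,3427,1660,5243,4263,4359,4091,1454,4655,2755,3399,2851,2950,1822,2975,4415,5530,5424,2809,3440,2606,3307,1431,3577,2712,3520,5224,5194,3484,1694,4230,2760,3086,3536,2989,4484,5058,1581,3261,5517,1332,4725,3865,5324,3785,4214,1304,1485,3006,4379,1353,5574,3306,2605,3556,4036,4354,3805,4358,4928,4511,4469,2858,2926,4471,3686,4409,3530,2847,4631,4337,3854,5142,1724,5432,3857,3551,1737,4977,4845,5081,1638,1717,4691,3702,4262,3953,3630,3461,3876,4501,3976,4420,1401,3506,2692,4339,3085,3355,2635,1417,4990,1844,5598,3474,5078,2913,1656,1747,1790,5303,4966,4544,5075,3682,1759,5255,3549,3003,5084,2944,3077,5227,3193,4362,5378,5411,3610,5272,5445,5483,4726,3011,4510,3103,5167,3241,3677,1605,5423,3994,5356,3436,4574,4156,1742,5561,3808,3769,2662,3078,3206,5437,1403,2804,5178,3297,4075,3127,2832,2595,4689,1630,4139,5363,4433,3198,3609,4066,4762,3566,4967,3552,1502,4807,5542,2875,4302,5191,3476,4569,2762,3413,3209,2906,1634,5540,3252,5461,3331,3117,5573,4012,4005,2571,3665,4817,5166,4489,3812,4483,4620,4338,5057,4858,3084,3959,3431,1648,1851,49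98,4157,2670,4790,4334,4932,3646,3662,4974,4499,3607,4393,5223,3547,4493,3550,4503,4104,1720,4914,3458,2735,1483,2948,4490,4532,1828,1832,4311,4939,4251,3449,4172,4212,2745,4614,3197,3200,3125,3488,4869,4266,3937,3118,3862,3325,1361,3258,5120,1659,1696,4495,4182,4390,1392,4449,3586,1321,2938,5480,3853,1499,5005,2964,1340,4429,3482,4595,3703,2782,4960,2790,1513,4857,3513,1376,3802,4962,5386,5146,5394,1831,4161,2700,1706,3960,1349,2611,1259,5030,4197,2798,3481,3740,4108,1641,3144,3784,3160,4881,2609,4298,3121,4739,4766,5148,3878,3349,5539,1297,3081,1652,3339,1413,5447,5588,5114,3108,5470,4044,2627,4819,2784,2751,5472,3157,3603,3867,4798,3864,1379,4019,1594,4647,2583,2953,2564,3811,4747,3397,2695,5018,2931,3620,3956,3696,3851,4637,2724,1883,3043,1497,4343,1516,2971,1296,4540,2707,4454,4033,2732,5261,1247,1539,1798,1723,3590,4651,4009,3219,5440,4296,3348,5017,1449,5096,1314,3958,1560,4681,1693,1756,3742,5193,1567,1856,1880,2684,3053,2738,4050,3216,3280,4645,3265,4876,4364,1308,4088,4604,4240,4225,1416,1615,4724,1455,1646,3658,3897,4431,3786,4663,3184,3898,5592,2744,3019,2883,4064,2676,3270,3342,4124,1382,3418,2853,1789,3500,3112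,1835,1295,5115,4176,1301,3818,3733,5305,3333,4872,3502,4446,4417,3126,1778,1511,5307,1602,5300,3425,4927,2845,2656,1408,3975,3143,2575,1709,3314,2661,5107,2981,1434,3535,4242,4023,3328,4753,4605,5583,4476,3883,5454,4993,5151,5234,1583,1657,2960,4199,5157,1442,2929,2923,4101,5290,4423,1623,5579,5568,1269,1640,4799,1452,4022,2897,1348,4470,3358,4422,5129,1253,4130,1496,3028,2682,4997,3259,2787,1331,3657,4408,3421,4630,4908,1658,1795,5409,4315,2820,1632,3750,1838,5282,3391,3582,5393,2581,1337,4396,3057,3840,3366,5555,1729,4271,3071,3791,4193,1435,5023,3916,3174,5526,3770,2840,3188,4842,4522,2734,1363,3450,3541,1445,5252,3529,3138,4404,1552,3435,4035,4883,4571,4303,3576,2759,3451,4452,4619,3495,3487,5138,1761,3518,4434,5458,4756,1487,1854,3990,1823,3816,4414,4063,3248,5419,1628,3233,3997,2876,4399,2634,3111,2580,2928,3336,3803,3183,3651,3132,4720,4764,4861,4254,3180,1244,3995,4244,4733,3445,2629,4147,5147,1841,4951,5590,1746,4277,2884,2677,3650,3128,3308,2927,3641,5024,1305,1748,2932,3213,5487,3074,3263,1849,4295,5202,3319,1654,3988,5589,1699,1277,4783,1341,5355,3921,4252,5163,3317,3177,5495,5341,4810,5004,4891,1862,1684,4001,2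623,3376,3311,1708,1518,4258,4382,4880,5105,3624,5516,5431,4004,4175,5048,2711,3841,4911,4587,3902,4901,4968,1872,4970,3322,2777,1667,5444,2818,5546,3697,4097,4760,1440,2998,5333,4372,3109,4975,4806,5226,4037,3859,5499,3989,1390,3825,3330,3490,4750,1326,2955,3070,4213,4243,5597,4915,5028,2687,4099,1650,1591,2829,3096,3977,1378,4233,5171,3522,3693,4202,1732,1621,3548,1758,4322,3347,5283,1840,3796,3326,3353,3642,5100,3423,4727,2772,4987,3130,4237,1422,2622,2602,4111,5034,1669,4306,3334,3793,5430,4123,4538,5476,1473,2754,3617,1703,3730,3225,3546,3457,1773,1873,3001,1771,3362,3426,1801,5278,4894,3080,2647,3284,5441,2874,5534,3600,3012,3766,3002,5465,3497,4137,2649,4486,1456,5099,2756,5557,1462,3852,1770,5253,5285,5123,1285,3222,3097,1820,1399,3634,4687,5070,2665,5390,5052,2909,3267,4979,3559,5295,4013,4377,4264,5076,1784,2983,2794,5010,4313,1867,3985,1853,5342,4884,5449,3384,1678,5275,1351,3837,5036,3625,2783,2791,2837,4160,1411,3462,4624,3249,3789,3823,2984,1787,3768,1503,4808,4818,4596,3264,3813,4445,3114,3406,1809,5153,4059,4882,3141,5371,5064,1409,4892,3787,5335,5593,4286,4916,4078,5358,3459,1405,4692,3871,1592,4632,3133,434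4,5195,5357,4109,5541,4690,1713,4148,3379,4533,1843,4976,2956,3214,4006,3669,2599,3113,2697,5235,5348,5327,1395,4999,5570,4648,1444,5571,5572,1484,3158,1710,4125,1842,4988,3285,5101,3705,3054,2962,5504,5433,1423,1725,5442,1356,5484,2637,3359,4794,5587,2914,5125,5182,4713,5173,4526,5049,4775,4659,2850,4413,1837,1718,4421,4516,3374,2608,4370,5152,1827,5124,2835,1345,2856,4512,3562,4780,1794,4041,4279,3858,4024,2708,3107,4043,4590,1555,3039,1582,4991,4534,2813,5079,3511,2585,2675,4557,3537,1432,4231,1566,5225,2667,3149,5014,1845,2577,1494,3321,3880,1514,2780,3611,5273,3507,3007,1863,5158,1517,1333,4902,3400,2915,1293,5082,3024,5177,1287,3294,5594,1461,4730,4027,5126,1785,3869,1871,4973,5421,5013,4820,4829,5044,4744,2822,1635,4553,5404,4314,4650,4609,5032,3205,5156,1519,2819,3388,4685,2763,4089,5189,3744,1254,4131,4278,4135,1757,5553,3508,5002,1509,3227,4054,1881,3273,4578,4387,3917,4150,1727,4711,3279,5231,1763,4912,5071,1391,1418,3724,4971,3648,5284,2986,4450,4615,5310,3723,4155,5061,4048,4395,1336,5349,1776,3192,3904,2681,5134,3171,3807,3393,1486,2885,3801,2613,5344,4081,2704,3350,5149,3563,3272,5436,3635,3922,4299,2833,5106,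3237,1884,4072,4034,4995,4664,5511,2702,5299,3694,3981,1406,3749,3748,5374,5321,3463,2746,3207,5025,3099,3907,4878,4227,4107,3338,1598,3888,2592,3477,5233,4940,3516,3035,3292,1396,2654,5056,3316,3337,4290,3437,5042,4945,3185,4219,3370,4325,3722,4220,5337,1375,4010,3394,4008,5471,5503,3288,1302,3161,1338,4189,2936,3583,2640,4162,3751,4585,5040,3557,4505,2739,4461,4860,3217,3961,3832,4180,5192,4959,1324,4668,3594,4617,1366,4562,1498,5508,5391,3181,4905,3934,4020,4159,3927,5159,3363,4584,3755,1334,5339,1512,2570,2877,4856,3140,3901,5212,4910,3464,4935,2737,3220,4164,5118,4397,1407,4550,3221,3202,5485,3903,1762,4327,1374,1651,3480,4196,5029,3941,5334,1441,4234,3999,4961,3986,3966,3371,2854,3291,4933,4158,4575,4745,5301,5398,3064,1585,2880,1673,3743,3433,3468,5493,3129,3021,5492,5245,1777,5317,4287,1607,3301,1347,3704,3094,3186,2747,1320,2959,5462,4672,3819,2892,5389,2626,5377,3929,4032,2886,3579,2678,1568,1857,2919,2597,4541,5566,5027,3073,5206,2563,3499,3845,5131,2778,1472,1829,5543,4112,4917,1704,4439,4943,5086,1802,2607,3309,1670,4738,1600,3242,1482,1625,3671,1475,4529,1830,1467,1772,1476,1874,5286,5552,2688,5001,3226,3970,30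62,2614,5489,4862,4307,3354,1258,5035,1419,1606,3877,1284,3037,1531,2596,3453,3683,4038,4831,3991,5469,1593,4029,1306,3773,5506,5575,3836,3281,1769,4825,3189,4688,2616,3514,1394,4312,5381,5140,5385,4460,3608,5269,3923,5548,2869,2659,4082,3340,5479,4166,1653,4226,1751,3996,5329,5262,4177,4133,5110,5500,5545,4069,1386,4016,3639,4265,3369,5183,4411,1504,5222,4321,3446,3162,1303,4378,4141,2610,1529,5254,3352,3844,4317,5237,3526,2713,3887,3004,5373,2957,3100,4536,4045,4149,1387,3131,1344,5486,1695,3466,5328,4946,2590,1424,4102,3666,1774,4281,4972,2834,1661,3645,2740,3327,2584,4758,3952,3364,3298,5271,5399,4581,5135,3055,4268,3163,5122,5525,3063,5420,4121,3491,5000,1420,5382,5473,3992,2696,3503,3385,1750,5387,3820,4215,4018,1354,2774,1540,2848,4621,1811,2641,5116,1543,4640,3870,4466,5186,5529,2841,4528,4642,2949,5268,3533,4474,4120,2867,3076,1701,3691,5244,5316,5132,5412,2573,3636,2645,4751,1329,3581,5429,5239,3201,2660,1702,4768,1313,3211,1292,4918,2729,2895,1807,3605,5384,1251,4071,1760,2715,2852,3739,4394,4549,4203,4151,4228,4823,5330,4996,2788,5451,5537,3567,4703,3606,1265,3886,5066,1688,1414,4383,4813,4786,5267,3804,4040,3424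,1799,4174,4030,4070,3432,5547,1488,4721,1700,4643,4309,5582,4143,2860,3601,1443,4365,4475,5265,4777,5092,4300,1438,3101,3900,4947,5456,3939,5352,4068,3512,1342,2997,4430,1570,1805,4546,2943,3210,1402,3116,3377,1736,3558,3504,3447,4622,4895,4771,2968,4896,3031,1388,3554,1427,4543,4356,1266,4851,2789,4209,2693,3612,3824,5141,2685,2908,3678,4828,5065,3873,1687,3194,4613,4545,3398,2898,3765,4950,5528,5150,3000,4301,4849,4594,4694,3965,4781,1310,3647,3544,3964,4683,4498,5521,4965,3356,5094,5257,1447,3060,1604,5435,2990,4340,3190,4610,4481,3692,3798,2655,3403,2773,1397,4497,4716,4761,3015,3553,3357,4479,5216,3660,1755,4448,3048,5564,3979,1457,2958,1865,1767,4232,5577,3905,3602,3753,3098,4366,5438,3276,2768,3637,4093,5460,5490,4964,4246,3005,5098,4770,5586,5162,3527,3661,4480,4467,2587,3754,3614,3230,3741,1311,1393,3313,3604,4778,5343,4283,3236,4428,5296,4864,4805,3684,4556,4473,2674,3531,3568,3239,1779,2658,5414,2826,4877,3172,1468,4816,4944,4955,3030,5033,1662,4868,3963,1683,1547,1618,5009,4031,5085,1437,3142,4814,1825,2946,4113,4128,1453,5117,4208,4850,3262,1365,4723,1248,1242,5188,4488,3737,3652,2741,4742,4253,3914,4336,5415,1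765,5426,2625,1633,5325,3072,2582,4936,2924,4222,2673,2905,4913,1477,1792,2980,4867,4844,5179,3361,3343,4247,4308,1826,1859,1385,4418,2821,2973,3179,5083,3282,3829,3920,3928,3068,2900,4021,5509,1870,4638,3296,4579,3232,4734,5302,2604,3708,3159,1595,5204,4276,2807,1878,5016,5497,5418,2628,3023,5006,1627,3277,5581,3653,3344,4535,3718,5453,4049,1886,1243,1601,2933,2836,1346,1611,2586,1753,1524,4737,1459,2811,5531,4353,1281,5190,4922,1636,3915,1252,2686,5434,5345,3725,4410,2963,2705,1858,1791,4055,1569,3228,3799,3532,1463,5408,1389,2824,5494,4090,4259,4355,3846,2753,5481,2868,5549,1371,4440,3564,2758,3244,4759,2679,1510,2569,3656,2718,3843,4039,5319,3176,4657,2698,1697,1817,1813,3295,2878,4084,4693,3872,5427,2630,1788,2566,1672,3266,4717,3044,5522,5353,4929,2785,4187,5037,4773,3631,4080,1616,4597,3416,3268,3442,1280,5187,1325,4588,4260,3368,5197,2719,3982,1692,3067,4105,3017,5322,4067,2817,4746,3153,5232,4675,1764,3187,3045,3170,3274,2764,1492,3984,2865,3827,1556,1584,3848,4328,2748,1458,5045,4235,1855,5137,3698,3036,4639,3942,4941,4576,4140,3145,4332,1262,5595,4815,5544,3788,4384,1664,4600,4517,1312,1291,5496,4002,5397,5562,132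7,4701,3293,3438,1644,5041,2603,2576,2668,3460,4566,3150,2799,2651,3234,5312,5213,1645,3430,1850,3758,1561,4083,5359,1557,2890,4487,4391,4903,1671,3013,4674,4118,5130,3777,4548,4238,4360,4014,5505,1766,3560,3619,5266,4749,5289,4954,4103,2991,1666,5062,1357,3378,3498,4126,4515,1323,5256,4802,2720,3168,5340,3644,4838,3866,5551,1528,4345,1300,1768,2859,4472,3971,5220,1803,1864,1318,5203,4248,5350,3218,5308,5019,1610,2934,5263,4132,4464,1744,3668,5180,2969,3951,3946,3998,4661,3962,1233,5160,5474,1745,4677,3156,3047,1691,3676,1289,5251,5050,1451,1818,4835,2965,5022,2999,5260,4341,3182,4223,2766,4074,4629,4239,5523,3443,1622,4119,4188,3775,5054,5264,4274,4094,1537,3493,3473,2631,3842,1548,3655,2646,4570,1507,1550,1551,4855,1237,4561,4284,3065,3783,4956,2993,3591,1273,4560,3534,2657,3312,1480,5591,4400,1505,1780,2776,5443,1508,4784,1726,1328,3839,5112,1617,1546,3083,4572,2683,1263,4551,3584,4854,4593,1877,4797,2671,2767,4848,2578,3759,1495,2562,3833,4618,1319,2601,4654,1810,3924,3732,4272,2805,4352,2701,4732,1733,5127,3166,4267,1316,4774,1359,4465,1358,3525,1255,4871,2901,4680,2825,4388,3674,4898,1637,1241,2916,5176,2775,3089,4736,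1534,3735,2910,2664,5596,1686,3146,3967,1274,3191,1563,1506,1642,5155,5288,5467,1536,2653,2815,3729,4847,5314,1471,4531,4853,5538,3573,5515,5039,3365,2806,2917,4229,4577,4580,2863,4438,1848,1559,3154,3429,3757,2694,4451,1267,2765,4583,3304,3467,5527,4589,2801,4210,4938,4468,2870,5209,4804,3380,5077,1806,1677,3615,1589,5067,4061,4731,5347,4320,4046,5457,4163,4310,2615,4485,1885,5569,1415,3173,3587,3528,4839,4519,1412,4925,4800,3629,5560,4087,4899,3814,1775,4117,3771,3860,4801,3014,4715,4154,3147,1573,3797,3290,4930,3938,1553,2887,4547,5369,3409,1571,5362,3196,4926,4837,2800,1819,3889,4886,5376,5102,5293,1290,3779,3764,3538,4981,3932,5165,2722,2889,2844,5250,4509,4706,3136,4684,4949,4401,5053,5380,5524,3046,4795,4085,5360,4636,4017,3947,3414,4920,1317,1836,2699,5281,3401,4986,4389,4096,3224,3439,1588,1804,3987,4644,2588,2871,3245,5219,5395,3110,3822,2894,2902,1439,4502,2982,5241,4863,3664,3588,5087,4558,2810,3589,1448,5095,3008,1572,4667,3243,5491,4859,5405,3918,2974,4318,5184,3626,1279,4649,4146,4748,3738,5011,3088,3540,4980,3404,2730,2633,4457,2896,4809,3643,5383,4812,4728,2591,2666,5400,1541,1554,3302,1421,2636,4984,5012,15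77,1808,2899,5121,1286,3640,4392,3052,1322,1521,5270,4514,5154,3670,1740,2593,3059,5332,2861,3616,3051,4255,3373,4612,4803,5576,3763,3714,4888,4350,1271,3383,5026,5365,4904,4198,3879,4602,3199,2881,5043,5550,1538,1250,5351,3896,3761,4127,4138,3695,4921,1824,3919,3847,4407,3223,3885,3486,2864,3720,1676,4092,4357,3305,1339,5145,1474,2727,5199,2882,2903,4115,4025,5068,4755,4591,5315,4635,3752,3247,3066,4695,2816,4442,4735,2598,5323,4285,3545,1238,4086,4386,3715,2893,5417,1315,1882,2567,4564,4051,4373,3654,4305,3042,2620,1614,3489,4007,2736,4204,1668,4062,3027,4249,3719,2839,3345,5520,4582,3303,3706,2796,3774,3778,4985,4065,4832,2786,5401,3038,3954,1665,1526,5020,1887,5287,1530,4369,3673,3817,5584,4256,3087,4211,1781,4095,3578,5361,4482,1493,5103,4261,4292,4765,1282,4969,4992,4791,2680,5247,4134,4719,2970,4627,4697,2846,4333,4754,4331,3707,4425,3510,1719,4380,1722,3638,1307,5111,3104,4079,4186,5046,4710,2725,2904,4840,3134,4458,5073,3050,2795,4555,1715,1869,5069,5439,2600,2750,4100,2726,4060,1428,4363,3381,3231,1714,5088,3165,5164,4586,1833,2728,1469,2710,3874,1270,4633,4989,5185,3260,3745,4700,3569,4653,3009,1603,3675,1278,4291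,3155,4656,3710,3731,1433,3933,1362,2723,1450,4144,3323,4696,3863,3632,4236,1879,3251,3056,3058,5392,5331,4718,4757,4607,4269,3324,3828,4676,5563,2891,3175,3539,1814,3993,3899,5402,3120,3275,5565,4351,1735,3690,3687,2568,3018,4052,4958,3178,1489,1478,4381,3139,3882,2827,1707,2703,4752,5047,3930,2572,4319,4241,1309,1367,3826,4957,1481,4796,3849,3592,3444,1741,2638,1294,1743,1232,1834,5208,3075,4897,5559,4679,5510,1542,1875,4542,5200,2574,1276,1682,5136,5133,1620,1288,3955,3762,1847,1558,2721,5205,1410,1425,3949,3950,1235,2639,3894,3850,2672,1565,3593,4003,3709,5448,4787,3448,2706,2619,1515,2621,2781,1500,1680,4349,3091,5338,3351,5311,4507,2996,4785,4015,4205,3329,4250,5535,1479,4058,2937,1786,1655,1264,3105,4567,3978,1705,2731,1268,4183,5567,3478,3167,2954,2862,3815,3417,4666,4153,4026,5280,4827,4652,3861,4122,3441,3195,1545,2643,4173,2690,2716,4841,2922,3204,4846,4573,4053,5326,5416,3910,3119,5258,5375,5388,4289,5413,4942,2945,2947,5336,1821,5519,1619,4994,3727,2669,4192,1381,4714,1368,4427,5455,3613,4924,3931,3061,2918,2579,4539,1549,1426,2632,3095,1369,4245,1533,2650,4398,3699,2709,1532,1711,4167,4603,5536,1466,4527,3983,3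794,1868,3286,4552,4704,5169,3780,5207,5292,3515,3672,4207,2733,4273,5512,3717,4665,1734,5128,5003,5072,4441,3571,5482,5174,5466,2769,1586,3420,3572,4852,1470,3574,3782,3382,4599,4288,4673,1876,1523,1535,4670,3501,5038,3895,4416,4385,5304,2952,3711,3332,4324,2652,4712,1647,4520,4405,1675,3810,5246,1626,4568,3475,3596,2814,3728,3235,1404,3957,3575,4705,5109,4424,2935,1429,2992,4525,5463,3800,2940,4740,3756,5060,4870,3521,1245,1800,4453,3908,3455,3208,2842,5113,5452,4056,2855,1283,2942,5320,3580,2866,1575,2925,4371,3029,4634,4403,3868,3494,2802,2757,3972,4508,3561,4709,3776,3137,2977,3454,3255,4402,3543,5055,4953,3980,3781,4316,4606,4879,3411,2761,5313,3032,3509,3685,4530,3492,5015,2742,3212,3016,4129,2873,5249,1681,3396,4463,1578,5259,3148,4836,3395,2803,5144,1739,4506,3524,3734,1299,4270,1576,4218,4275,1752,3034,3026,5093,1350,3622,4826,4152,5248,4934,4931,4443,4432,1335,4722,2972,3257,1860,5104,1364,3412,5513,2624,1587,3790,4406,4769,3246,4342,1400,4937,3387,4179,1234,3470,2691,4626,4293,4294,1889,2612,4335,3926,1816,3519,3856,5175,4329,5007,3033,4257,4297,5172,1240,5533,4824,4834,3585,4330,4623,1246,3310,3389,3375,4375,379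5,1861,5276,3627,1352,3565,5346,4592,5221,1609,1430,3570,3649,4426,5211,1754,4478,2987,3041,4201,2812,5240,5108,1373,4874,4729,2793,1370,1580,4436,5518,3203,3909,4513,5318,4983,3152,4772,1330,1360,3318,3746,4948,4116,5368,4923,1597,5218,4628,2689,2808,3948,4822,5422,1690,4830,1544,3726,2642,2618,4185,4057,3229,3505,3701,4361,3360,3372,5367,5063,5354,4919,5051,4076,2779,4776,5446,4114,3256,4743,3390,4326,1275,4887,5230,3479,4793,4195,3472,3598,1629,3945,1721,2843,1649,4346,4678,3689,5229,3925,4221,3913,5501,2717,3736,3287,1797,4741,4907,5298,4843,3082,1501,1689,1260,3428,5477,4494,3891,2714,4963,3747,2663,1731,4462,3936,5425,5379,5091,4419,3940,4282,4601,5407,3092,3300,3974,5578,1846,2857,5238,4885,3164,2771,2879,2979,3124,4280,1564,1384,2752,4456,3831,4608,5507,4169,5580,3911,4191,5459,4217,3049,4435,1712,1574,3020,4224,2976,2967,1372,1738,1730,5143,5488,3254,2565,3483,3523,1298,4455,1812,4833,4491,1249,2828,1639,4374,2988,1272,3215,3884,5170,4447,4181,2985,4873,4477,3663,4500,1398,4444,3410,1608,3809,2830,4437,3628,1236,1679,3169,3830,2961,5364,4952,4788,4145,2792,1436,2930,3792,4504,3135,3806,3943,1380,4496,4524,4646,1383,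2941,3555,3772,5210,5242,3767,4323,5558,5059,4763,4098,4789,4792,4662,5410,4047,3289,5168,3855,4682,3407,1256,2912,5585,5309,3679,3721,4625,2743,4699,3069,3633,4518,3093,3618,1460,4110,5181,5139,3597,4893,5277,3667,1377,5089,3253,3973,5502,2888,1522,5554,5370,5097,3335,2907,3456,1562,2617,1698,1749,4184,5478,1631,5291,1852,3542,4367,3346,3906,4865,5396,5514,5201,5196,5090,1579,2644,2995,4554,2648,5031,3022,2838,3621,5215,3238,3299,3595,4563,2939,4073,4889,3935,3688,4906,5297,3422,4028,3835,3623,1599,1796,4671,3681,3434,3278,5406,3485,4875,1261,3151,3123,5450,3465,3760,4660,4782,1527,3968,1888,2921,4698,4492,4106,5021,3469,3315,3386,4611,5074,1685,3680,3415,1525,4304,4559,4767,4821,3271,3912,4707,4900,1663,5217,5366,4000,2594,3875,5468,2920,2797,4194,4641,5279,4702,4142,4171,5214,4890,3716,1343,3471,3944,3892,3090,4170,4168,1464,3712,3269,2831,3700,4565,1490,4368,4042,1491,3025,4011,5080,3250,3821,3240,3102,3893,4190,3122,4658,4459,4523,3659,4348,3834,3079,5428,1257,3599,2872,4521,3040,3408,1590,5464,4200,4136,3320,5556,5306,3341,2911,5475,5161,3713,2966,3419,2749,4686,1716,3106,4537,5228,3115,4598,5372,1613,3283,4178,4616,16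12,1520,1596,3969,5498,3890,1782,4347,1239,3452,1674,4376,3881,4165,3010,1839,3496,5274,5532,4206,4216,4669,1643,5198,3517,2978,3392,4909,2823,1465,2770,2994,2951,1446,1728,3838,1815,4708,5236,3405,280,1132,456,712,222,1223,1120,434,391,1197,177,107,437,278,450,586,775,282,742,370,660,442,455,440,689,293,385,475,753,519,613,192,240,563,913,812,921,330,972,131,167,558,717,171,3,221,512,792,384,148,309,164,294,535,899,489,281,1135,194,38,362,125,331,210,1133,606,1214,20,661,392,326,406,334,1010,813,168,903,149,490,1062,577,678,139,667,664,316,914,132,151,726,133,1005,1002,203,127,253,537,251,380,676,691,403,1213,654,743,513,796,108,345,447,412,416,267,755,394,175,25,198,480,243,361,436,496,390,1063,518,494,126,794,825,4,859,242,393,443,457,180,858,186,211,694,727,290,927,227,583,1050,737,50,1033,1091,801,33,1055,615,745,150,759,401,216,188,1001,831,486,407,473,682,419,381,662,809,675,378,1109,1038,213,670,1166,948,1105,977,1011,806,997,264,283,483,970,770,429,1231,942,1226,720,958,102,301,1189,674,1060,621,28,1178,1222,1118,601,600,22,883,1152,985,870,29,960,1080,1034,1007,236,449,80,937,671,847,599,1117,295,67,1221,103,1146,3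5,58,92,310,425,507,644,325,377,849,500,688,468,643,594,894,16,1030,906,53,26,1079,980,963,1023,1008,556,1045,523,1157,154,633,873,695,46,76,497,522,996,465,1015,99,1009,524,191,277,1016,346,1161,181,758,1006,1042,1049,579,943,503,166,1115,62,566,836,941,1021,1230,428,736,1167,605,358,159,1122,413,85,98,585,744,640,387,359,1085,414,617,542,687,404,698,888,880,1147,555,477,466,375,1092,1225,1031,1150,1126,907,343,291,1198,422,101,1143,57,639,1188,546,665,1000,119,399,1151,252,868,739,634,233,113,949,690,964,289,415,225,56,400,24,1022,631,156,962,1224,649,706,976,1165,357,304,143,493,604,206,1164,374,43,1059,757,249,323,835,174,417,1013,1003,994,754,1195,1053,705,1192,256,474,224,366,547,711,741,763,212,355,656,614,681,176,135,1103,146,748,162,461,866,562,452,648,441,536,1072,18,45,636,988,1125,319,724,1094,1186,581,356,1136,351,521,961,1158,747,266,173,984,262,1012,308,122,595,929,946,446,141,155,839,487,1056,735,340,957,1096,1004,342,261,680,733,587,272,756,732,956,41,954,773,1039,971,1155,959,467,418,824,245,686,629,993,981,708,892,273,920,861,527,864,785,766,1057,40,471,578,995,780,930,138,874,64,872,1026,445,204,501,530,7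14,655,117,307,650,1175,1068,774,658,545,5,89,1187,782,1217,722,0,1051,1110,86,728,893,116,1029,910,30,1123,672,797,607,967,909,596,405,69,106,1041,1101,61,498,593,1134,479,902,713,573,209,229,850,311,692,469,433,729,91,458,110,840,432,783,789,919,529,936,816,420,939,1168,534,657,764,1124,179,576,1113,506,268,239,100,642,895,219,463,157,1032,32,182,1162,917,710,622,879,485,564,484,269,54,75,1028,15,700,569,567,9,992,1014,975,1208,725,865,348,620,1149,746,95,908,612,1229,52,226,1025,476,832,771,721,626,966,592,554,1140,161,1182,124,543,1180,663,638,669,322,42,808,297,260,353,288,805,838,855,1116,257,1207,12,314,286,679,653,389,1220,677,718,565,31,1047,451,201,699,777,589,1190,769,863,539,947,762,90,787,750,140,1219,1177,14,882,953,254,779,302,1074,1086,520,215,999,1027,60,544,398,1218,460,23,1137,431,979,495,118,464,68,1201,837,147,352,321,409,51,1228,1119,439,844,172,1020,822,834,823,145,685,241,625,247,730,105,66,1154,396,275,1071,84,904,627,1090,734,867,1102,104,1193,845,120,572,300,945,517,195,1112,541,121,1048,255,860,144,923,938,666,234,928,274,73,761,499,426,313,70,410,597,602,968,514,205,857,731,123,354,341,974,668,11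56,160,492,1088,459,365,284,1153,335,504,97,525,153,134,568,944,339,207,552,1210,1199,715,382,1194,983,901,248,1170,912,472,37,298,7,202,509,940,424,697,386,430,788,618,395,1061,635,935,973,1163,887,350,1181,1099,1019,1095,44,279,470,878,551,1184,244,707,628,109,804,852,817,328,820,951,811,78,990,87,798,1144,1024,987,842,63,1078,1058,49,1075,21,571,926,373,114,347,271,376,11,1216,1093,1108,263,115,588,79,915,952,768,1173,1138,1,549,1203,854,481,337,886,781,1121,1209,438,287,189,448,1139,776,580,178,200,235,998,306,19,285,324,1183,772,13,881,922,630,1148,332,1196,312,317,871,749,372,582,1066,1087,48,848,647,955,807,1127,333,136,1191,516,651,10,220,991,889,716,1206,59,709,800,315,1083,34,223,169,609,982,1084,751,740,869,778,74,142,193,158,1044,1077,841,826,702,986,790,1097,591,646,368,1052,1054,27,673,1179,897,608,570,559,505,1141,170,965,862,760,72,152,462,17,427,329,1227,327,360,802,228,184,969,81,258,767,1212,8,793,383,320,791,1128,830,1069,1130,397,560,444,584,616,684,619,683,1174,1018,701,408,299,723,891,1111,557,349,856,36,190,402,652,1098,526,598,388,1204,185,411,1215,637,344,590,93,1089,318,540,502,1171,336,276,1104,12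02,819,1073,538,659,765,1169,71,379,853,989,2,645,803,270,550,163,575,214,553,1211,784,338,752,1064,367,829,851,810,1037,833,250,950,259,623,369,1035,231,217,230,931,885,1017,924,292,196,47,933,111,491,704,1106,1107,1081,843,65,548,265,77,815,795,1176,453,531,238,875,199,786,818,876,1046,1129,821,1067,603,511,510,916,624,1065,1205,528,799,877,703,693,911,1040,488,83,1036,482,1100,1076,88,165,898,719,237,890,371,82,296,6,1142,641,925,905,827,55,1200,738,454,303,232,246,884,978,918,187,532,533,130,828,208,96,363,932,421,218,1043,1131,1070,696,814,632,39,1145,1159,515,934,364,305,423,896,561,610,574,435,129,900,1160,128,1114,1082,846,508,112,1172,1185,478,197,137,183,94,611]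
set_option maxRecDepth 1000000 in
theorem runD : chkRun gens progD 600296516781192982180360551345439312 posD 5600 = true := by decide +kernel

set_option maxRecDepth 100000 in
theorem cntD : cnt1 cL (2032) + (sumS (cnt2 T2 18432) gB 0 + sumS (cnt3 T3 22532) gB 0) = 5600 := by
  decide +kernel

end Cfsg.Agent.Lib.Helper37.D1641
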