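import Mathlib
import Cfsg.Agent.Lib.Helper70.SchurTwoD

set_option autoImplicit false

open scoped commutatorElement

universe u v

/-!
# S2040, piece J2M-THREE (for helper70)

`three_local`: the prime 3 for a group with an extraspecial subgroup `⟨a, b⟩` of order 27 and
exponent 3 inverted by an element `t`: `⟨a, b⟩` is a 3-group, nonabelian, hence of order divisible
by 27, so its index is prime to 3 when `81 ∤ |G|`; the commutator statement is helper70's
`three_local_extraspecial`.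
-/

namespace Cfsg.Agent.Lib.Helper37.J2MTHREE

theorem isPGroup_three_zpowers {G : Type v} [Group G] (x : G) (hx : x ^ 3 = 1) :
    IsPGroup 3 (Subgroup.zpowers x) := by
  rintro ⟨g, hg⟩
  obtain ⟨n, rfl⟩ := Subgroup.mem_zpowers_iff.mp hg
  refine ⟨1, Subtype.ext ?_⟩
  show (x ^ n) ^ 3 ^ 1 = 1
  rw [pow_one, ← zpow_natCast, ← zpow_mul, mul_comm, zpow_mul, zpow_natCast, hx, one_zpow]

theorem isPGroup_closure_extraspecial {G : Type v} [Group G] (a b : G)
    (ha3 : a * a * a = 1) (hb3 : b * b * b = 1)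
    (hca : ⁅a, b⁆ * a = a * ⁅a, b⁆) (hcb : ⁅a, b⁆ * b = b * ⁅a, b⁆) :
    IsPGroup 3 (Subgroup.closure ({a, b} : Set G)) := by
  have ha3' : a ^ 3 = 1 := by rw [pow_three']; exact ha3
  have hb3' : b ^ 3 = 1 := by rw [pow_three']; exact hb3
  obtain ⟨c, hcdef⟩ : ∃ c : G, c = ⁅a, b⁆ := ⟨_, rfl⟩
  rw [← hcdef] at hca hcb
  have h1 : a * b * a⁻¹ = c * b := by rw [hcdef, commutatorElement_def]; group
  have hc3 : c ^ 3 = 1 := by
    have h2 : (a * b * a⁻¹) ^ 3 = 1 := by rw [conj_pow, hb3', mul_one, mul_inv_cancel]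
    rw [h1, (show Commute c b from hcb).mul_pow, hb3', mul_one] at h2
    exact h2
  have hac : a * c * a⁻¹ = c := by rw [← hca, mul_inv_cancel_right]
  -- B = ⟨b⟩⟨c⟩
  have hB : IsPGroup 3 (Subgroup.zpowers b ⊔ Subgroup.zpowers c : Subgroup G) := by
    refine IsPGroup.to_sup_of_normal_right' (isPGroup_three_zpowers b hb3')
      (isPGroup_three_zpowers c hc3) ?_
    refine le_trans ?_ (Subgroup.centralizer_le_normalizer _)
    rw [Subgroup.zpowers_le, Subgroup.mem_centralizer_iff]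
    intro h hh
    obtain ⟨n, rfl⟩ := Subgroup.mem_zpowers_iff.mp hh
    exact ((show Commute c b from hcb).zpow_left n).eq
  have hmap : ∀ h ∈ (Subgroup.zpowers b ⊔ Subgroup.zpowers c : Subgroup G),
      a * h * a⁻¹ ∈ (Subgroup.zpowers b ⊔ Subgroup.zpowers c : Subgroup G) := by
    have hle : (Subgroup.zpowers b ⊔ Subgroup.zpowers c : Subgroup G).map
        (MulAut.conj a).toMonoidHom ≤ Subgroup.zpowers b ⊔ Subgroup.zpowers c := by
      rw [Subgroup.map_sup, MonoidHom.map_zpowers, MonoidHom.map_zpowers]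
      refine sup_le (Subgroup.zpowers_le.mpr ?_) (Subgroup.zpowers_le.mpr ?_)
      · show a * b * a⁻¹ ∈ _
        rw [h1]
        exact Subgroup.mul_mem _ (Subgroup.mem_sup_right (Subgroup.mem_zpowers c))
          (Subgroup.mem_sup_left (Subgroup.mem_zpowers b))
      · show a * c * a⁻¹ ∈ _
        rw [hac]
        exact Subgroup.mem_sup_right (Subgroup.mem_zpowers c)
    intro h hh
    exact hle (Subgroup.mem_map_of_mem _ hh)
  have hainv : a⁻¹ = a * a := by
    rw [inv_eq_iff_mul_eq_one, ← mul_assoc]; exact ha3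
  have hbig : IsPGroup 3 (Subgroup.zpowers a ⊔ (Subgroup.zpowers b ⊔ Subgroup.zpowers c) :
      Subgroup G) := by
    refine IsPGroup.to_sup_of_normal_right' (isPGroup_three_zpowers a ha3') hB ?_
    rw [Subgroup.zpowers_le, Subgroup.mem_normalizer_iff]
    intro h
    refine ⟨hmap h, fun hh => ?_⟩
    have h2 := hmap _ (hmap _ hh)
    have e : a * (a * (a * h * a⁻¹) * a⁻¹) * a⁻¹ = h := by
      have : a * (a * (a * h * a⁻¹) * a⁻¹) * a⁻¹ = (a * a * a) * h * (a * a * a)⁻¹ := by group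
      rw [this, ha3, one_mul, inv_one, mul_one]
    rw [e] at h2
    exact h2
  refine hbig.to_le ?_
  rw [Subgroup.closure_le]
  intro y hy
  rcases hy with rfl | rfl
  · exact Subgroup.mem_sup_left (Subgroup.mem_zpowers _)
  · exact Subgroup.mem_sup_right (Subgroup.mem_sup_left (Subgroup.mem_zpowers _))

theorem dvd_card_closure_extraspecial {G : Type v} [Group G] [Finite G] (a b : G)
    (ha3 : a * a * a = 1) (hb3 : b * b * b = 1)
    (hca : ⁅a, b⁆ * a = a * ⁅a, b⁆) (hcb : ⁅a, b⁆ * b = b * ⁅a, b⁆) (hc1 : ⁅a, b⁆ ≠ 1) :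
    27 ∣ Nat.card (Subgroup.closure ({a, b} : Set G)) := by
  have : Fact (Nat.Prime 3) := ⟨Nat.prime_three⟩
  have hP := isPGroup_closure_extraspecial a b ha3 hb3 hca hcb
  obtain ⟨k, hk⟩ := IsPGroup.iff_card.mp hP
  have haU : a ∈ Subgroup.closure ({a, b} : Set G) := Subgroup.subset_closure (by simp)
  have hbU : b ∈ Subgroup.closure ({a, b} : Set G) := Subgroup.subset_closure (by simp)
  have hnc : ¬ ∀ x y : Subgroup.closure ({a, b} : Set G), x * y = y * x := by
    intro h
    apply hc1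
    have h1 := congrArg Subtype.val (h ⟨a, haU⟩ ⟨b, hbU⟩)
    have h2 : a * b = b * a := h1
    rw [commutatorElement_def, h2]; group
  have hk3 : 3 ≤ k := by
    by_contra hlt
    apply hnc
    have hk' : k = 0 ∨ k = 1 ∨ k = 2 := by omega
    rcases hk' with rfl | rfl | rfl
    · rw [pow_zero] at hk
      have : Subsingleton (Subgroup.closure ({a, b} : Set G)) :=
        (Nat.card_eq_one_iff_unique.mp hk).1
      intro x y
      exact Subsingleton.elim _ _
    · rw [pow_one] at hk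
      have := isCyclic_of_prime_card hk
      intro x y
      exact (IsCyclic.commGroup).mul_comm x y
    · have hcomm := IsPGroup.isMulCommutative_of_card_eq_prime_sq hk
      intro x y
      exact hcomm.is_comm.comm x y
  rw [hk]
  exact pow_dvd_pow 3 hk3

theorem three_local {Γ : Type u} {G : Type v} [Group Γ] [Group G] [Finite G] (σ : Γ →* G)
    (hσ : Function.Surjective σ) (hc : σ.ker ≤ Subgroup.center Γ) (h81 : ¬ 81 ∣ Nat.card G)
    (a b t : G) (ha3 : a * a * a = 1) (hb3 : b * b * b = 1)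
    (hca : ⁅a, b⁆ * a = a * ⁅a, b⁆) (hcb : ⁅a, b⁆ * b = b * ⁅a, b⁆) (hc1 : ⁅a, b⁆ ≠ 1)
    (hta : t * a * t⁻¹ = a⁻¹) (htb : t * b * t⁻¹ = b⁻¹) :
    ∃ U : Subgroup G, ¬ 3 ∣ U.index ∧ ∀ y ∈ ⁅U.comap σ, U.comap σ⁆, y ∈ σ.ker → y = 1 := by
  have hr : ∀ g : G, g ∈ σ.range := fun g => MonoidHom.mem_range.mpr (hσ g)
  refine ⟨Subgroup.closure {a, b}, ?_,
    Cfsg.Agent.Lib.Helper70.three_local_extraspecial hc (hr a) (hr b) (hr t) ha3 hb3 hca hcb hc1
      hta htb⟩
  intro h3
  apply h81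
  have h27 := dvd_card_closure_extraspecial a b ha3 hb3 hca hcb hc1
  rw [← Subgroup.card_mul_index (Subgroup.closure ({a, b} : Set G))]
  exact Nat.mul_dvd_mul h27 h3

end Cfsg.Agent.Lib.Helper37.J2MTHREE
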