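import Mathlib
import Cfsg.Prelude.Def_Spor_J3

/-!
Packed model of 9×9 matrices over the field with four elements, for the Janko group J₃:
a matrix is nine rows, each row a pair of bit-planes `(lo, hi)` (coordinate `k` is
`bit lo k + bit hi k * ω`).  Semantics `dM` into `Matrix F9 F9 F` for any field `F` of
characteristic two with `ω ^ 2 + ω + 1 = 0`.
-/

set_option autoImplicit false

namespace Cfsg.Agent.Lib.Helper37.J3

open Cfsg.Spor

/-- nine rows of bit-plane pairs -/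
structure M9 where
  r0 : ℕ × ℕ
  r1 : ℕ × ℕ
  r2 : ℕ × ℕ
  r3 : ℕ × ℕ
  r4 : ℕ × ℕ
  r5 : ℕ × ℕ
  r6 : ℕ × ℕ
  r7 : ℕ × ℕ
  r8 : ℕ × ℕ

def M9.row (M : M9) : ℕ → ℕ × ℕ
  | 0 => M.r0
  | 1 => M.r1
  | 2 => M.r2
  | 3 => M.r3
  | 4 => M.r4
  | 5 => M.r5
  | 6 => M.r6
  | 7 => M.r7
  | 8 => M.r8
  | _ => (0, 0)

def vadd (a b : ℕ × ℕ) : ℕ × ℕ := (Nat.xor a.1 b.1, Nat.xor a.2 b.2)

def sc (c : ℕ) (r : ℕ × ℕ) : ℕ × ℕ :=
  bif Nat.beq c 0 then (0, 0)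
  else bif Nat.beq c 1 then r
  else bif Nat.beq c 2 then (r.2, Nat.xor r.1 r.2)
  else (Nat.xor r.1 r.2, r.1)

def bit (n k : ℕ) : ℕ := Nat.land (Nat.shiftRight n k) 1

def coef (v : ℕ × ℕ) (k : ℕ) : ℕ := Nat.add (bit v.1 k) (Nat.mul 2 (bit v.2 k))

theorem vadd_def (a b : ℕ × ℕ) : vadd a b = (a.1 ^^^ b.1, a.2 ^^^ b.2) := rfl
theorem sc_0 (r : ℕ × ℕ) : sc 0 r = (0, 0) := rfl
theorem sc_1 (r : ℕ × ℕ) : sc 1 r = r := rfl
theorem sc_2 (r : ℕ × ℕ) : sc 2 r = (r.2, r.1 ^^^ r.2) := rfl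
theorem sc_3 (r : ℕ × ℕ) : sc 3 r = (r.1 ^^^ r.2, r.1) := rfl
theorem bit_def (n k : ℕ) : bit n k = (n >>> k) &&& 1 := rfl
theorem coef_def (v : ℕ × ℕ) (k : ℕ) : coef v k = bit v.1 k + 2 * bit v.2 k := rfl

theorem vadd_zero_left (x : ℕ × ℕ) : vadd (0, 0) x = x := by
  rw [vadd_def]; simp

theorem vadd_zero_right (x : ℕ × ℕ) : vadd x (0, 0) = x := by
  rw [vadd_def]; simp

def lin9 (c0 c1 c2 c3 c4 c5 c6 c7 c8 : ℕ) (M : M9) : ℕ × ℕ :=
  vadd (sc c0 M.r0) (vadd (sc c1 M.r1) (vadd (sc c2 M.r2) (vadd (sc c3 M.r3) (vadd (sc c4 M.r4)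
    (vadd (sc c5 M.r5) (vadd (sc c6 M.r6) (vadd (sc c7 M.r7) (sc c8 M.r8))))))))

def vm (v : ℕ × ℕ) (M : M9) : ℕ × ℕ :=
  lin9 (coef v 0) (coef v 1) (coef v 2) (coef v 3) (coef v 4) (coef v 5) (coef v 6) (coef v 7)
    (coef v 8) M

def mm (A B : M9) : M9 :=
  ⟨vm A.r0 B, vm A.r1 B, vm A.r2 B, vm A.r3 B, vm A.r4 B, vm A.r5 B, vm A.r6 B, vm A.r7 B,
    vm A.r8 B⟩

def ID : M9 := ⟨(1, 0), (2, 0), (4, 0), (8, 0), (16, 0), (32, 0), (64, 0), (128, 0), (256, 0)⟩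

def pbeq (a b : ℕ × ℕ) : Bool := Nat.beq a.1 b.1 && Nat.beq a.2 b.2

def M9.beq (A B : M9) : Bool :=
  pbeq A.r0 B.r0 && pbeq A.r1 B.r1 && pbeq A.r2 B.r2 && pbeq A.r3 B.r3 && pbeq A.r4 B.r4 &&
    pbeq A.r5 B.r5 && pbeq A.r6 B.r6 && pbeq A.r7 B.r7 && pbeq A.r8 B.r8

theorem pbeq_eq {a b : ℕ × ℕ} (h : pbeq a b = true) : a = b := by
  obtain ⟨a1, a2⟩ := a
  obtain ⟨b1, b2⟩ := b
  simp only [pbeq, Bool.and_eq_true] at h
  rw [Nat.eq_of_beq_eq_true h.1, Nat.eq_of_beq_eq_true h.2]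

theorem M9.eq_of_beq {A B : M9} (h : M9.beq A B = true) : A = B := by
  cases A; cases B
  simp only [M9.beq, Bool.and_eq_true] at h
  obtain ⟨⟨⟨⟨⟨⟨⟨⟨h0, h1⟩, h2⟩, h3⟩, h4⟩, h5⟩, h6⟩, h7⟩, h8⟩ := h
  rw [pbeq_eq h0, pbeq_eq h1, pbeq_eq h2, pbeq_eq h3, pbeq_eq h4, pbeq_eq h5, pbeq_eq h6,
    pbeq_eq h7, pbeq_eq h8]

/-- unpack a 162-bit numeral into a matrix -/
def fld (P k : ℕ) : ℕ := Nat.land (Nat.shiftRight P k) 511

def unpack (P : ℕ) : M9 :=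
  ⟨(Nat.land P 511, fld P 9), (fld P 18, fld P 27), (fld P 36, fld P 45), (fld P 54, fld P 63),
    (fld P 72, fld P 81), (fld P 90, fld P 99), (fld P 108, fld P 117), (fld P 126, fld P 135),
    (fld P 144, fld P 153)⟩

/-- binary trees of numerals for random access -/
inductive BT where
  | leaf (v : ℕ) : BT
  | node (l r : BT) : BT

def BT.get : BT → ℕ → ℕ → ℕ
  | .leaf v, _, _ => v
  | .node l r, d, i =>
    match d with
    | 0 => 0
    | d + 1 => bif Nat.beq (Nat.land (Nat.shiftRight i d) 1) 1 then r.get d i else l.get d i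

/-- 16-ary nodes for random-access tables -/
structure N16 (α : Type) where
  f0 : α
  f1 : α
  f2 : α
  f3 : α
  f4 : α
  f5 : α
  f6 : α
  f7 : α
  f8 : α
  f9 : α
  f10 : α
  f11 : α
  f12 : α
  f13 : α
  f14 : α
  f15 : α

def N16.sel {α : Type} (n : N16 α) (k : ℕ) : α :=
  (bif Nat.beq (Nat.land k 8) 0 then (bif Nat.beq (Nat.land k 4) 0 then (bif Nat.beq (Nat.land k 2) 0 then (bif Nat.beq (Nat.land k 1) 0 then n.f0 else n.f1) else (bif Nat.beq (Nat.land k 1) 0 then n.f2 else n.f3)) else (bif Nat.beq (Nat.land k 2) 0 then (bif Nat.beq (Nat.land k 1) 0 then n.f4 else n.f5) else (bif Nat.beq (Nat.land k 1) 0 then n.f6 else n.f7))) else (bif Nat.beq (Nat.land k 4) 0 then (bif Nat.beq (Nat.land k 2) 0 then (bif Nat.beq (Nat.land k 1) 0 then n.f8 else n.f9) else (bif Nat.beq (Nat.land k 1) 0 then n.f10 else n.f11)) else (bif Nat.beq (Nat.land k 2) 0 then (bif Nat.beq (Nat.land k 1) 0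 then n.f12 else n.f13) else (bif Nat.beq (Nat.land k 1) 0 then n.f14 else n.f15))))

/-- three-level table of numerals -/
abbrev T3 : Type := N16 (N16 (N16 ℕ))

def T3.get (t : T3) (j : ℕ) : ℕ :=
  ((t.sel (Nat.shiftRight j 8)).sel (Nat.shiftRight j 4)).sel j

def Z1 : N16 ℕ := ⟨0, 0, 0, 0, 0, 0, 0, 0, 0, 0, 0, 0, 0, 0, 0, 0⟩
def Z2 : N16 (N16 ℕ) := ⟨Z1, Z1, Z1, Z1, Z1, Z1, Z1, Z1, Z1, Z1, Z1, Z1, Z1, Z1, Z1, Z1⟩

/-- entry `i` of width `w` in a table with 32 entries per leaf -/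
def T3.ent (t : T3) (w i : ℕ) : ℕ :=
  Nat.shiftRight (t.get (Nat.shiftRight i 5)) (Nat.mul w (Nat.land i 31))

/-- position of an index in `0..8` -/
def pos (z : F9) : ℕ := 3 * z.1.val + z.2.val

theorem bit_eq (n k : ℕ) : bit n k = (n.testBit k).toNat := by
  rw [Nat.toNat_testBit, bit_def, Nat.shiftRight_eq_div_pow, Nat.and_one_is_mod]

theorem bit_lt (n k : ℕ) : bit n k < 2 := by
  rw [bit_def, Nat.and_one_is_mod]; exact Nat.mod_lt _ (by norm_num)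

theorem bit_xor (a b k : ℕ) : bit (a ^^^ b) k = (bit a k + bit b k) % 2 := by
  rw [bit_eq, bit_eq, bit_eq, Nat.testBit_xor]
  cases a.testBit k <;> cases b.testBit k <;> rfl

theorem coef_lt (v : ℕ × ℕ) (k : ℕ) : coef v k < 4 := by
  have h1 := bit_lt v.1 k
  have h2 := bit_lt v.2 k
  rw [coef_def]; omega

section sem

variable {F : Type*} [Field F] (ω : F)

/-- the field element with code `c` -/
def cF (c : ℕ) : F := ((c % 2 : ℕ) : F) + ((c / 2 % 2 : ℕ) : F) * ω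

/-- decode a row -/
def dV (v : ℕ × ℕ) : F9 → F := fun z => cF ω (coef v (pos z))

/-- decode a matrix -/
def dM (M : M9) : Matrix F9 F9 F := fun w z => dV ω (M.row (pos w)) z

variable {ω}

theorem cast_mod2 (h2 : (2 : F) = 0) (m : ℕ) : ((m % 2 : ℕ) : F) = (m : F) := by
  conv_rhs => rw [← Nat.div_add_mod m 2]
  push_cast
  rw [h2, zero_mul, zero_add]

theorem cF_coef (v : ℕ × ℕ) (k : ℕ) :
    cF ω (coef v k) = (bit v.1 k : F) + (bit v.2 k : F) * ω := by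
  have h1 := bit_lt v.1 k
  have h2 := bit_lt v.2 k
  unfold cF
  rw [coef_def]
  have e1 : (bit v.1 k + 2 * bit v.2 k) % 2 = bit v.1 k := by omega
  have e2 : (bit v.1 k + 2 * bit v.2 k) / 2 % 2 = bit v.2 k := by omega
  rw [e1, e2]

theorem dV_apply (v : ℕ × ℕ) (z : F9) :
    dV ω v z = (bit v.1 (pos z) : F) + (bit v.2 (pos z) : F) * ω := cF_coef v (pos z)

theorem dV_vadd (h2 : (2 : F) = 0) (a b : ℕ × ℕ) : dV ω (vadd a b) = dV ω a + dV ω b := by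
  funext z
  simp only [Pi.add_apply, dV_apply, vadd_def, bit_xor, cast_mod2 h2]
  push_cast
  ring

theorem dV_zero : dV ω (0, 0) = 0 := by
  funext z
  simp [dV_apply, bit_def]

theorem dV_sc (h2 : (2 : F) = 0) (hω : ω * ω = ω + 1) (c : ℕ) (hc : c < 4) (r : ℕ × ℕ) :
    dV ω (sc c r) = cF ω c • dV ω r := by
  funext z
  interval_cases c
  · simp [sc_0, dV_zero, cF]
  · simp [sc_1, cF]
  · simp only [sc_2, Pi.smul_apply, smul_eq_mul, dV_apply, bit_xor, cast_mod2 h2, cF]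
    push_cast
    norm_num
    linear_combination (-(bit r.2 (pos z) : F)) * hω -
      ((bit r.1 (pos z) : F) + (bit r.2 (pos z) : F) * ω) * h2
  · simp only [sc_3, Pi.smul_apply, smul_eq_mul, dV_apply, bit_xor, cast_mod2 h2, cF]
    push_cast
    norm_num
    linear_combination (-(bit r.2 (pos z) : F)) * hω -
      ((bit r.1 (pos z) : F) + 2 * (bit r.2 (pos z) : F) * ω) * h2

theorem cF_lt4 (h2 : (2 : F) = 0) (hω : ω * ω = ω + 1) (h1 : (1 : F) ≠ 0) :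
    ∀ c < 4, ∀ d < 4, cF ω c = cF ω d → c = d := by
  have hω0 : ω ≠ 0 := by
    rintro rfl
    apply h1; simpa using hω.symm
  have hω1 : ω ≠ 1 := by
    rintro rfl
    apply h1
    have : (1 : F) = 2 := by simpa using hω
    rw [this, h2]
  have hω11 : ω + 1 ≠ 0 := by
    intro h
    rw [h] at hω
    rcases mul_self_eq_zero.mp hω with h0
    exact hω0 h0
  have e0 : cF ω 0 = 0 := by simp [cF]
  have e1 : cF ω 1 = 1 := by simp [cF]
  have e2 : cF ω 2 = ω := by simp [cF]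
  have e3 : cF ω 3 = ω + 1 := by
    simp [cF]; ring
  have hω3 : ω + 1 ≠ 1 := by simpa using hω0
  have hω4 : ω + 1 ≠ ω := by simpa using h1
  intro c hc d hd h
  interval_cases c <;> interval_cases d <;> first | rfl | (exfalso; simp only [e0, e1, e2, e3] at h; first | exact h1 h | exact h1 h.symm | exact hω0 h | exact hω0 h.symm | exact hω1 h | exact hω1 h.symm | exact hω11 h | exact hω11 h.symm | exact hω3 h | exact hω3 h.symm | exact hω4 h | exact hω4 h.symm)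

theorem sum_F9 {M : Type*} [AddCommMonoid M] (f : F9 → M) :
    ∑ z : F9, f z = f (0, 0) + f (0, 1) + f (0, 2) + f (1, 0) + f (1, 1) + f (1, 2) + f (2, 0) +
      f (2, 1) + f (2, 2) := by
  rw [Fintype.sum_prod_type]
  have h3 : ∀ g : ZMod 3 → M, ∑ x : ZMod 3, g x = g 0 + g 1 + g 2 := fun g => Fin.sum_univ_three g
  simp only [h3]
  abel

theorem pos_cases (P : ℕ → Prop) (h0 : P 0) (h1 : P 1) (h2 : P 2) (h3 : P 3) (h4 : P 4) (h5 : P 5)
    (h6 : P 6) (h7 : P 7) (h8 : P 8) (z : F9) : P (pos z) := by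
  obtain ⟨x, y⟩ := z
  fin_cases x <;> fin_cases y <;> assumption

theorem dV_lin9 (h2 : (2 : F) = 0) (hω : ω * ω = ω + 1) (c0 c1 c2 c3 c4 c5 c6 c7 c8 : ℕ)
    (h0 : c0 < 4) (h1 : c1 < 4) (hc2 : c2 < 4) (h3 : c3 < 4) (h4 : c4 < 4) (h5 : c5 < 4)
    (h6 : c6 < 4) (h7 : c7 < 4) (h8 : c8 < 4) (M : M9) :
    dV ω (lin9 c0 c1 c2 c3 c4 c5 c6 c7 c8 M) =
      cF ω c0 • dV ω M.r0 + cF ω c1 • dV ω M.r1 + cF ω c2 • dV ω M.r2 + cF ω c3 • dV ω M.r3 +
      cF ω c4 • dV ω M.r4 + cF ω c5 • dV ω M.r5 + cF ω c6 • dV ω M.r6 + cF ω c7 • dV ω M.r7 +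
      cF ω c8 • dV ω M.r8 := by
  simp only [lin9, dV_vadd h2, dV_sc h2 hω _ h0, dV_sc h2 hω _ h1, dV_sc h2 hω _ hc2,
    dV_sc h2 hω _ h3, dV_sc h2 hω _ h4, dV_sc h2 hω _ h5, dV_sc h2 hω _ h6, dV_sc h2 hω _ h7,
    dV_sc h2 hω _ h8]
  abel

theorem dV_vm (h2 : (2 : F) = 0) (hω : ω * ω = ω + 1) (v : ℕ × ℕ) (M : M9) :
    dV ω (vm v M) = Matrix.vecMul (dV ω v) (dM ω M) := by
  rw [vm, dV_lin9 h2 hω _ _ _ _ _ _ _ _ _ (coef_lt _ _) (coef_lt _ _) (coef_lt _ _) (coef_lt _ _)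
    (coef_lt _ _) (coef_lt _ _) (coef_lt _ _) (coef_lt _ _) (coef_lt _ _)]
  funext z
  simp only [Matrix.vecMul, dotProduct, sum_F9, Pi.add_apply, Pi.smul_apply, smul_eq_mul, dM, dV]
  rfl

theorem row_mm (A B : M9) (w : F9) : (mm A B).row (pos w) = vm (A.row (pos w)) B := by
  refine pos_cases (fun k => (mm A B).row k = vm (A.row k) B) ?_ ?_ ?_ ?_ ?_ ?_ ?_ ?_ ?_ w <;> rfl

theorem dM_mm (h2 : (2 : F) = 0) (hω : ω * ω = ω + 1) (A B : M9) :
    dM ω (mm A B) = dM ω A * dM ω B := by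
  funext w z
  have h := congrFun (dV_vm h2 hω (A.row (pos w)) B) z
  rw [dM, row_mm, h]
  rfl

theorem dM_ID : dM ω ID = (1 : Matrix F9 F9 F) := by
  funext w z
  obtain ⟨x, y⟩ := w
  obtain ⟨x', y'⟩ := z
  fin_cases x <;> fin_cases y <;> fin_cases x' <;> fin_cases y' <;>
    (simp [dM, dV, cF, coef_def, bit_def, ID, pos, M9.row, Matrix.one_apply, ZMod.val] <;>
      try decide)

/-- code of the first coefficient of a row -/
def c0 (v : ℕ × ℕ) : ℕ := Nat.add (Nat.land v.1 1) (Nat.mul 2 (Nat.land v.2 1))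

theorem c0_eq (v : ℕ × ℕ) : c0 v = coef v 0 := rfl

/-- key of the first column -/
def key0 (M : M9) : ℕ :=
  Nat.add (c0 M.r0) (Nat.mul 4 (Nat.add (c0 M.r1) (Nat.mul 4 (Nat.add (c0 M.r2) (Nat.mul 4
    (Nat.add (c0 M.r3) (Nat.mul 4 (Nat.add (c0 M.r4) (Nat.mul 4 (Nat.add (c0 M.r5) (Nat.mul 4
      (Nat.add (c0 M.r6) (Nat.mul 4 (Nat.add (c0 M.r7) (Nat.mul 4 (c0 M.r8))))))))))))))))

def rk (v : ℕ × ℕ) : ℕ := Nat.add (Nat.land v.1 511) (Nat.mul 512 (Nat.land v.2 511))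

/-- key of the whole matrix -/
def keyM (M : M9) : ℕ :=
  Nat.add (rk M.r0) (Nat.mul 262144 (Nat.add (rk M.r1) (Nat.mul 262144 (Nat.add (rk M.r2)
    (Nat.mul 262144 (Nat.add (rk M.r3) (Nat.mul 262144 (Nat.add (rk M.r4) (Nat.mul 262144
      (Nat.add (rk M.r5) (Nat.mul 262144 (Nat.add (rk M.r6) (Nat.mul 262144 (Nat.add (rk M.r7)
        (Nat.mul 262144 (rk M.r8))))))))))))))))

theorem coef_eq_of (h2 : (2 : F) = 0) (hω : ω * ω = ω + 1) (h1 : (1 : F) ≠ 0) {A B : M9}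
    {w z : F9} (h : dM ω A w z = dM ω B w z) :
    coef (A.row (pos w)) (pos z) = coef (B.row (pos w)) (pos z) :=
  cF_lt4 h2 hω h1 _ (coef_lt _ _) _ (coef_lt _ _) h

theorem key0_eq_of (h2 : (2 : F) = 0) (hω : ω * ω = ω + 1) (h1 : (1 : F) ≠ 0) {A B : M9}
    (h : ∀ w : F9, dM ω A w 0 = dM ω B w 0) : key0 A = key0 B := by
  have e0 := coef_eq_of h2 hω h1 (h (0, 0))
  have e1 := coef_eq_of h2 hω h1 (h (0, 1))
  have e2 := coef_eq_of h2 hω h1 (h (0, 2))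
  have e3 := coef_eq_of h2 hω h1 (h (1, 0))
  have e4 := coef_eq_of h2 hω h1 (h (1, 1))
  have e5 := coef_eq_of h2 hω h1 (h (1, 2))
  have e6 := coef_eq_of h2 hω h1 (h (2, 0))
  have e7 := coef_eq_of h2 hω h1 (h (2, 1))
  have e8 := coef_eq_of h2 hω h1 (h (2, 2))
  unfold key0
  rw [c0_eq, c0_eq, c0_eq, c0_eq, c0_eq, c0_eq, c0_eq, c0_eq, c0_eq, c0_eq, c0_eq, c0_eq,
    c0_eq, c0_eq, c0_eq, c0_eq, c0_eq, c0_eq]
  have p0 : pos ((0 : ZMod 3), (0 : ZMod 3)) = 0 := rfl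
  exact (by
    have e0' : coef A.r0 0 = coef B.r0 0 := e0
    have e1' : coef A.r1 0 = coef B.r1 0 := e1
    have e2' : coef A.r2 0 = coef B.r2 0 := e2
    have e3' : coef A.r3 0 = coef B.r3 0 := e3
    have e4' : coef A.r4 0 = coef B.r4 0 := e4
    have e5' : coef A.r5 0 = coef B.r5 0 := e5
    have e6' : coef A.r6 0 = coef B.r6 0 := e6
    have e7' : coef A.r7 0 = coef B.r7 0 := e7
    have e8' : coef A.r8 0 = coef B.r8 0 := e8
    rw [e0', e1', e2', e3', e4', e5', e6', e7', e8'])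

theorem and511 {a b : ℕ} (h : ∀ c < 9, bit a c = bit b c) : a &&& 511 = b &&& 511 := by
  apply Nat.eq_of_testBit_eq
  intro i
  rw [Nat.testBit_and, Nat.testBit_and]
  have h511 : (511 : ℕ).testBit i = decide (i < 9) := by
    have := Nat.testBit_two_pow_sub_one 9 i
    simpa using this
  rw [h511]
  by_cases hi : i < 9
  · have := h i hi
    rw [bit_eq, bit_eq] at this
    have hh : a.testBit i = b.testBit i := by
      cases ha : a.testBit i <;> cases hb : b.testBit i <;> simp_all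
    rw [hh]
  · simp [hi]

theorem row_eq_of (h2 : (2 : F) = 0) (hω : ω * ω = ω + 1) (h1 : (1 : F) ≠ 0) {A B : M9}
    (h : dM ω A = dM ω B) (w : F9) : rk (A.row (pos w)) = rk (B.row (pos w)) := by
  have hc : ∀ c < 9, coef (A.row (pos w)) c = coef (B.row (pos w)) c := by
    intro c hc
    have hz : ∀ z : F9, coef (A.row (pos w)) (pos z) = coef (B.row (pos w)) (pos z) :=
      fun z => coef_eq_of h2 hω h1 (congrFun (congrFun h w) z)
    interval_cases c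
    · exact hz (0, 0)
    · exact hz (0, 1)
    · exact hz (0, 2)
    · exact hz (1, 0)
    · exact hz (1, 1)
    · exact hz (1, 2)
    · exact hz (2, 0)
    · exact hz (2, 1)
    · exact hz (2, 2)
  have hb1 : ∀ c < 9, bit (A.row (pos w)).1 c = bit (B.row (pos w)).1 c := by
    intro c hc'
    have := hc c hc'
    rw [coef_def, coef_def] at this
    have a1 := bit_lt (A.row (pos w)).1 c
    have a2 := bit_lt (A.row (pos w)).2 c
    have b1 := bit_lt (B.row (pos w)).1 c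
    have b2 := bit_lt (B.row (pos w)).2 c
    omega
  have hb2 : ∀ c < 9, bit (A.row (pos w)).2 c = bit (B.row (pos w)).2 c := by
    intro c hc'
    have := hc c hc'
    rw [coef_def, coef_def] at this
    have a1 := bit_lt (A.row (pos w)).1 c
    have a2 := bit_lt (A.row (pos w)).2 c
    have b1 := bit_lt (B.row (pos w)).1 c
    have b2 := bit_lt (B.row (pos w)).2 c
    omega
  show ((A.row (pos w)).1 &&& 511) + 512 * ((A.row (pos w)).2 &&& 511) =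
    ((B.row (pos w)).1 &&& 511) + 512 * ((B.row (pos w)).2 &&& 511)
  rw [and511 hb1, and511 hb2]

theorem keyM_eq_of (h2 : (2 : F) = 0) (hω : ω * ω = ω + 1) (h1 : (1 : F) ≠ 0) {A B : M9}
    (h : dM ω A = dM ω B) : keyM A = keyM B := by
  have e0 : rk A.r0 = rk B.r0 := row_eq_of h2 hω h1 h (0, 0)
  have e1 : rk A.r1 = rk B.r1 := row_eq_of h2 hω h1 h (0, 1)
  have e2 : rk A.r2 = rk B.r2 := row_eq_of h2 hω h1 h (0, 2)
  have e3 : rk A.r3 = rk B.r3 := row_eq_of h2 hω h1 h (1, 0)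
  have e4 : rk A.r4 = rk B.r4 := row_eq_of h2 hω h1 h (1, 1)
  have e5 : rk A.r5 = rk B.r5 := row_eq_of h2 hω h1 h (1, 2)
  have e6 : rk A.r6 = rk B.r6 := row_eq_of h2 hω h1 h (2, 0)
  have e7 : rk A.r7 = rk B.r7 := row_eq_of h2 hω h1 h (2, 1)
  have e8 : rk A.r8 = rk B.r8 := row_eq_of h2 hω h1 h (2, 2)
  unfold keyM
  rw [e0, e1, e2, e3, e4, e5, e6, e7, e8]

end sem

end Cfsg.Agent.Lib.Helper37.J3
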