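import Cfsg.Agent.Lib.Helper37.J3Lvl

set_option autoImplicit false
set_option maxRecDepth 100000

namespace Cfsg.Agent.Lib.Helper37.J3

theorem c1_0 : allFrom chkL1 0 500 = true := by decide +kernel
theorem c1_500 : allFrom chkL1 500 500 = true := by decide +kernel
theorem c1_1000 : allFrom chkL1 1000 500 = true := by decide +kernel
theorem c1_1500 : allFrom chkL1 1500 500 = true := by decide +kernel
theorem c1_2000 : allFrom chkL1 2000 500 = true := by decide +kernel
theorem c1_2500 : allFrom chkL1 2500 500 = true := by decide +kernel
theorem c1_3000 : allFrom chkL1 3000 500 = true := by decide +kernel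
theorem c1_3500 : allFrom chkL1 3500 500 = true := by decide +kernel
theorem c1_4000 : allFrom chkL1 4000 500 = true := by decide +kernel
theorem c1_4500 : allFrom chkL1 4500 500 = true := by decide +kernel
theorem c1_5000 : allFrom chkL1 5000 500 = true := by decide +kernel
theorem c1_5500 : allFrom chkL1 5500 500 = true := by decide +kernel
theorem c1_6000 : allFrom chkL1 6000 500 = true := by decide +kernel
theorem c1_6500 : allFrom chkL1 6500 500 = true := by decide +kernel
theorem c1_7000 : allFrom chkL1 7000 500 = true := by decide +kernel
theorem c1_7500 : allFrom chkL1 7500 500 = true := by decide +kernel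
theorem c1_8000 : allFrom chkL1 8000 500 = true := by decide +kernel
theorem c1_8500 : allFrom chkL1 8500 500 = true := by decide +kernel

end Cfsg.Agent.Lib.Helper37.J3
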