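import Cfsg.Agent.Lib.Helper37.J3Lvl

set_option autoImplicit false
set_option maxRecDepth 100000

namespace Cfsg.Agent.Lib.Helper37.J3

theorem c1_9000 : allFrom chkL1 9000 500 = true := by decide +kernel
theorem c1_9500 : allFrom chkL1 9500 500 = true := by decide +kernel
theorem c1_10000 : allFrom chkL1 10000 500 = true := by decide +kernel
theorem c1_10500 : allFrom chkL1 10500 500 = true := by decide +kernel
theorem c1_11000 : allFrom chkL1 11000 500 = true := by decide +kernel
theorem c1_11500 : allFrom chkL1 11500 500 = true := by decide +kernel
theorem c1_12000 : allFrom chkL1 12000 500 = true := by decide +kernel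
theorem c1_12500 : allFrom chkL1 12500 500 = true := by decide +kernel
theorem c1_13000 : allFrom chkL1 13000 500 = true := by decide +kernel
theorem c1_13500 : allFrom chkL1 13500 500 = true := by decide +kernel
theorem c1_14000 : allFrom chkL1 14000 500 = true := by decide +kernel
theorem c1_14500 : allFrom chkL1 14500 500 = true := by decide +kernel
theorem c1_15000 : allFrom chkL1 15000 500 = true := by decide +kernel
theorem c1_15500 : allFrom chkL1 15500 500 = true := by decide +kernel
theorem c1_16000 : allFrom chkL1 16000 500 = true := by decide +kernel
theorem c1_16500 : allFrom chkL1 16500 500 = true := by decide +kernel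
theorem c1_17000 : allFrom chkL1 17000 500 = true := by decide +kernel
theorem c1_17500 : allFrom chkL1 17500 500 = true := by decide +kernel

end Cfsg.Agent.Lib.Helper37.J3
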