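import Cfsg.Agent.Lib.Helper37.J3Lvl

set_option autoImplicit false
set_option maxRecDepth 100000

namespace Cfsg.Agent.Lib.Helper37.J3

theorem c1_18000 : allFrom chkL1 18000 500 = true := by decide +kernel
theorem c1_18500 : allFrom chkL1 18500 500 = true := by decide +kernel
theorem c1_19000 : allFrom chkL1 19000 500 = true := by decide +kernel
theorem c1_19500 : allFrom chkL1 19500 500 = true := by decide +kernel
theorem c1_20000 : allFrom chkL1 20000 500 = true := by decide +kernel
theorem c1_20500 : allFrom chkL1 20500 500 = true := by decide +kernel
theorem c1_21000 : allFrom chkL1 21000 500 = true := by decide +kernel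
theorem c1_21500 : allFrom chkL1 21500 500 = true := by decide +kernel
theorem c1_22000 : allFrom chkL1 22000 500 = true := by decide +kernel
theorem c1_22500 : allFrom chkL1 22500 500 = true := by decide +kernel
theorem c1_23000 : allFrom chkL1 23000 500 = true := by decide +kernel
theorem c1_23500 : allFrom chkL1 23500 500 = true := by decide +kernel
theorem c1_24000 : allFrom chkL1 24000 500 = true := by decide +kernel
theorem c1_24500 : allFrom chkL1 24500 500 = true := by decide +kernel
theorem c1_25000 : allFrom chkL1 25000 500 = true := by decide +kernel
theorem c1_25500 : allFrom chkL1 25500 500 = true := by decide +kernel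
theorem c1_26000 : allFrom chkL1 26000 500 = true := by decide +kernel
theorem c1_26500 : allFrom chkL1 26500 500 = true := by decide +kernel

end Cfsg.Agent.Lib.Helper37.J3
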