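import Cfsg.Agent.Lib.Helper37.J3Lvl

set_option autoImplicit false
set_option maxRecDepth 100000

namespace Cfsg.Agent.Lib.Helper37.J3

theorem c1_27000 : allFrom chkL1 27000 500 = true := by decide +kernel
theorem c1_27500 : allFrom chkL1 27500 500 = true := by decide +kernel
theorem c1_28000 : allFrom chkL1 28000 500 = true := by decide +kernel
theorem c1_28500 : allFrom chkL1 28500 500 = true := by decide +kernel
theorem c1_29000 : allFrom chkL1 29000 500 = true := by decide +kernel
theorem c1_29500 : allFrom chkL1 29500 500 = true := by decide +kernel
theorem c1_30000 : allFrom chkL1 30000 500 = true := by decide +kernel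
theorem c1_30500 : allFrom chkL1 30500 500 = true := by decide +kernel
theorem c1_31000 : allFrom chkL1 31000 500 = true := by decide +kernel
theorem c1_31500 : allFrom chkL1 31500 500 = true := by decide +kernel
theorem c1_32000 : allFrom chkL1 32000 500 = true := by decide +kernel
theorem c1_32500 : allFrom chkL1 32500 500 = true := by decide +kernel
theorem c1_33000 : allFrom chkL1 33000 500 = true := by decide +kernel
theorem c1_33500 : allFrom chkL1 33500 500 = true := by decide +kernel
theorem c1_34000 : allFrom chkL1 34000 500 = true := by decide +kernel
theorem c1_34500 : allFrom chkL1 34500 500 = true := by decide +kernel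
theorem c1_35000 : allFrom chkL1 35000 500 = true := by decide +kernel
theorem c1_35500 : allFrom chkL1 35500 500 = true := by decide +kernel

end Cfsg.Agent.Lib.Helper37.J3
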