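import Cfsg.Agent.Lib.Helper37.J3Lvl

set_option autoImplicit false
set_option maxRecDepth 100000

namespace Cfsg.Agent.Lib.Helper37.J3

theorem c1_36000 : allFrom chkL1 36000 500 = true := by decide +kernel
theorem c1_36500 : allFrom chkL1 36500 500 = true := by decide +kernel
theorem c1_37000 : allFrom chkL1 37000 500 = true := by decide +kernel
theorem c1_37500 : allFrom chkL1 37500 500 = true := by decide +kernel
theorem c1_38000 : allFrom chkL1 38000 500 = true := by decide +kernel
theorem c1_38500 : allFrom chkL1 38500 500 = true := by decide +kernel
theorem c1_39000 : allFrom chkL1 39000 500 = true := by decide +kernel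
theorem c1_39500 : allFrom chkL1 39500 500 = true := by decide +kernel
theorem c1_40000 : allFrom chkL1 40000 500 = true := by decide +kernel
theorem c1_40500 : allFrom chkL1 40500 500 = true := by decide +kernel
theorem c1_41000 : allFrom chkL1 41000 500 = true := by decide +kernel
theorem c1_41500 : allFrom chkL1 41500 500 = true := by decide +kernel
theorem c1_42000 : allFrom chkL1 42000 500 = true := by decide +kernel
theorem c1_42500 : allFrom chkL1 42500 500 = true := by decide +kernel
theorem c1_43000 : allFrom chkL1 43000 500 = true := by decide +kernel
theorem c1_43500 : allFrom chkL1 43500 500 = true := by decide +kernel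
theorem c1_44000 : allFrom chkL1 44000 500 = true := by decide +kernel
theorem c1_44500 : allFrom chkL1 44500 500 = true := by decide +kernel

end Cfsg.Agent.Lib.Helper37.J3
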