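import Cfsg.Agent.Lib.Helper37.J3Lvl

set_option autoImplicit false
set_option maxRecDepth 100000

namespace Cfsg.Agent.Lib.Helper37.J3

theorem c1_45000 : allFrom chkL1 45000 500 = true := by decide +kernel
theorem c1_45500 : allFrom chkL1 45500 500 = true := by decide +kernel
theorem c1_46000 : allFrom chkL1 46000 500 = true := by decide +kernel
theorem c1_46500 : allFrom chkL1 46500 500 = true := by decide +kernel
theorem c1_47000 : allFrom chkL1 47000 500 = true := by decide +kernel
theorem c1_47500 : allFrom chkL1 47500 500 = true := by decide +kernel
theorem c1_48000 : allFrom chkL1 48000 500 = true := by decide +kernel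
theorem c1_48500 : allFrom chkL1 48500 500 = true := by decide +kernel
theorem c1_49000 : allFrom chkL1 49000 500 = true := by decide +kernel
theorem c1_49500 : allFrom chkL1 49500 500 = true := by decide +kernel
theorem c1_50000 : allFrom chkL1 50000 500 = true := by decide +kernel
theorem c1_50500 : allFrom chkL1 50500 500 = true := by decide +kernel
theorem c1_51000 : allFrom chkL1 51000 500 = true := by decide +kernel
theorem c1_51500 : allFrom chkL1 51500 500 = true := by decide +kernel
theorem c1_52000 : allFrom chkL1 52000 500 = true := by decide +kernel
theorem c1_52500 : allFrom chkL1 52500 500 = true := by decide +kernel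
theorem c1_53000 : allFrom chkL1 53000 500 = true := by decide +kernel
theorem c1_53500 : allFrom chkL1 53500 500 = true := by decide +kernel

end Cfsg.Agent.Lib.Helper37.J3
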