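import Cfsg.Agent.Lib.Helper37.J3Lvl

set_option autoImplicit false
set_option maxRecDepth 100000

namespace Cfsg.Agent.Lib.Helper37.J3

theorem c1_54000 : allFrom chkL1 54000 500 = true := by decide +kernel
theorem c1_54500 : allFrom chkL1 54500 500 = true := by decide +kernel
theorem c1_55000 : allFrom chkL1 55000 500 = true := by decide +kernel
theorem c1_55500 : allFrom chkL1 55500 500 = true := by decide +kernel
theorem c1_56000 : allFrom chkL1 56000 500 = true := by decide +kernel
theorem c1_56500 : allFrom chkL1 56500 500 = true := by decide +kernel
theorem c1_57000 : allFrom chkL1 57000 500 = true := by decide +kernel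
theorem c1_57500 : allFrom chkL1 57500 500 = true := by decide +kernel
theorem c1_58000 : allFrom chkL1 58000 500 = true := by decide +kernel
theorem c1_58500 : allFrom chkL1 58500 500 = true := by decide +kernel
theorem c1_59000 : allFrom chkL1 59000 500 = true := by decide +kernel
theorem c1_59500 : allFrom chkL1 59500 500 = true := by decide +kernel
theorem c1_60000 : allFrom chkL1 60000 500 = true := by decide +kernel
theorem c1_60500 : allFrom chkL1 60500 500 = true := by decide +kernel
theorem c1_61000 : allFrom chkL1 61000 500 = true := by decide +kernel
theorem c1_61500 : allFrom chkL1 61500 500 = true := by decide +kernel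
theorem c1_62000 : allFrom chkL1 62000 500 = true := by decide +kernel
theorem c1_62500 : allFrom chkL1 62500 500 = true := by decide +kernel

end Cfsg.Agent.Lib.Helper37.J3
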