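import Cfsg.Agent.Lib.Helper37.J3Lvl

set_option autoImplicit false
set_option maxRecDepth 100000

namespace Cfsg.Agent.Lib.Helper37.J3

theorem c1_63000 : allFrom chkL1 63000 500 = true := by decide +kernel
theorem c1_63500 : allFrom chkL1 63500 500 = true := by decide +kernel
theorem c1_64000 : allFrom chkL1 64000 500 = true := by decide +kernel
theorem c1_64500 : allFrom chkL1 64500 500 = true := by decide +kernel
theorem c1_65000 : allFrom chkL1 65000 500 = true := by decide +kernel
theorem c1_65500 : allFrom chkL1 65500 500 = true := by decide +kernel
theorem c1_66000 : allFrom chkL1 66000 500 = true := by decide +kernel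
theorem c1_66500 : allFrom chkL1 66500 500 = true := by decide +kernel
theorem c1_67000 : allFrom chkL1 67000 500 = true := by decide +kernel
theorem c1_67500 : allFrom chkL1 67500 500 = true := by decide +kernel
theorem c1_68000 : allFrom chkL1 68000 500 = true := by decide +kernel
theorem c1_68500 : allFrom chkL1 68500 500 = true := by decide +kernel
theorem c1_69000 : allFrom chkL1 69000 500 = true := by decide +kernel
theorem c1_69500 : allFrom chkL1 69500 268 = true := by decide +kernel

end Cfsg.Agent.Lib.Helper37.J3
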