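import Cfsg.Agent.Lib.Helper37.J3Lvl

set_option autoImplicit false
set_option maxRecDepth 100000

namespace Cfsg.Agent.Lib.Helper37.J3

theorem c2_0 : allFrom chkL2 0 240 = true := by decide +kernel
theorem c2_240 : allFrom chkL2 240 240 = true := by decide +kernel
theorem c2_480 : allFrom chkL2 480 240 = true := by decide +kernel
theorem c2_720 : allFrom chkL2 720 240 = true := by decide +kernel
theorem c2_960 : allFrom chkL2 960 240 = true := by decide +kernel
theorem c2_1200 : allFrom chkL2 1200 240 = true := by decide +kernel
theorem c2_1440 : allFrom chkL2 1440 240 = true := by decide +kernel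
theorem c2_1680 : allFrom chkL2 1680 240 = true := by decide +kernel
theorem c2_1920 : allFrom chkL2 1920 240 = true := by decide +kernel

end Cfsg.Agent.Lib.Helper37.J3
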