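import Cfsg.Agent.Lib.Helper37.J3Main

/-!
The centre of `threeJ3 F ω` (the three scalars), for `F` with four elements.
-/

set_option autoImplicit false

namespace Cfsg.Agent.Lib.Helper37.J3

open Cfsg.Spor Subgroup

section

variable {F : Type*} [Field F] {ω : F}

theorem om_ne_zero (hω : ω * ω = ω + 1) : ω ≠ 0 := by
  rintro rfl
  rw [mul_zero, zero_add] at hω
  exact one_ne_zero hω.symm

theorem om_ne_one (h2 : (2 : F) = 0) (hω : ω * ω = ω + 1) : ω ≠ 1 := by
  rintro rfl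
  rw [mul_one, one_add_one_eq_two, h2] at hω
  exact one_ne_zero hω

theorem zmod3_cases : ∀ n : ZMod 3, n = 0 ∨ n = 1 ∨ n = 2 := by decide

theorem omegaPow_inj (h2 : (2 : F) = 0) (hω : ω * ω = ω + 1) :
    Function.Injective (omegaPow F ω) := by
  have h0 := om_ne_zero hω
  have h1 := om_ne_one h2 hω
  have e0 : omegaPow F ω 0 = 1 := by show ω ^ 0 = 1; rw [pow_zero]
  have e1 : omegaPow F ω 1 = ω := by show ω ^ 1 = ω; rw [pow_one]
  have e2 : omegaPow F ω 2 = ω + 1 := by show ω ^ 2 = ω + 1; rw [pow_two, hω]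
  intro a b hab
  rcases zmod3_cases a with rfl | rfl | rfl <;> rcases zmod3_cases b with rfl | rfl | rfl
  · rfl
  · rw [e0, e1] at hab; exact absurd hab.symm h1
  · rw [e0, e2] at hab; exact absurd (by linear_combination -hab) h0
  · rw [e1, e0] at hab; exact absurd hab h1
  · rfl
  · rw [e1, e2] at hab; exact absurd (by linear_combination -hab : (1 : F) = 0) one_ne_zero
  · rw [e2, e0] at hab; exact absurd (by linear_combination hab) h0
  · rw [e2, e1] at hab; exact absurd (by linear_combination hab : (1 : F) = 0) one_ne_zero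
  · rfl

theorem j3Lam_ne_zero (hω : ω * ω = ω + 1) (Z z : F9) : j3Lam F ω Z z ≠ 0 := by
  unfold j3Lam
  split_ifs
  · exact one_ne_zero
  · exact om_ne_zero hω
  · exact pow_ne_zero 2 (om_ne_zero hω)
  · exact one_ne_zero

theorem f9_decomp : ∀ z : F9, z = 0 + z.1.val • (((1 : ZMod 3), (0 : ZMod 3)) : F9) +
    z.2.val • (((0 : ZMod 3), (1 : ZMod 3)) : F9) := by decide +kernel

/-- a matrix commuting with `A₁₀, A₀₁, D₁₀, D₀₁` is a scalar -/
theorem scalar_of_comm (h2 : (2 : F) = 0) (hω : ω * ω = ω + 1) (X : Matrix F9 F9 F)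
    (hA1 : X * j3A F ω ((1 : ZMod 3), (0 : ZMod 3)) = j3A F ω ((1 : ZMod 3), (0 : ZMod 3)) * X)
    (hA2 : X * j3A F ω ((0 : ZMod 3), (1 : ZMod 3)) = j3A F ω ((0 : ZMod 3), (1 : ZMod 3)) * X)
    (hD1 : X * j3D F ω ((1 : ZMod 3), (0 : ZMod 3)) = j3D F ω ((1 : ZMod 3), (0 : ZMod 3)) * X)
    (hD2 : X * j3D F ω ((0 : ZMod 3), (1 : ZMod 3)) = j3D F ω ((0 : ZMod 3), (1 : ZMod 3)) * X) :
    X = X 0 0 • (1 : Matrix F9 F9 F) := by
  have hinj := omegaPow_inj h2 hω
  have hoff : ∀ w z : F9, w ≠ z → X w z = 0 := by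
    intro w z hwz
    by_contra hX
    by_cases h1 : w.1 = z.1
    · have h2' : w.2 ≠ z.2 := fun h => hwz (Prod.ext h1 h)
      have e := congrFun (congrFun hA2 w) z
      rw [j3A, Matrix.mul_diagonal, Matrix.diagonal_mul] at e
      have e' := hinj (mul_left_cancel₀ hX (e.trans (mul_comm _ _)))
      simp only [zero_mul, one_mul, zero_add] at e'
      exact h2' e'.symm
    · have e := congrFun (congrFun hA1 w) z
      rw [j3A, Matrix.mul_diagonal, Matrix.diagonal_mul] at e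
      have e' := hinj (mul_left_cancel₀ hX (e.trans (mul_comm _ _)))
      simp only [zero_mul, one_mul, add_zero] at e'
      exact h1 e'.symm
  have hdiag : ∀ Z : F9, X * j3D F ω Z = j3D F ω Z * X → ∀ z : F9, X (z + Z) (z + Z) = X z z := by
    intro Z hD z
    have e := congrFun (congrFun hD (z + Z)) z
    rw [Matrix.mul_apply, Matrix.mul_apply, Finset.sum_eq_single (z + Z),
      Finset.sum_eq_single z] at e
    · have e1 : j3D F ω Z (z + Z) z = j3Lam F ω Z z := if_pos rfl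
      rw [e1] at e
      exact mul_right_cancel₀ (j3Lam_ne_zero hω Z z) (e.trans (mul_comm _ _))
    · intro k _ hk
      rw [hoff k z hk, mul_zero]
    · intro h; exact absurd (Finset.mem_univ _) h
    · intro k _ hk
      rw [hoff (z + Z) k (Ne.symm hk), zero_mul]
    · intro h; exact absurd (Finset.mem_univ _) h
  have hn : ∀ Z : F9, X * j3D F ω Z = j3D F ω Z * X → ∀ (n : ℕ) (z : F9),
      X (z + n • Z) (z + n • Z) = X z z := by
    intro Z hD n
    induction n with
    | zero => intro z; rw [zero_nsmul, add_zero]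
    | succ n ih => intro z; rw [succ_nsmul, ← add_assoc, hdiag Z hD, ih]
  have hconst : ∀ z : F9, X z z = X 0 0 := by
    intro z
    conv_lhs => rw [f9_decomp z]
    rw [hn _ hD2, hn _ hD1]
  funext w z
  by_cases h : w = z
  · subst h
    rw [Matrix.smul_apply, Matrix.one_apply_eq, smul_eq_mul, mul_one, hconst]
  · rw [hoff w z h, Matrix.smul_apply, Matrix.one_apply_ne h, smul_zero]


theorem OM_cube : mm OMcode (mm OMcode OMcode) = ID := M9.eq_of_beq (by decide +kernel)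
theorem OM_cube' : mm (mm OMcode OMcode) OMcode = ID := M9.eq_of_beq (by decide +kernel)

theorem dM_OM : dM ω OMcode = ω • (1 : Matrix F9 F9 F) := by
  funext w z
  show cF ω (coef (OMcode.row (pos w)) (pos z)) = _
  rw [OM_spec, Matrix.smul_apply, smul_eq_mul]
  by_cases h : w = z
  · rw [if_pos h, cF_two, h, Matrix.one_apply_eq, mul_one]
  · rw [if_neg h, cF_zero, Matrix.one_apply_ne h, mul_zero]

/-- the scalar `ω` -/
def zetaG (h2 : (2 : F) = 0) (hω : ω * ω = ω + 1) : GL F9 F :=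
  mkGL ω h2 hω OMcode (mm OMcode OMcode) OM_cube OM_cube'

theorem zetaG_val (h2 : (2 : F) = 0) (hω : ω * ω = ω + 1) :
    ((zetaG h2 hω : GL F9 F) : Matrix F9 F9 F) = ω • (1 : Matrix F9 F9 F) := dM_OM

theorem exists_of_sift (h2 : (2 : F) = 0) (hω : ω * ω = ω + 1) (M : M9) (i m : ℕ)
    (hi : i < 69768) (hm : m < 2160) (h : M = mm (U1 i) (U2 m)) :
    ∃ g ∈ threeJ3 F ω, Rep ω g M := by
  obtain ⟨u, hu, huR⟩ := tree1 h2 hω i hi
  obtain ⟨t, ht, htR⟩ := tree2 h2 hω m hm
  refine ⟨u * t, ?_, ?_⟩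
  · rw [threeJ3_eq h2 hω]
    exact (H1 h2 hω).mul_mem hu (H2_le h2 hω ht)
  · rw [h]; exact Rep.mul h2 hω huR htR

theorem zetaG_mem (h2 : (2 : F) = 0) (hω : ω * ω = ω + 1) : zetaG h2 hω ∈ threeJ3 F ω := by
  rw [threeJ3_eq h2 hω]
  exact mem_H1_of_sift h2 hω _ 1 104 (by norm_num) (by norm_num)
    (Rep.congr (mkGL_rep h2 hω _ _ _ _) OM_sift)

theorem center_iff (h2 : (2 : F) = 0) (hω : ω * ω = ω + 1) (g : threeJ3 F ω) :
    g ∈ center (threeJ3 F ω) ↔
      ∃ c : F, ((g : GL F9 F) : Matrix F9 F9 F) = c • (1 : Matrix F9 F9 F) := by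
  constructor
  · intro hg
    rw [Subgroup.mem_center_iff] at hg
    have key : ∀ x : GL F9 F, x ∈ threeJ3 F ω →
        ((g : GL F9 F) : Matrix F9 F9 F) * (x : Matrix F9 F9 F) =
          (x : Matrix F9 F9 F) * ((g : GL F9 F) : Matrix F9 F9 F) := by
      intro x hx
      have e := hg ⟨x, hx⟩
      have e' := congrArg (fun y : threeJ3 F ω => ((y : GL F9 F) : Matrix F9 F9 F)) e
      exact e'.symm
    have hA1 := key (mkGL ω h2 hω _ IA10 IA10_1 IA10_2)
      (mem_of_rep (mkGL_rep h2 hω _ _ _ _) (genA_mem hω _))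
    have hA2 := key (mkGL ω h2 hω _ IA01 IA01_1 IA01_2)
      (mem_of_rep (mkGL_rep h2 hω _ _ _ _) (genA_mem hω _))
    have hD1 := key (mkGL ω h2 hω _ ID10 ID10_1 ID10_2)
      (mem_of_rep (mkGL_rep h2 hω _ _ _ _) (genD_mem hω _))
    have hD2 := key (mkGL ω h2 hω _ ID01 ID01_1 ID01_2)
      (mem_of_rep (mkGL_rep h2 hω _ _ _ _) (genD_mem hω _))
    refine ⟨_, scalar_of_comm h2 hω _ ?_ ?_ ?_ ?_⟩
    · rw [j3A_eq hω]; exact hA1
    · rw [j3A_eq hω]; exact hA2
    · rw [j3D_eq hω]; exact hD1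
    · rw [j3D_eq hω]; exact hD2
  · rintro ⟨c, hc⟩
    rw [Subgroup.mem_center_iff]
    intro x
    apply Subtype.ext
    apply Units.ext
    show ((x : GL F9 F) : Matrix F9 F9 F) * ((g : GL F9 F) : Matrix F9 F9 F) =
      ((g : GL F9 F) : Matrix F9 F9 F) * ((x : GL F9 F) : Matrix F9 F9 F)
    rw [hc, Matrix.mul_smul, Matrix.smul_mul, mul_one, one_mul]

theorem card_center (h2 : (2 : F) = 0) (hω : ω * ω = ω + 1)
    (hF4 : ∀ c : F, c = 0 ∨ c = 1 ∨ c = ω ∨ c = ω + 1) :
    Nat.card (center (threeJ3 F ω)) = 3 := by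
  have h0 := om_ne_zero hω
  have h1 := om_ne_one h2 hω
  let z : threeJ3 F ω := ⟨zetaG h2 hω, zetaG_mem h2 hω⟩
  have hz : ((z : GL F9 F) : Matrix F9 F9 F) = ω • (1 : Matrix F9 F9 F) := zetaG_val h2 hω
  have hzz : (((z * z : threeJ3 F ω) : GL F9 F) : Matrix F9 F9 F) =
      (ω + 1) • (1 : Matrix F9 F9 F) := by
    show ((z : GL F9 F) : Matrix F9 F9 F) * ((z : GL F9 F) : Matrix F9 F9 F) = _
    rw [hz, Matrix.mul_smul, Matrix.smul_mul, mul_one, smul_smul, hω]
  have h11 : (((1 : threeJ3 F ω) : GL F9 F) : Matrix F9 F9 F) = (1 : F) • (1 : Matrix F9 F9 F) := by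
    rw [one_smul]; rfl
  have sm_inj : ∀ c d : F, c • (1 : Matrix F9 F9 F) = d • (1 : Matrix F9 F9 F) → c = d := by
    intro c d h
    have := congrFun (congrFun h 0) 0
    simpa using this
  have mat_inj : ∀ x y : threeJ3 F ω, ((x : GL F9 F) : Matrix F9 F9 F) = (y : GL F9 F) → x = y :=
    fun x y h => Subtype.ext (Units.ext h)
  have hset : (center (threeJ3 F ω) : Set (threeJ3 F ω)) = {1, z, z * z} := by
    ext g
    rw [SetLike.mem_coe, center_iff h2 hω]
    constructor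
    · rintro ⟨c, hc⟩
      rcases hF4 c with rfl | rfl | rfl | rfl
      · exfalso
        rw [zero_smul] at hc
        have e : ((g : GL F9 F) : Matrix F9 F9 F) * ((g : GL F9 F)⁻¹ : GL F9 F) = 1 := by
          rw [← Units.val_mul, mul_inv_cancel]; rfl
        rw [hc, zero_mul] at e
        have := congrFun (congrFun e 0) 0
        simp at this
      · exact Or.inl (mat_inj _ _ (hc.trans h11.symm))
      · exact Or.inr (Or.inl (mat_inj _ _ (hc.trans hz.symm)))
      · exact Or.inr (Or.inr (mat_inj _ _ (hc.trans hzz.symm)))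
    · rintro (rfl | rfl | rfl)
      · exact ⟨1, h11⟩
      · exact ⟨ω, hz⟩
      · exact ⟨ω + 1, hzz⟩
  show Nat.card ((center (threeJ3 F ω) : Set (threeJ3 F ω))) = 3
  rw [Nat.card_coe_set_eq, hset, Set.ncard_eq_three]
  refine ⟨1, z, z * z, ?_, ?_, ?_, rfl⟩
  · intro h
    have := sm_inj _ _ (h11.symm.trans ((congrArg (fun y : threeJ3 F ω =>
      ((y : GL F9 F) : Matrix F9 F9 F)) h).trans hz))
    exact h1 this.symm
  · intro h
    have := sm_inj _ _ (h11.symm.trans ((congrArg (fun y : threeJ3 F ω =>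
      ((y : GL F9 F) : Matrix F9 F9 F)) h).trans hzz))
    exact h0 (by linear_combination -this)
  · intro h
    have := sm_inj _ _ (hz.symm.trans ((congrArg (fun y : threeJ3 F ω =>
      ((y : GL F9 F) : Matrix F9 F9 F)) h).trans hzz))
    exact one_ne_zero (by linear_combination -this : (1 : F) = 0)

theorem card_J3 (h2 : (2 : F) = 0) (hω : ω * ω = ω + 1)
    (hF4 : ∀ c : F, c = 0 ∨ c = 1 ∨ c = ω ∨ c = ω + 1) :
    Nat.card (J3 F ω) = 50232960 := by
  have h := Subgroup.card_eq_card_quotient_mul_card_subgroup (center (threeJ3 F ω))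
  rw [card_center h2 hω hF4, card_threeJ3 h2 hω] at h
  show Nat.card (threeJ3 F ω ⧸ center (threeJ3 F ω)) = 50232960
  omega

end

end Cfsg.Agent.Lib.Helper37.J3
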