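import Mathlib

/-!
A one-level Schreier–Sims counting lemma: if `H = closure S` acts on a set, `u i` (`i < n`) are
elements of `H` moving a base point `b` to `n` distinct points, `K ≤ H` fixes `b`, and all
Schreier generators `(u j)⁻¹ * s * u i` lie in `K`, then `|H| = n * |K|`.
-/

set_option autoImplicit false

namespace Cfsg.Agent.Lib.Helper37.J3

open Subgroup

section schreier

variable {Γ X : Type*} [Group Γ]

theorem schreier_all (S : Set Γ) (K : Subgroup Γ) (n : ℕ) (u : ℕ → Γ)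
    (hinj : ∀ i < n, ∀ j < n, (u i)⁻¹ * u j ∈ K → i = j)
    (hS : ∀ s ∈ S, ∀ i < n, ∃ j < n, (u j)⁻¹ * s * u i ∈ K) :
    ∀ h ∈ closure S, ∀ i < n, ∃ j < n, (u j)⁻¹ * h * u i ∈ K := by
  intro h hh
  induction hh using Subgroup.closure_induction with
  | mem s hs => exact hS s hs
  | one =>
    intro i hi
    exact ⟨i, hi, by simp [K.one_mem]⟩
  | mul x y _ _ hx hy =>
    intro i hi
    obtain ⟨j, hj, hjk⟩ := hy i hi
    obtain ⟨l, hl, hlk⟩ := hx j hj
    refine ⟨l, hl, ?_⟩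
    have := K.mul_mem hlk hjk
    have e : (u l)⁻¹ * x * u j * ((u j)⁻¹ * y * u i) = (u l)⁻¹ * (x * y) * u i := by group
    rwa [e] at this
  | inv x _ hx =>
    intro i hi
    -- the map i ↦ j is injective on `Fin n`, hence surjective
    choose f hf hfk using hx
    let φ : Fin n → Fin n := fun a => ⟨f a.1 a.2, hf a.1 a.2⟩
    have hφ : Function.Injective φ := by
      intro a c hac
      have hac' : f a.1 a.2 = f c.1 c.2 := congrArg Fin.val hac
      have h1 := hfk a.1 a.2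
      have h2 := hfk c.1 c.2
      rw [hac'] at h1
      have := K.mul_mem (K.inv_mem h1) h2
      have e : ((u (f c.1 c.2))⁻¹ * x * u a.1)⁻¹ * ((u (f c.1 c.2))⁻¹ * x * u c.1) =
          (u a.1)⁻¹ * u c.1 := by group
      rw [e] at this
      exact Fin.ext (hinj _ a.2 _ c.2 this)
    obtain ⟨a, ha⟩ := (Finite.injective_iff_surjective.mp hφ) ⟨i, hi⟩
    refine ⟨a.1, a.2, ?_⟩
    have h1 := hfk a.1 a.2
    have hfa : f a.1 a.2 = i := congrArg Fin.val ha
    rw [hfa] at h1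
    have := K.inv_mem h1
    have e : ((u i)⁻¹ * x * u a.1)⁻¹ = (u a.1)⁻¹ * x⁻¹ * u i := by group
    rwa [e] at this

/-- the counting lemma -/
theorem schreier_card (S : Set Γ) (K : Subgroup Γ) (n : ℕ) (u : ℕ → Γ) (r : ℕ) (hr : r < n)
    (hur : u r = 1) (hK : K ≤ closure S) (hu : ∀ i < n, u i ∈ closure S)
    (hinj : ∀ i < n, ∀ j < n, (u i)⁻¹ * u j ∈ K → i = j)
    (hS : ∀ s ∈ S, ∀ i < n, ∃ j < n, (u j)⁻¹ * s * u i ∈ K) :
    Nat.card (closure S) = n * Nat.card K := by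
  have hall := schreier_all S K n u hinj hS
  -- every element of `closure S` is `u j * k`
  have hdec : ∀ h ∈ closure S, ∃ j < n, (u j)⁻¹ * h ∈ K := by
    intro h hh
    obtain ⟨j, hj, hjk⟩ := hall h hh r hr
    exact ⟨j, hj, by simpa [hur] using hjk⟩
  -- bijection `Fin n × K ≃ closure S`
  let φ : Fin n × K → closure S := fun p => ⟨u p.1.1 * p.2.1, (closure S).mul_mem (hu _ p.1.2) (hK p.2.2)⟩
  have hφ : Function.Bijective φ := by
    constructor
    · rintro ⟨a, k⟩ ⟨c, k'⟩ hac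
      have hac' : u a.1 * k.1 = u c.1 * k'.1 := congrArg Subtype.val hac
      have e : (u a.1)⁻¹ * u c.1 = k.1 * k'.1⁻¹ := by
        rw [inv_mul_eq_iff_eq_mul, ← mul_assoc, hac', mul_assoc, mul_inv_cancel, mul_one]
      have hmem : (u a.1)⁻¹ * u c.1 ∈ K := by rw [e]; exact K.mul_mem k.2 (K.inv_mem k'.2)
      have hac2 : a = c := Fin.ext (hinj _ a.2 _ c.2 hmem)
      subst hac2
      have : k.1 = k'.1 := mul_left_cancel hac'
      exact Prod.ext rfl (Subtype.ext this)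
    · rintro ⟨h, hh⟩
      obtain ⟨j, hj, hjk⟩ := hdec h hh
      refine ⟨(⟨j, hj⟩, ⟨(u j)⁻¹ * h, hjk⟩), ?_⟩
      apply Subtype.ext
      show u j * ((u j)⁻¹ * h) = h
      group
  rw [← Nat.card_congr (Equiv.ofBijective φ hφ), Nat.card_prod, Nat.card_fin]

/-- shortcut for a generator with `s * s = 1` -/
theorem edge_inv2 (K : Subgroup Γ) (u : ℕ → Γ) (s : Γ) (hs : s * s = 1) (i j : ℕ)
    (h : (u i)⁻¹ * s * u j ∈ K) : (u j)⁻¹ * s * u i ∈ K := by
  have := K.inv_mem h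
  have hs' : s⁻¹ = s := inv_eq_of_mul_eq_one_left hs
  have e : ((u i)⁻¹ * s * u j)⁻¹ = (u j)⁻¹ * s * u i := by
    rw [mul_inv_rev, mul_inv_rev, inv_inv, hs', mul_assoc]
  rwa [e] at this

/-- shortcut for a generator with `s * s * s = 1` -/
theorem edge_inv3 (K : Subgroup Γ) (u : ℕ → Γ) (s : Γ) (hs : s * s * s = 1) (i j l : ℕ)
    (h1 : (u l)⁻¹ * s * u j ∈ K) (h2 : (u i)⁻¹ * s * u l ∈ K) : (u j)⁻¹ * s * u i ∈ K := by
  have := K.inv_mem (K.mul_mem h2 h1)
  have hs' : s⁻¹ * s⁻¹ = s := by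
    have : s * s = s⁻¹ := eq_inv_of_mul_eq_one_left hs
    rw [← this]
    have h3 : s * s * s = 1 := hs
    calc s * s * (s * s) = (s * s * s) * s := by group
      _ = s := by rw [h3, one_mul]
  have e : ((u i)⁻¹ * s * u l * ((u l)⁻¹ * s * u j))⁻¹ = (u j)⁻¹ * (s⁻¹ * s⁻¹) * u i := by group
  rwa [e, hs'] at this

/-- membership of the transversal by induction along a tree -/
theorem tree_mem (H : Subgroup Γ) (n : ℕ) (R : Γ → ℕ → Prop) (ρ : ℕ → ℕ)
    (h : ∀ i < n, R 1 i ∨ ∃ p < n, ρ p < ρ i ∧ ∃ s ∈ H, ∀ g, R g p → R (s * g) i) :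
    ∀ i < n, ∃ g ∈ H, R g i := by
  suffices hm : ∀ m, ∀ i < n, ρ i = m → ∃ g ∈ H, R g i from fun i hi => hm _ i hi rfl
  intro m
  induction m using Nat.strong_induction_on with
  | _ m ih =>
    intro i hi hm
    rcases h i hi with h1 | ⟨p, hp, hlt, s, hs, hR⟩
    · exact ⟨1, H.one_mem, h1⟩
    · obtain ⟨g, hg, hgR⟩ := ih (ρ p) (hm ▸ hlt) p hp rfl
      exact ⟨s * g, H.mul_mem hs hg, hR g hgR⟩

end schreier

end Cfsg.Agent.Lib.Helper37.J3
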