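import Cfsg.Agent.Lib.Helper37.J3ChkDef
import Cfsg.Agent.Lib.Helper37.J3SS

/-!
Boolean certificate checkers for one Schreier–Sims level over packed `M9` matrices, and their
soundness: `level_card`.
-/

set_option autoImplicit false

namespace Cfsg.Agent.Lib.Helper37.J3

open Cfsg.Spor Subgroup

theorem eTau_def (e : ℕ) : eTau e = e % 131072 := by
  show e &&& (2 ^ 17 - 1) = _
  rw [Nat.and_two_pow_sub_one_eq_mod]

theorem eM_def (e : ℕ) : eM e = (e / 131072) % 8192 := by
  show (e >>> 17) &&& (2 ^ 13 - 1) = _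
  rw [Nat.and_two_pow_sub_one_eq_mod, Nat.shiftRight_eq_div_pow]

theorem eSkip_def (e : ℕ) : eSkip e = e / 1073741824 := by
  show e >>> 30 = _
  rw [Nat.shiftRight_eq_div_pow]

theorem allFrom_sound (f : ℕ → Bool) : ∀ (k i : ℕ), allFrom f i k = true →
    ∀ j, i ≤ j → j < i + k → f j = true := by
  intro k
  induction k with
  | zero => intro i _ j h1 h2; omega
  | succ k ih =>
    intro i h j h1 h2
    simp only [allFrom, Bool.and_eq_true] at h
    rcases Nat.eq_or_lt_of_le h1 with rfl | hlt
    · exact h.1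
    · exact ih (i + 1) h.2 j hlt (by omega)

theorem blt_true {a b : ℕ} (h : Nat.blt a b = true) : a < b := by
  simpa [Nat.blt] using h

theorem beq_true {a b : ℕ} (h : Nat.beq a b = true) : a = b := Nat.eq_of_beq_eq_true h

section glue

variable {F : Type*} [Field F] {ω : F}

/-- `g` has matrix `dM M` -/
def Rep (ω : F) (g : GL F9 F) (M : M9) : Prop := (g : Matrix F9 F9 F) = dM ω M

theorem Rep.mul (h2 : (2 : F) = 0) (hω : ω * ω = ω + 1) {g h : GL F9 F} {A B : M9}
    (hg : Rep ω g A) (hh : Rep ω h B) : Rep ω (g * h) (mm A B) := by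
  unfold Rep at *
  rw [Units.val_mul, hg, hh, dM_mm h2 hω]

theorem Rep.one : Rep ω (1 : GL F9 F) ID := by
  unfold Rep
  rw [Units.val_one, dM_ID]

theorem Rep.unique {g h : GL F9 F} {M : M9} (hg : Rep ω g M) (hh : Rep ω h M) : g = h :=
  Units.ext (hg.trans hh.symm)

theorem level_tree (h2 : (2 : F) = 0) (hω : ω * ω = ω + 1)
    (U T : ℕ → M9) (ea eb pd : ℕ → ℕ) (apA apB : M9 → M9) (n1 n2 r2 : ℕ) (key : M9 → ℕ)
    (hn1 : n1 ≤ 131072) (hr2 : r2 < 8192)
    (a b : GL F9 F) (A B : M9) (hA : Rep ω a A) (hB : Rep ω b B)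
    (hapA : ∀ M, mm A M = apA M) (hapB : ∀ M, mm B M = apB M)
    (hchk : ∀ i < n1, chk1 U T ea eb pd apA apB n1 n2 r2 key i = true) :
    ∀ i < n1, ∃ g ∈ closure ({a, b} : Set (GL F9 F)), Rep ω g (U i) := by
  classical
  have ha_mem : a ∈ closure ({a, b} : Set (GL F9 F)) := subset_closure (by simp)
  have hb_mem : b ∈ closure ({a, b} : Set (GL F9 F)) := subset_closure (by simp)
  have hcA : ∀ i < n1, chkA U T ea apA n1 n2 r2 i = true := fun i hi => by
    have := hchk i hi; simp only [chk1, Bool.and_eq_true] at this; exact this.1.1.1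
  have hcB : ∀ i < n1, chkB U T eb apB n1 n2 r2 i = true := fun i hi => by
    have := hchk i hi; simp only [chk1, Bool.and_eq_true] at this; exact this.1.1.2
  have hcP : ∀ i < n1, chkP U ea eb pd n1 r2 i = true := fun i hi => by
    have := hchk i hi; simp only [chk1, Bool.and_eq_true] at this; exact this.1.2
  apply tree_mem (closure ({a, b} : Set (GL F9 F))) n1 (fun g i => Rep ω g (U i))
    (fun i => dDep (pd i))
  intro i hi
  have hp := hcP i hi
  unfold chkP at hp
  by_cases hd : dDep (pd i) = 0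
  · left
    have hb : Nat.beq (dDep (pd i)) 0 = true := by rw [hd]; rfl
    rw [hb, cond_true] at hp
    show Rep ω 1 (U i)
    rw [M9.eq_of_beq hp]; exact Rep.one
  · right
    have hb : Nat.beq (dDep (pd i)) 0 = false := by
      cases hbb : Nat.beq (dDep (pd i)) 0
      · rfl
      · exact absurd (beq_true hbb) hd
    rw [hb, cond_false] at hp
    simp only [Bool.and_eq_true] at hp
    obtain ⟨⟨hp1, hp2⟩, hp3⟩ := hp
    have hpn := blt_true hp1
    refine ⟨dPar (pd i), hpn, blt_true hp2, ?_⟩
    have hp3' := beq_true hp3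
    -- decode the entry
    have dec : ∀ E, E = i + r2 * 131072 → eTau E = i ∧ eM E = r2 ∧ eSkip E = 0 := by
      intro E hE
      subst hE
      refine ⟨?_, ?_, ?_⟩
      · rw [eTau_def]; omega
      · rw [eM_def]; omega
      · rw [eSkip_def]; omega
    by_cases hsi : dSi (pd i) = 0
    · have hb2 : Nat.beq (dSi (pd i)) 0 = true := by rw [hsi]; rfl
      rw [hb2, cond_true] at hp3'
      obtain ⟨e1, e2, e3⟩ := dec _ hp3'
      refine ⟨a, ha_mem, fun g hg => ?_⟩
      have hc := hcA _ hpn
      unfold chkA at hc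
      simp only [Bool.and_eq_true] at hc
      have hb3' : Nat.beq (eSkip (ea (dPar (pd i)))) 0 = true := by rw [e3]; rfl
      rw [hb3', cond_true] at hc
      have heq := M9.eq_of_beq hc.2
      have hb4 : Nat.beq (eM (ea (dPar (pd i)))) r2 = true := by rw [e2]; exact Nat.beq_refl _
      unfold rhs at heq
      rw [hb4, cond_true, e1] at heq
      show Rep ω (a * g) (U i)
      rw [← heq, ← hapA]
      exact Rep.mul h2 hω hA hg
    · have hb2 : Nat.beq (dSi (pd i)) 0 = false := by
        cases hbb : Nat.beq (dSi (pd i)) 0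
        · rfl
        · exact absurd (beq_true hbb) hsi
      rw [hb2, cond_false] at hp3'
      obtain ⟨e1, e2, e3⟩ := dec _ hp3'
      refine ⟨b, hb_mem, fun g hg => ?_⟩
      have hc := hcB _ hpn
      unfold chkB at hc
      simp only [Bool.and_eq_true] at hc
      have hb3' : Nat.beq (eSkip (eb (dPar (pd i)))) 0 = true := by rw [e3]; rfl
      rw [hb3', cond_true] at hc
      have heq := M9.eq_of_beq hc.2
      have hb4 : Nat.beq (eM (eb (dPar (pd i)))) r2 = true := by rw [e2]; exact Nat.beq_refl _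
      unfold rhs at heq
      rw [hb4, cond_true, e1] at heq
      show Rep ω (b * g) (U i)
      rw [← heq, ← hapB]
      exact Rep.mul h2 hω hB hg

theorem level_card (h2 : (2 : F) = 0) (hω : ω * ω = ω + 1)
    (U T : ℕ → M9) (ea eb pd : ℕ → ℕ) (apA apB : M9 → M9) (n1 n2 r2 : ℕ) (key : M9 → ℕ)
    (hn1 : n1 ≤ 131072) (hr2 : r2 < 8192)
    (a b : GL F9 F) (A B : M9) (hA : Rep ω a A) (hB : Rep ω b B)
    (hapA : ∀ M, mm A M = apA M) (hapB : ∀ M, mm B M = apB M)
    (ha2 : (∃ i < n1, eSkip (ea i) ≠ 0) → a * a = 1)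
    (hb3 : (∃ i < n1, eSkip (eb i) ≠ 0) → b * b * b = 1)
    (K : Subgroup (GL F9 F)) (hK : K ≤ closure {a, b})
    (hT : ∀ m < n2, ∃ t ∈ K, Rep ω t (T m)) (hTr : T r2 = ID)
    (hkey : ∀ i < n1, ∀ j < n1, ∀ g h k, Rep ω g (U i) → Rep ω h (U j) → k ∈ K → h = g * k →
      key (U i) = key (U j))
    (hchk : ∀ i < n1, chk1 U T ea eb pd apA apB n1 n2 r2 key i = true)
    (r1 : ℕ) (hr1 : r1 < n1) (hr1' : dDep (pd r1) = 0) :
    Nat.card (closure ({a, b} : Set (GL F9 F))) = n1 * Nat.card K := by
  classical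
  have ha_mem : a ∈ closure ({a, b} : Set (GL F9 F)) := subset_closure (by simp)
  have hb_mem : b ∈ closure ({a, b} : Set (GL F9 F)) := subset_closure (by simp)
  -- unpack the checks
  have hcA : ∀ i < n1, chkA U T ea apA n1 n2 r2 i = true := fun i hi => by
    have := hchk i hi; simp only [chk1, Bool.and_eq_true] at this; exact this.1.1.1
  have hcB : ∀ i < n1, chkB U T eb apB n1 n2 r2 i = true := fun i hi => by
    have := hchk i hi; simp only [chk1, Bool.and_eq_true] at this; exact this.1.1.2
  have hcP : ∀ i < n1, chkP U ea eb pd n1 r2 i = true := fun i hi => by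
    have := hchk i hi; simp only [chk1, Bool.and_eq_true] at this; exact this.1.2
  have hcK : ∀ i < n1, chkK U key n1 i = true := fun i hi => by
    have := hchk i hi; simp only [chk1, Bool.and_eq_true] at this; exact this.2
  -- keys strictly increase
  have hmono : ∀ j, ∀ i, i < j → j < n1 → key (U i) < key (U j) := by
    intro j
    induction j with
    | zero => intro i hi; omega
    | succ j ih =>
      intro i hij hj
      have hstep : key (U j) < key (U (j + 1)) := by
        have := hcK j (by omega)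
        simp only [chkK] at this
        have hb : Nat.blt (j + 1) n1 = true := by simpa [Nat.blt] using hj
        rw [hb, cond_true] at this
        exact blt_true this
      rcases Nat.eq_or_lt_of_le (Nat.lt_succ_iff.mp hij) with rfl | hlt
      · exact hstep
      · exact lt_trans (ih i hlt (by omega)) hstep
  -- semantics of the right-hand side
  have hrhs : ∀ e, eM e < n2 → ∀ g, Rep ω g (U (eTau e)) →
      ∃ t ∈ K, Rep ω (g * t) (rhs U T r2 e) := by
    intro e he g hg
    obtain ⟨t, ht, htR⟩ := hT _ he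
    refine ⟨t, ht, ?_⟩
    unfold rhs
    by_cases hm : eM e = r2
    · have hb : Nat.beq (eM e) r2 = true := by rw [hm]; exact Nat.beq_refl _
      rw [hb, cond_true]
      have ht1 : (t : Matrix F9 F9 F) = 1 := by
        have := htR; unfold Rep at this; rw [this, hm, hTr, dM_ID]
      unfold Rep at hg ⊢
      rw [Units.val_mul, ht1, mul_one, hg]
    · have hb : Nat.beq (eM e) r2 = false := by
        cases hbb : Nat.beq (eM e) r2
        · rfl
        · exact absurd (beq_true hbb) hm
      rw [hb, cond_false]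
      exact Rep.mul h2 hω hg htR
  -- unskipped edges
  have hedge : ∀ (s : GL F9 F) (S : M9) (ap : M9 → M9) (e : ℕ → ℕ), Rep ω s S →
      (∀ M, mm S M = ap M) → ∀ i, eM (e i) < n2 → ap (U i) = rhs U T r2 (e i) →
      ∀ g h, Rep ω g (U i) → Rep ω h (U (eTau (e i))) → h⁻¹ * s * g ∈ K := by
    intro s S ap e hs hap i hm heq g h hg hh
    obtain ⟨t, ht, htR⟩ := hrhs (e i) hm h hh
    have h1 : Rep ω (s * g) (ap (U i)) := by rw [← hap]; exact Rep.mul h2 hω hs hg
    rw [heq] at h1
    have h3 : s * g = h * t := Rep.unique h1 htR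
    have : h⁻¹ * s * g = t := by rw [mul_assoc, h3, inv_mul_cancel_left]
    rw [this]; exact ht
  -- tree
  have htree : ∀ i < n1, ∃ g ∈ closure ({a, b} : Set (GL F9 F)), Rep ω g (U i) :=
    level_tree h2 hω U T ea eb pd apA apB n1 n2 r2 key hn1 hr2 a b A B hA hB hapA hapB hchk
  -- the transversal
  choose! u hu huR using htree
  have hur : u r1 = 1 := by
    have hp := hcP r1 hr1
    unfold chkP at hp
    have hb : Nat.beq (dDep (pd r1)) 0 = true := by rw [hr1']; rfl
    rw [hb, cond_true] at hp
    have h1 : Rep ω 1 (U r1) := by rw [M9.eq_of_beq hp]; exact Rep.one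
    exact Rep.unique (huR r1 hr1) h1
  -- injectivity
  have hinj : ∀ i < n1, ∀ j < n1, (u i)⁻¹ * u j ∈ K → i = j := by
    intro i hi j hj hk
    have hkeq := hkey i hi j hj (u i) (u j) _ (huR i hi) (huR j hj) hk (by group)
    rcases Nat.lt_trichotomy i j with h | h | h
    · exact absurd hkeq (ne_of_lt (hmono j i h hj))
    · exact h
    · exact absurd hkeq.symm (ne_of_lt (hmono i j h hi))
  -- Schreier generators: a
  have hSa : ∀ i < n1, ∃ j < n1, (u j)⁻¹ * a * u i ∈ K := by
    -- unskipped case first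
    have hun : ∀ i < n1, eSkip (ea i) = 0 → eTau (ea i) < n1 ∧
        (u (eTau (ea i)))⁻¹ * a * u i ∈ K := by
      intro i hi hsk
      have hc := hcA i hi
      unfold chkA at hc
      simp only [Bool.and_eq_true] at hc
      have hb : Nat.beq (eSkip (ea i)) 0 = true := by rw [hsk]; rfl
      rw [hb, cond_true] at hc
      have hτ := blt_true hc.1.1
      exact ⟨hτ, hedge a A apA ea hA hapA i (blt_true hc.1.2) (M9.eq_of_beq hc.2) _ _ (huR i hi)
        (huR _ hτ)⟩
    intro i hi
    by_cases hsk : eSkip (ea i) = 0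
    · exact ⟨_, (hun i hi hsk).1, (hun i hi hsk).2⟩
    · have hc := hcA i hi
      unfold chkA at hc
      simp only [Bool.and_eq_true] at hc
      have hb : Nat.beq (eSkip (ea i)) 0 = false := by
        cases hbb : Nat.beq (eSkip (ea i)) 0
        · rfl
        · exact absurd (beq_true hbb) hsk
      rw [hb, cond_false] at hc
      simp only [Bool.and_eq_true] at hc
      have hτ := blt_true hc.1.1
      have h1 := beq_true hc.2.1
      have h2' := beq_true hc.2.2
      have := (hun _ hτ h2').2
      rw [h1] at this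
      exact ⟨_, hτ, edge_inv2 K u a (ha2 ⟨i, hi, hsk⟩) _ _ this⟩
  -- Schreier generators: b
  have hSb : ∀ i < n1, ∃ j < n1, (u j)⁻¹ * b * u i ∈ K := by
    have hun : ∀ i < n1, eSkip (eb i) = 0 → eTau (eb i) < n1 ∧
        (u (eTau (eb i)))⁻¹ * b * u i ∈ K := by
      intro i hi hsk
      have hc := hcB i hi
      unfold chkB at hc
      simp only [Bool.and_eq_true] at hc
      have hb : Nat.beq (eSkip (eb i)) 0 = true := by rw [hsk]; rfl
      rw [hb, cond_true] at hc
      have hτ := blt_true hc.1.1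
      exact ⟨hτ, hedge b B apB eb hB hapB i (blt_true hc.1.2) (M9.eq_of_beq hc.2) _ _ (huR i hi)
        (huR _ hτ)⟩
    intro i hi
    by_cases hsk : eSkip (eb i) = 0
    · exact ⟨_, (hun i hi hsk).1, (hun i hi hsk).2⟩
    · have hc := hcB i hi
      unfold chkB at hc
      simp only [Bool.and_eq_true] at hc
      have hb : Nat.beq (eSkip (eb i)) 0 = false := by
        cases hbb : Nat.beq (eSkip (eb i)) 0
        · rfl
        · exact absurd (beq_true hbb) hsk
      rw [hb, cond_false] at hc
      simp only [Bool.and_eq_true] at hc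
      obtain ⟨⟨hτ0, _⟩, ⟨⟨hl, hs1⟩, hl2⟩, hs2⟩ := hc
      have hτ := blt_true hτ0
      have hl' := blt_true hl
      have k1 := (hun _ hτ (beq_true hs1)).2
      have k2 := (hun _ hl' (beq_true hs2)).2
      rw [beq_true hl2] at k2
      exact ⟨_, hτ, edge_inv3 K u b (hb3 ⟨i, hi, hsk⟩) _ _ _ k1 k2⟩
  refine schreier_card ({a, b} : Set (GL F9 F)) K n1 u r1 hr1 hur hK hu hinj ?_
  intro s hs i hi
  rcases hs with rfl | hs
  · exact hSa i hi
  · rw [Set.mem_singleton_iff] at hs
    subst hs
    exact hSb i hi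

end glue

end Cfsg.Agent.Lib.Helper37.J3
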