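import Cfsg.Agent.Lib.Helper37.J3Base

/-!
The generating matrices of `3·J₃` in the packed model: entry codes `cA … cC`, tables `mkM`,
and the identities `j3A F ω Z = dM ω (mkM (cA Z))` etc.
-/

set_option autoImplicit false

namespace Cfsg.Agent.Lib.Helper37.J3

open Cfsg.Spor

/-- code of `ω ^ n` -/
def pw (n : ZMod 3) : ℕ := if n = 0 then 1 else if n = 1 then 2 else 3

def cA (Z w z : F9) : ℕ := if w = z then pw (Z.1 * z.1 + Z.2 * z.2) else 0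

def cE (Z w z : F9) : ℕ := if w = z then pw ((Z.1 - z.1) ^ 2 + (Z.2 - z.2) ^ 2) else 0

def cLam (Z z : F9) : ℕ :=
  if z = 0 then 1
  else if F9.div Z z = F9.I - F9.one then 2
  else if F9.div Z z = -F9.I - F9.one then 3
  else 1

def cD (Z w z : F9) : ℕ := if w = z + Z then cLam Z z else 0

def cB (Z w z : F9) : ℕ := if w = F9.mul Z z then 1 else 0

def cC (Z w z : F9) : ℕ :=
  if z = 0 then (if w = 0 then 1 else 0)
  else if w = -F9.div Z z ∨ w = F9.mul F9.I (F9.div Z z) ∨ w = -F9.mul F9.I (F9.div Z z) then 1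
  else 0

/-- pack a row of codes -/
def mkRow (f : F9 → ℕ) : ℕ × ℕ :=
  (1 * (f ((0 : ZMod 3), (0 : ZMod 3)) % 2) + 2 * (f ((0 : ZMod 3), (1 : ZMod 3)) % 2) + 4 * (f ((0 : ZMod 3), (2 : ZMod 3)) % 2) + 8 * (f ((1 : ZMod 3), (0 : ZMod 3)) % 2) + 16 * (f ((1 : ZMod 3), (1 : ZMod 3)) % 2) + 32 * (f ((1 : ZMod 3), (2 : ZMod 3)) % 2) + 64 * (f ((2 : ZMod 3), (0 : ZMod 3)) % 2) + 128 * (f ((2 : ZMod 3), (1 : ZMod 3)) % 2) + 256 * (f ((2 : ZMod 3), (2 : ZMod 3)) % 2),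
   1 * (f ((0 : ZMod 3), (0 : ZMod 3)) / 2 % 2) + 2 * (f ((0 : ZMod 3), (1 : ZMod 3)) / 2 % 2) + 4 * (f ((0 : ZMod 3), (2 : ZMod 3)) / 2 % 2) + 8 * (f ((1 : ZMod 3), (0 : ZMod 3)) / 2 % 2) + 16 * (f ((1 : ZMod 3), (1 : ZMod 3)) / 2 % 2) + 32 * (f ((1 : ZMod 3), (2 : ZMod 3)) / 2 % 2) + 64 * (f ((2 : ZMod 3), (0 : ZMod 3)) / 2 % 2) + 128 * (f ((2 : ZMod 3), (1 : ZMod 3)) / 2 % 2) + 256 * (f ((2 : ZMod 3), (2 : ZMod 3)) / 2 % 2))

/-- pack a matrix of codes -/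
def mkM (f : F9 → F9 → ℕ) : M9 :=
  ⟨mkRow (f ((0 : ZMod 3), (0 : ZMod 3))), mkRow (f ((0 : ZMod 3), (1 : ZMod 3))), mkRow (f ((0 : ZMod 3), (2 : ZMod 3))), mkRow (f ((1 : ZMod 3), (0 : ZMod 3))), mkRow (f ((1 : ZMod 3), (1 : ZMod 3))), mkRow (f ((1 : ZMod 3), (2 : ZMod 3))), mkRow (f ((2 : ZMod 3), (0 : ZMod 3))), mkRow (f ((2 : ZMod 3), (1 : ZMod 3))), mkRow (f ((2 : ZMod 3), (2 : ZMod 3)))⟩

theorem mkA_spec : ∀ Z w z : F9, coef ((mkM (cA Z)).row (pos w)) (pos z) = cA Z w z := by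
  decide +kernel

theorem mkE_spec : ∀ Z w z : F9, coef ((mkM (cE Z)).row (pos w)) (pos z) = cE Z w z := by
  decide +kernel

theorem mkD_spec : ∀ Z w z : F9, coef ((mkM (cD Z)).row (pos w)) (pos z) = cD Z w z := by
  decide +kernel

theorem mkB_spec : ∀ Z w z : F9, coef ((mkM (cB Z)).row (pos w)) (pos z) = cB Z w z := by
  decide +kernel

theorem mkC_spec : ∀ Z w z : F9, coef ((mkM (cC Z)).row (pos w)) (pos z) = cC Z w z := by
  decide +kernel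

section sem

variable {F : Type*} [Field F] {ω : F}

theorem cF_zero : cF ω 0 = 0 := by simp [cF]

theorem cF_one : cF ω 1 = 1 := by simp [cF]

theorem cF_two : cF ω 2 = ω := by simp [cF]

theorem cF_three : cF ω 3 = 1 + ω := by simp [cF]

theorem pw_spec (hω : ω * ω = ω + 1) (n : ZMod 3) : cF ω (pw n) = omegaPow F ω n := by
  fin_cases n
  · show cF ω 1 = ω ^ 0
    rw [cF_one, pow_zero]
  · show cF ω 2 = ω ^ 1
    rw [cF_two, pow_one]
  · show cF ω 3 = ω ^ 2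
    rw [cF_three, pow_two, hω, add_comm]

theorem dM_mkM (f : F9 → F9 → ℕ)
    (h : ∀ w z : F9, coef ((mkM f).row (pos w)) (pos z) = f w z) (w z : F9) :
    dM ω (mkM f) w z = cF ω (f w z) := by
  show cF ω (coef ((mkM f).row (pos w)) (pos z)) = _
  rw [h]

theorem j3A_eq (hω : ω * ω = ω + 1) (Z : F9) : j3A F ω Z = dM ω (mkM (cA Z)) := by
  funext w z
  rw [dM_mkM _ (mkA_spec Z), j3A, Matrix.diagonal_apply, cA]
  split_ifs with h
  · subst h; rw [pw_spec hω]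
  · rw [cF_zero]

theorem j3E_eq (hω : ω * ω = ω + 1) (Z : F9) : j3E F ω Z = dM ω (mkM (cE Z)) := by
  funext w z
  rw [dM_mkM _ (mkE_spec Z), j3E, Matrix.diagonal_apply, cE]
  split_ifs with h
  · subst h; rw [pw_spec hω]
  · rw [cF_zero]

theorem j3Lam_eq (hω : ω * ω = ω + 1) (Z z : F9) : j3Lam F ω Z z = cF ω (cLam Z z) := by
  unfold j3Lam cLam
  split_ifs
  · rw [cF_one]
  · rw [cF_two]
  · rw [cF_three, pow_two, hω, add_comm]
  · rw [cF_one]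

theorem j3D_eq (hω : ω * ω = ω + 1) (Z : F9) : j3D F ω Z = dM ω (mkM (cD Z)) := by
  funext w z
  rw [dM_mkM _ (mkD_spec Z), j3D, Matrix.of_apply, cD]
  split_ifs with h
  · rw [j3Lam_eq hω]
  · rw [cF_zero]

theorem j3B_eq (Z : F9) : j3B F Z = dM ω (mkM (cB Z)) := by
  funext w z
  rw [dM_mkM _ (mkB_spec Z), j3B, Matrix.of_apply, cB]
  split_ifs with h
  · rw [cF_one]
  · rw [cF_zero]

theorem j3C_eq (Z : F9) : j3C F Z = dM ω (mkM (cC Z)) := by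
  funext w z
  rw [dM_mkM _ (mkC_spec Z), j3C, Matrix.of_apply, cC]
  split_ifs <;> first | rw [cF_one] | rw [cF_zero]

end sem

end Cfsg.Agent.Lib.Helper37.J3
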