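import Cfsg.Agent.Lib.Helper37.J3Lvl
import Cfsg.Agent.Lib.Helper37.J3Gen
import Cfsg.Agent.Lib.Helper37.J3Chk
import Cfsg.Agent.Lib.Helper37.J3C0
import Cfsg.Agent.Lib.Helper37.J3C1
import Cfsg.Agent.Lib.Helper37.J3C2
import Cfsg.Agent.Lib.Helper37.J3C3
import Cfsg.Agent.Lib.Helper37.J3C4
import Cfsg.Agent.Lib.Helper37.J3C5
import Cfsg.Agent.Lib.Helper37.J3C6
import Cfsg.Agent.Lib.Helper37.J3C7
import Cfsg.Agent.Lib.Helper37.J3C8

/-!
Kernel-checked data facts for the order of `3·J₃` (generated).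
-/

set_option autoImplicit false
set_option maxRecDepth 100000

namespace Cfsg.Agent.Lib.Helper37.J3

open Cfsg.Spor

/-- powers of a packed matrix -/
def mpow (M : M9) : ℕ → M9
  | 0 => ID
  | n + 1 => mm M (mpow M n)

theorem A_inv : mm Acode Acode = ID := M9.eq_of_beq (by decide +kernel)
theorem B_inv1 : mm Bcode (mm Bcode Bcode) = ID := M9.eq_of_beq (by decide +kernel)
theorem B_inv2 : mm (mm Bcode Bcode) Bcode = ID := M9.eq_of_beq (by decide +kernel)

def G1inv : M9 := ⟨(1, 0), (48, 256), (400, 16), (128, 176), (14, 6), (72, 10), (384, 416), (12, 68), (64, 6)⟩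
theorem G1_inv1 : mm G1code G1inv = ID := M9.eq_of_beq (by decide +kernel)
theorem G1_inv2 : mm G1inv G1code = ID := M9.eq_of_beq (by decide +kernel)
theorem g1_edge : apB (U1 15669) = mm (U1 34468) G1code := M9.eq_of_beq (by decide +kernel)
theorem g1_col0 : ∀ w : F9, c0 (G1code.row (pos w)) = if w = 0 then 1 else 0 := by decide +kernel

def G2inv : M9 := ⟨(1, 0), (6, 12), (6, 68), (2, 72), (288, 128), (288, 16), (4, 76), (256, 144), (32, 144)⟩
theorem G2_inv1 : mm G2code G2inv = ID := M9.eq_of_beq (by decide +kernel)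
theorem G2_inv2 : mm G2inv G2code = ID := M9.eq_of_beq (by decide +kernel)
theorem g2_edge : apA (U1 12260) = mm (U1 26853) G2code := M9.eq_of_beq (by decide +kernel)
theorem g2_col0 : ∀ w : F9, c0 (G2code.row (pos w)) = if w = 0 then 1 else 0 := by decide +kernel

theorem noskip2 : allFrom (fun i => Nat.beq (eSkip (ea2 i)) 0 && Nat.beq (eSkip (eb2 i)) 0) 0 2160 = true := by
  decide +kernel

theorem chk1_all (i : ℕ) (hi : i < 69768) : chkL1 i = true := by
  obtain ⟨q, r, hr, rfl⟩ : ∃ q r, r < 500 ∧ i = 500 * q + r :=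
    ⟨i / 500, i % 500, Nat.mod_lt _ (by norm_num), (Nat.div_add_mod i 500).symm⟩
  have hq : q < 140 := by omega
  interval_cases q
  · exact allFrom_sound _ _ _ c1_0 _ (by omega) (by omega)
  · exact allFrom_sound _ _ _ c1_500 _ (by omega) (by omega)
  · exact allFrom_sound _ _ _ c1_1000 _ (by omega) (by omega)
  · exact allFrom_sound _ _ _ c1_1500 _ (by omega) (by omega)
  · exact allFrom_sound _ _ _ c1_2000 _ (by omega) (by omega)
  · exact allFrom_sound _ _ _ c1_2500 _ (by omega) (by omega)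
  · exact allFrom_sound _ _ _ c1_3000 _ (by omega) (by omega)
  · exact allFrom_sound _ _ _ c1_3500 _ (by omega) (by omega)
  · exact allFrom_sound _ _ _ c1_4000 _ (by omega) (by omega)
  · exact allFrom_sound _ _ _ c1_4500 _ (by omega) (by omega)
  · exact allFrom_sound _ _ _ c1_5000 _ (by omega) (by omega)
  · exact allFrom_sound _ _ _ c1_5500 _ (by omega) (by omega)
  · exact allFrom_sound _ _ _ c1_6000 _ (by omega) (by omega)
  · exact allFrom_sound _ _ _ c1_6500 _ (by omega) (by omega)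
  · exact allFrom_sound _ _ _ c1_7000 _ (by omega) (by omega)
  · exact allFrom_sound _ _ _ c1_7500 _ (by omega) (by omega)
  · exact allFrom_sound _ _ _ c1_8000 _ (by omega) (by omega)
  · exact allFrom_sound _ _ _ c1_8500 _ (by omega) (by omega)
  · exact allFrom_sound _ _ _ c1_9000 _ (by omega) (by omega)
  · exact allFrom_sound _ _ _ c1_9500 _ (by omega) (by omega)
  · exact allFrom_sound _ _ _ c1_10000 _ (by omega) (by omega)
  · exact allFrom_sound _ _ _ c1_10500 _ (by omega) (by omega)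
  · exact allFrom_sound _ _ _ c1_11000 _ (by omega) (by omega)
  · exact allFrom_sound _ _ _ c1_11500 _ (by omega) (by omega)
  · exact allFrom_sound _ _ _ c1_12000 _ (by omega) (by omega)
  · exact allFrom_sound _ _ _ c1_12500 _ (by omega) (by omega)
  · exact allFrom_sound _ _ _ c1_13000 _ (by omega) (by omega)
  · exact allFrom_sound _ _ _ c1_13500 _ (by omega) (by omega)
  · exact allFrom_sound _ _ _ c1_14000 _ (by omega) (by omega)
  · exact allFrom_sound _ _ _ c1_14500 _ (by omega) (by omega)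
  · exact allFrom_sound _ _ _ c1_15000 _ (by omega) (by omega)
  · exact allFrom_sound _ _ _ c1_15500 _ (by omega) (by omega)
  · exact allFrom_sound _ _ _ c1_16000 _ (by omega) (by omega)
  · exact allFrom_sound _ _ _ c1_16500 _ (by omega) (by omega)
  · exact allFrom_sound _ _ _ c1_17000 _ (by omega) (by omega)
  · exact allFrom_sound _ _ _ c1_17500 _ (by omega) (by omega)
  · exact allFrom_sound _ _ _ c1_18000 _ (by omega) (by omega)
  · exact allFrom_sound _ _ _ c1_18500 _ (by omega) (by omega)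
  · exact allFrom_sound _ _ _ c1_19000 _ (by omega) (by omega)
  · exact allFrom_sound _ _ _ c1_19500 _ (by omega) (by omega)
  · exact allFrom_sound _ _ _ c1_20000 _ (by omega) (by omega)
  · exact allFrom_sound _ _ _ c1_20500 _ (by omega) (by omega)
  · exact allFrom_sound _ _ _ c1_21000 _ (by omega) (by omega)
  · exact allFrom_sound _ _ _ c1_21500 _ (by omega) (by omega)
  · exact allFrom_sound _ _ _ c1_22000 _ (by omega) (by omega)
  · exact allFrom_sound _ _ _ c1_22500 _ (by omega) (by omega)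
  · exact allFrom_sound _ _ _ c1_23000 _ (by omega) (by omega)
  · exact allFrom_sound _ _ _ c1_23500 _ (by omega) (by omega)
  · exact allFrom_sound _ _ _ c1_24000 _ (by omega) (by omega)
  · exact allFrom_sound _ _ _ c1_24500 _ (by omega) (by omega)
  · exact allFrom_sound _ _ _ c1_25000 _ (by omega) (by omega)
  · exact allFrom_sound _ _ _ c1_25500 _ (by omega) (by omega)
  · exact allFrom_sound _ _ _ c1_26000 _ (by omega) (by omega)
  · exact allFrom_sound _ _ _ c1_26500 _ (by omega) (by omega)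
  · exact allFrom_sound _ _ _ c1_27000 _ (by omega) (by omega)
  · exact allFrom_sound _ _ _ c1_27500 _ (by omega) (by omega)
  · exact allFrom_sound _ _ _ c1_28000 _ (by omega) (by omega)
  · exact allFrom_sound _ _ _ c1_28500 _ (by omega) (by omega)
  · exact allFrom_sound _ _ _ c1_29000 _ (by omega) (by omega)
  · exact allFrom_sound _ _ _ c1_29500 _ (by omega) (by omega)
  · exact allFrom_sound _ _ _ c1_30000 _ (by omega) (by omega)
  · exact allFrom_sound _ _ _ c1_30500 _ (by omega) (by omega)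
  · exact allFrom_sound _ _ _ c1_31000 _ (by omega) (by omega)
  · exact allFrom_sound _ _ _ c1_31500 _ (by omega) (by omega)
  · exact allFrom_sound _ _ _ c1_32000 _ (by omega) (by omega)
  · exact allFrom_sound _ _ _ c1_32500 _ (by omega) (by omega)
  · exact allFrom_sound _ _ _ c1_33000 _ (by omega) (by omega)
  · exact allFrom_sound _ _ _ c1_33500 _ (by omega) (by omega)
  · exact allFrom_sound _ _ _ c1_34000 _ (by omega) (by omega)
  · exact allFrom_sound _ _ _ c1_34500 _ (by omega) (by omega)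
  · exact allFrom_sound _ _ _ c1_35000 _ (by omega) (by omega)
  · exact allFrom_sound _ _ _ c1_35500 _ (by omega) (by omega)
  · exact allFrom_sound _ _ _ c1_36000 _ (by omega) (by omega)
  · exact allFrom_sound _ _ _ c1_36500 _ (by omega) (by omega)
  · exact allFrom_sound _ _ _ c1_37000 _ (by omega) (by omega)
  · exact allFrom_sound _ _ _ c1_37500 _ (by omega) (by omega)
  · exact allFrom_sound _ _ _ c1_38000 _ (by omega) (by omega)
  · exact allFrom_sound _ _ _ c1_38500 _ (by omega) (by omega)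
  · exact allFrom_sound _ _ _ c1_39000 _ (by omega) (by omega)
  · exact allFrom_sound _ _ _ c1_39500 _ (by omega) (by omega)
  · exact allFrom_sound _ _ _ c1_40000 _ (by omega) (by omega)
  · exact allFrom_sound _ _ _ c1_40500 _ (by omega) (by omega)
  · exact allFrom_sound _ _ _ c1_41000 _ (by omega) (by omega)
  · exact allFrom_sound _ _ _ c1_41500 _ (by omega) (by omega)
  · exact allFrom_sound _ _ _ c1_42000 _ (by omega) (by omega)
  · exact allFrom_sound _ _ _ c1_42500 _ (by omega) (by omega)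
  · exact allFrom_sound _ _ _ c1_43000 _ (by omega) (by omega)
  · exact allFrom_sound _ _ _ c1_43500 _ (by omega) (by omega)
  · exact allFrom_sound _ _ _ c1_44000 _ (by omega) (by omega)
  · exact allFrom_sound _ _ _ c1_44500 _ (by omega) (by omega)
  · exact allFrom_sound _ _ _ c1_45000 _ (by omega) (by omega)
  · exact allFrom_sound _ _ _ c1_45500 _ (by omega) (by omega)
  · exact allFrom_sound _ _ _ c1_46000 _ (by omega) (by omega)
  · exact allFrom_sound _ _ _ c1_46500 _ (by omega) (by omega)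
  · exact allFrom_sound _ _ _ c1_47000 _ (by omega) (by omega)
  · exact allFrom_sound _ _ _ c1_47500 _ (by omega) (by omega)
  · exact allFrom_sound _ _ _ c1_48000 _ (by omega) (by omega)
  · exact allFrom_sound _ _ _ c1_48500 _ (by omega) (by omega)
  · exact allFrom_sound _ _ _ c1_49000 _ (by omega) (by omega)
  · exact allFrom_sound _ _ _ c1_49500 _ (by omega) (by omega)
  · exact allFrom_sound _ _ _ c1_50000 _ (by omega) (by omega)
  · exact allFrom_sound _ _ _ c1_50500 _ (by omega) (by omega)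
  · exact allFrom_sound _ _ _ c1_51000 _ (by omega) (by omega)
  · exact allFrom_sound _ _ _ c1_51500 _ (by omega) (by omega)
  · exact allFrom_sound _ _ _ c1_52000 _ (by omega) (by omega)
  · exact allFrom_sound _ _ _ c1_52500 _ (by omega) (by omega)
  · exact allFrom_sound _ _ _ c1_53000 _ (by omega) (by omega)
  · exact allFrom_sound _ _ _ c1_53500 _ (by omega) (by omega)
  · exact allFrom_sound _ _ _ c1_54000 _ (by omega) (by omega)
  · exact allFrom_sound _ _ _ c1_54500 _ (by omega) (by omega)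
  · exact allFrom_sound _ _ _ c1_55000 _ (by omega) (by omega)
  · exact allFrom_sound _ _ _ c1_55500 _ (by omega) (by omega)
  · exact allFrom_sound _ _ _ c1_56000 _ (by omega) (by omega)
  · exact allFrom_sound _ _ _ c1_56500 _ (by omega) (by omega)
  · exact allFrom_sound _ _ _ c1_57000 _ (by omega) (by omega)
  · exact allFrom_sound _ _ _ c1_57500 _ (by omega) (by omega)
  · exact allFrom_sound _ _ _ c1_58000 _ (by omega) (by omega)
  · exact allFrom_sound _ _ _ c1_58500 _ (by omega) (by omega)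
  · exact allFrom_sound _ _ _ c1_59000 _ (by omega) (by omega)
  · exact allFrom_sound _ _ _ c1_59500 _ (by omega) (by omega)
  · exact allFrom_sound _ _ _ c1_60000 _ (by omega) (by omega)
  · exact allFrom_sound _ _ _ c1_60500 _ (by omega) (by omega)
  · exact allFrom_sound _ _ _ c1_61000 _ (by omega) (by omega)
  · exact allFrom_sound _ _ _ c1_61500 _ (by omega) (by omega)
  · exact allFrom_sound _ _ _ c1_62000 _ (by omega) (by omega)
  · exact allFrom_sound _ _ _ c1_62500 _ (by omega) (by omega)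
  · exact allFrom_sound _ _ _ c1_63000 _ (by omega) (by omega)
  · exact allFrom_sound _ _ _ c1_63500 _ (by omega) (by omega)
  · exact allFrom_sound _ _ _ c1_64000 _ (by omega) (by omega)
  · exact allFrom_sound _ _ _ c1_64500 _ (by omega) (by omega)
  · exact allFrom_sound _ _ _ c1_65000 _ (by omega) (by omega)
  · exact allFrom_sound _ _ _ c1_65500 _ (by omega) (by omega)
  · exact allFrom_sound _ _ _ c1_66000 _ (by omega) (by omega)
  · exact allFrom_sound _ _ _ c1_66500 _ (by omega) (by omega)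
  · exact allFrom_sound _ _ _ c1_67000 _ (by omega) (by omega)
  · exact allFrom_sound _ _ _ c1_67500 _ (by omega) (by omega)
  · exact allFrom_sound _ _ _ c1_68000 _ (by omega) (by omega)
  · exact allFrom_sound _ _ _ c1_68500 _ (by omega) (by omega)
  · exact allFrom_sound _ _ _ c1_69000 _ (by omega) (by omega)
  · exact allFrom_sound _ _ _ c1_69500 _ (by omega) (by omega)

theorem chk2_all (i : ℕ) (hi : i < 2160) : chkL2 i = true := by
  obtain ⟨q, r, hr, rfl⟩ : ∃ q r, r < 240 ∧ i = 240 * q + r :=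
    ⟨i / 240, i % 240, Nat.mod_lt _ (by norm_num), (Nat.div_add_mod i 240).symm⟩
  have hq : q < 9 := by omega
  interval_cases q
  · exact allFrom_sound _ _ _ c2_0 _ (by omega) (by omega)
  · exact allFrom_sound _ _ _ c2_240 _ (by omega) (by omega)
  · exact allFrom_sound _ _ _ c2_480 _ (by omega) (by omega)
  · exact allFrom_sound _ _ _ c2_720 _ (by omega) (by omega)
  · exact allFrom_sound _ _ _ c2_960 _ (by omega) (by omega)
  · exact allFrom_sound _ _ _ c2_1200 _ (by omega) (by omega)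
  · exact allFrom_sound _ _ _ c2_1440 _ (by omega) (by omega)
  · exact allFrom_sound _ _ _ c2_1680 _ (by omega) (by omega)
  · exact allFrom_sound _ _ _ c2_1920 _ (by omega) (by omega)

theorem siftA : ∀ Z : F9, ∃ i m, i < 69768 ∧ m < 2160 ∧ mkM (cA Z) = mm (U1 i) (U2 m) := by
  rintro ⟨x, y⟩
  fin_cases x <;> fin_cases y
  · exact ⟨0, 108, by norm_num, by norm_num, M9.eq_of_beq (by decide +kernel)⟩
  · exact ⟨0, 1695, by norm_num, by norm_num, M9.eq_of_beq (by decide +kernel)⟩
  · exact ⟨0, 1662, by norm_num, by norm_num, M9.eq_of_beq (by decide +kernel)⟩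
  · exact ⟨0, 1700, by norm_num, by norm_num, M9.eq_of_beq (by decide +kernel)⟩
  · exact ⟨0, 1658, by norm_num, by norm_num, M9.eq_of_beq (by decide +kernel)⟩
  · exact ⟨0, 113, by norm_num, by norm_num, M9.eq_of_beq (by decide +kernel)⟩
  · exact ⟨0, 1660, by norm_num, by norm_num, M9.eq_of_beq (by decide +kernel)⟩
  · exact ⟨0, 115, by norm_num, by norm_num, M9.eq_of_beq (by decide +kernel)⟩
  · exact ⟨0, 1693, by norm_num, by norm_num, M9.eq_of_beq (by decide +kernel)⟩

theorem siftE : ∀ Z : F9, ∃ i m, i < 69768 ∧ m < 2160 ∧ mkM (cE Z) = mm (U1 i) (U2 m) := by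
  rintro ⟨x, y⟩
  fin_cases x <;> fin_cases y
  · exact ⟨0, 1699, by norm_num, by norm_num, M9.eq_of_beq (by decide +kernel)⟩
  · exact ⟨1, 744, by norm_num, by norm_num, M9.eq_of_beq (by decide +kernel)⟩
  · exact ⟨1, 1446, by norm_num, by norm_num, M9.eq_of_beq (by decide +kernel)⟩
  · exact ⟨1, 1385, by norm_num, by norm_num, M9.eq_of_beq (by decide +kernel)⟩
  · exact ⟨2, 1442, by norm_num, by norm_num, M9.eq_of_beq (by decide +kernel)⟩
  · exact ⟨2, 1654, by norm_num, by norm_num, M9.eq_of_beq (by decide +kernel)⟩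
  · exact ⟨1, 800, by norm_num, by norm_num, M9.eq_of_beq (by decide +kernel)⟩
  · exact ⟨2, 804, by norm_num, by norm_num, M9.eq_of_beq (by decide +kernel)⟩
  · exact ⟨2, 1380, by norm_num, by norm_num, M9.eq_of_beq (by decide +kernel)⟩

theorem siftD : ∀ Z : F9, ∃ i m, i < 69768 ∧ m < 2160 ∧ mkM (cD Z) = mm (U1 i) (U2 m) := by
  rintro ⟨x, y⟩
  fin_cases x <;> fin_cases y
  · exact ⟨0, 108, by norm_num, by norm_num, M9.eq_of_beq (by decide +kernel)⟩
  · exact ⟨3, 614, by norm_num, by norm_num, M9.eq_of_beq (by decide +kernel)⟩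
  · exact ⟨6, 379, by norm_num, by norm_num, M9.eq_of_beq (by decide +kernel)⟩
  · exact ⟨9, 238, by norm_num, by norm_num, M9.eq_of_beq (by decide +kernel)⟩
  · exact ⟨93, 1011, by norm_num, by norm_num, M9.eq_of_beq (by decide +kernel)⟩
  · exact ⟨339, 1688, by norm_num, by norm_num, M9.eq_of_beq (by decide +kernel)⟩
  · exact ⟨990, 1047, by norm_num, by norm_num, M9.eq_of_beq (by decide +kernel)⟩
  · exact ⟨4476, 1181, by norm_num, by norm_num, M9.eq_of_beq (by decide +kernel)⟩
  · exact ⟨17520, 1218, by norm_num, by norm_num, M9.eq_of_beq (by decide +kernel)⟩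

theorem siftB : ∀ Z : F9, Z ≠ 0 → ∃ i m, i < 69768 ∧ m < 2160 ∧ mkM (cB Z) = mm (U1 i) (U2 m) := by
  rintro ⟨x, y⟩ hZ
  fin_cases x <;> fin_cases y
  · exact absurd rfl hZ
  · exact ⟨0, 90, by norm_num, by norm_num, M9.eq_of_beq (by decide +kernel)⟩
  · exact ⟨0, 45, by norm_num, by norm_num, M9.eq_of_beq (by decide +kernel)⟩
  · exact ⟨0, 108, by norm_num, by norm_num, M9.eq_of_beq (by decide +kernel)⟩
  · exact ⟨0, 54, by norm_num, by norm_num, M9.eq_of_beq (by decide +kernel)⟩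
  · exact ⟨0, 9, by norm_num, by norm_num, M9.eq_of_beq (by decide +kernel)⟩
  · exact ⟨0, 36, by norm_num, by norm_num, M9.eq_of_beq (by decide +kernel)⟩
  · exact ⟨0, 0, by norm_num, by norm_num, M9.eq_of_beq (by decide +kernel)⟩
  · exact ⟨0, 18, by norm_num, by norm_num, M9.eq_of_beq (by decide +kernel)⟩

theorem siftC : ∀ Z : F9, Z ≠ 0 → ∃ i m, i < 69768 ∧ m < 2160 ∧ mkM (cC Z) = mm (U1 i) (U2 m) := by
  rintro ⟨x, y⟩ hZ
  fin_cases x <;> fin_cases y
  · exact absurd rfl hZ
  · exact ⟨0, 135, by norm_num, by norm_num, M9.eq_of_beq (by decide +kernel)⟩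
  · exact ⟨0, 99, by norm_num, by norm_num, M9.eq_of_beq (by decide +kernel)⟩
  · exact ⟨0, 126, by norm_num, by norm_num, M9.eq_of_beq (by decide +kernel)⟩
  · exact ⟨0, 27, by norm_num, by norm_num, M9.eq_of_beq (by decide +kernel)⟩
  · exact ⟨0, 81, by norm_num, by norm_num, M9.eq_of_beq (by decide +kernel)⟩
  · exact ⟨0, 117, by norm_num, by norm_num, M9.eq_of_beq (by decide +kernel)⟩
  · exact ⟨0, 72, by norm_num, by norm_num, M9.eq_of_beq (by decide +kernel)⟩
  · exact ⟨0, 63, by norm_num, by norm_num, M9.eq_of_beq (by decide +kernel)⟩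

theorem A_word : Acode = mm (mkM (cA ((0 : ZMod 3), (2 : ZMod 3)))) (mm (mkM (cD ((1 : ZMod 3), (2 : ZMod 3)))) (mm (mkM (cB ((2 : ZMod 3), (0 : ZMod 3)))) (mkM (cA ((0 : ZMod 3), (1 : ZMod 3)))))) :=
  M9.eq_of_beq (by decide +kernel)

theorem B_word : Bcode = mm (mkM (cE ((1 : ZMod 3), (2 : ZMod 3)))) (mm (mkM (cB ((0 : ZMod 3), (2 : ZMod 3)))) (mm (mkM (cE ((0 : ZMod 3), (0 : ZMod 3)))) (mm (mkM (cE ((0 : ZMod 3), (0 : ZMod 3)))) (mkM (cC ((1 : ZMod 3), (0 : ZMod 3))))))) :=
  M9.eq_of_beq (by decide +kernel)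

def IA01 : M9 := ⟨(1, 0), (2, 2), (0, 4), (8, 0), (16, 16), (0, 32), (64, 0), (128, 128), (0, 256)⟩
theorem IA01_1 : mm (mkM (cA ((0 : ZMod 3), (1 : ZMod 3)))) IA01 = ID := M9.eq_of_beq (by decide +kernel)
theorem IA01_2 : mm IA01 (mkM (cA ((0 : ZMod 3), (1 : ZMod 3)))) = ID := M9.eq_of_beq (by decide +kernel)

def IA02 : M9 := ⟨(1, 0), (0, 2), (4, 4), (8, 0), (0, 16), (32, 32), (64, 0), (0, 128), (256, 256)⟩
theorem IA02_1 : mm (mkM (cA ((0 : ZMod 3), (2 : ZMod 3)))) IA02 = ID := M9.eq_of_beq (by decide +kernel)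
theorem IA02_2 : mm IA02 (mkM (cA ((0 : ZMod 3), (2 : ZMod 3)))) = ID := M9.eq_of_beq (by decide +kernel)

def IA10 : M9 := ⟨(1, 0), (2, 0), (4, 0), (8, 8), (16, 16), (32, 32), (0, 64), (0, 128), (0, 256)⟩
theorem IA10_1 : mm (mkM (cA ((1 : ZMod 3), (0 : ZMod 3)))) IA10 = ID := M9.eq_of_beq (by decide +kernel)
theorem IA10_2 : mm IA10 (mkM (cA ((1 : ZMod 3), (0 : ZMod 3)))) = ID := M9.eq_of_beq (by decide +kernel)

def IB02 : M9 := ⟨(1, 0), (8, 0), (64, 0), (4, 0), (32, 0), (256, 0), (2, 0), (16, 0), (128, 0)⟩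
theorem IB02_1 : mm (mkM (cB ((0 : ZMod 3), (2 : ZMod 3)))) IB02 = ID := M9.eq_of_beq (by decide +kernel)
theorem IB02_2 : mm IB02 (mkM (cB ((0 : ZMod 3), (2 : ZMod 3)))) = ID := M9.eq_of_beq (by decide +kernel)

def IB20 : M9 := ⟨(1, 0), (4, 0), (2, 0), (64, 0), (256, 0), (128, 0), (8, 0), (32, 0), (16, 0)⟩
theorem IB20_1 : mm (mkM (cB ((2 : ZMod 3), (0 : ZMod 3)))) IB20 = ID := M9.eq_of_beq (by decide +kernel)
theorem IB20_2 : mm IB20 (mkM (cB ((2 : ZMod 3), (0 : ZMod 3)))) = ID := M9.eq_of_beq (by decide +kernel)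

def IC10 : M9 := ⟨(1, 0), (74, 0), (76, 0), (70, 0), (304, 0), (176, 0), (14, 0), (416, 0), (400, 0)⟩
theorem IC10_1 : mm (mkM (cC ((1 : ZMod 3), (0 : ZMod 3)))) IC10 = ID := M9.eq_of_beq (by decide +kernel)
theorem IC10_2 : mm IC10 (mkM (cC ((1 : ZMod 3), (0 : ZMod 3)))) = ID := M9.eq_of_beq (by decide +kernel)

def ID01 : M9 := ⟨(2, 0), (4, 0), (1, 0), (16, 0), (0, 32), (8, 0), (128, 0), (256, 256), (64, 0)⟩
theorem ID01_1 : mm (mkM (cD ((0 : ZMod 3), (1 : ZMod 3)))) ID01 = ID := M9.eq_of_beq (by decide +kernel)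
theorem ID01_2 : mm ID01 (mkM (cD ((0 : ZMod 3), (1 : ZMod 3)))) = ID := M9.eq_of_beq (by decide +kernel)

def ID10 : M9 := ⟨(8, 0), (16, 0), (32, 0), (64, 0), (128, 128), (0, 256), (1, 0), (2, 0), (4, 0)⟩
theorem ID10_1 : mm (mkM (cD ((1 : ZMod 3), (0 : ZMod 3)))) ID10 = ID := M9.eq_of_beq (by decide +kernel)
theorem ID10_2 : mm ID10 (mkM (cD ((1 : ZMod 3), (0 : ZMod 3)))) = ID := M9.eq_of_beq (by decide +kernel)

def ID12 : M9 := ⟨(32, 0), (0, 8), (16, 0), (256, 0), (64, 0), (128, 0), (4, 4), (1, 0), (2, 0)⟩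
theorem ID12_1 : mm (mkM (cD ((1 : ZMod 3), (2 : ZMod 3)))) ID12 = ID := M9.eq_of_beq (by decide +kernel)
theorem ID12_2 : mm ID12 (mkM (cD ((1 : ZMod 3), (2 : ZMod 3)))) = ID := M9.eq_of_beq (by decide +kernel)

def IE00 : M9 := ⟨(1, 0), (2, 2), (4, 4), (8, 8), (0, 16), (0, 32), (64, 64), (0, 128), (0, 256)⟩
theorem IE00_1 : mm (mkM (cE ((0 : ZMod 3), (0 : ZMod 3)))) IE00 = ID := M9.eq_of_beq (by decide +kernel)
theorem IE00_2 : mm IE00 (mkM (cE ((0 : ZMod 3), (0 : ZMod 3)))) = ID := M9.eq_of_beq (by decide +kernel)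

def IE12 : M9 := ⟨(0, 1), (0, 2), (4, 4), (8, 8), (16, 16), (32, 0), (0, 64), (0, 128), (256, 256)⟩
theorem IE12_1 : mm (mkM (cE ((1 : ZMod 3), (2 : ZMod 3)))) IE12 = ID := M9.eq_of_beq (by decide +kernel)
theorem IE12_2 : mm IE12 (mkM (cE ((1 : ZMod 3), (2 : ZMod 3)))) = ID := M9.eq_of_beq (by decide +kernel)

def OMcode : M9 := ⟨(0, 1), (0, 2), (0, 4), (0, 8), (0, 16), (0, 32), (0, 64), (0, 128), (0, 256)⟩
theorem OM_sift : OMcode = mm (U1 1) (U2 104) := M9.eq_of_beq (by decide +kernel)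
theorem OM_spec : ∀ w z : F9, coef (OMcode.row (pos w)) (pos z) = if w = z then 2 else 0 := by decide +kernel

theorem AB_pow : mpow (mm Acode Bcode) 17 = ID := M9.eq_of_beq (by decide +kernel)
theorem AB_ne : keyM (mm Acode Bcode) ≠ keyM ID := by decide +kernel

def Y19a : M9 := ⟨(253, 205), (294, 10), (243, 168), (304, 116), (312, 419), (243, 41), (149, 6), (457, 385), (409, 308)⟩
theorem Y19a_sift : Y19a = mm (U1 32602) (U2 752) := M9.eq_of_beq (by decide +kernel)
theorem Y19a_pow : mpow Y19a 19 = ID := M9.eq_of_beq (by decide +kernel)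
theorem Y19a_ne : keyM Y19a ≠ keyM ID := by decide +kernel

def Y19b : M9 := ⟨(8, 23), (341, 74), (342, 108), (477, 153), (369, 178), (146, 421), (413, 378), (9, 92), (482, 120)⟩
theorem Y19b_sift : Y19b = mm (U1 6291) (U2 657) := M9.eq_of_beq (by decide +kernel)
theorem Y19b_pow : mpow Y19b 19 = ID := M9.eq_of_beq (by decide +kernel)
theorem Y19b_ne : keyM Y19b ≠ keyM ID := by decide +kernel
theorem Y19_prod : mm Y19a Y19b = mm Acode Bcode := M9.eq_of_beq (by decide +kernel)

def Y5a : M9 := ⟨(56, 273), (88, 482), (93, 301), (41, 231), (26, 511), (320, 441), (297, 128), (215, 92), (456, 406)⟩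
theorem Y5a_sift : Y5a = mm (U1 6366) (U2 374) := M9.eq_of_beq (by decide +kernel)
theorem Y5a_pow : mpow Y5a 5 = ID := M9.eq_of_beq (by decide +kernel)
theorem Y5a_ne : keyM Y5a ≠ keyM ID := by decide +kernel

def Y5b : M9 := ⟨(163, 455), (472, 482), (2, 476), (265, 133), (485, 265), (377, 285), (495, 406), (293, 417), (370, 107)⟩
theorem Y5b_sift : Y5b = mm (U1 50139) (U2 649) := M9.eq_of_beq (by decide +kernel)
theorem Y5b_pow : mpow Y5b 5 = ID := M9.eq_of_beq (by decide +kernel)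
theorem Y5b_ne : keyM Y5b ≠ keyM ID := by decide +kernel
theorem Y5_prod : mm Y5a Y5b = mm Acode Bcode := M9.eq_of_beq (by decide +kernel)

end Cfsg.Agent.Lib.Helper37.J3
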