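import Cfsg.Agent.Lib.Helper37.J3Base

/-!
Boolean certificate checkers for one Schreier–Sims level over packed `M9` matrices (definitions
only; soundness is in `J3Chk`).
-/

set_option autoImplicit false

namespace Cfsg.Agent.Lib.Helper37.J3

def eTau (e : ℕ) : ℕ := Nat.land e 131071

def eM (e : ℕ) : ℕ := Nat.land (Nat.shiftRight e 17) 8191

def eSkip (e : ℕ) : ℕ := Nat.shiftRight e 30

def dPar (d : ℕ) : ℕ := Nat.land d 131071

def dSi (d : ℕ) : ℕ := Nat.land (Nat.shiftRight d 17) 1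

def dDep (d : ℕ) : ℕ := Nat.shiftRight d 18

/-- right-hand side `U τ * T m` of an edge equation -/
def rhs (U T : ℕ → M9) (r2 : ℕ) (e : ℕ) : M9 :=
  bif Nat.beq (eM e) r2 then U (eTau e) else mm (U (eTau e)) (T (eM e))

/-- edge check, generator of order two -/
def chkA (U T : ℕ → M9) (ea : ℕ → ℕ) (ap : M9 → M9) (n1 n2 r2 i : ℕ) : Bool :=
  Nat.blt (eTau (ea i)) n1 && Nat.blt (eM (ea i)) n2 &&
    (bif Nat.beq (eSkip (ea i)) 0 then M9.beq (ap (U i)) (rhs U T r2 (ea i))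
     else Nat.beq (eTau (ea (eTau (ea i)))) i && Nat.beq (eSkip (ea (eTau (ea i)))) 0)

/-- edge check, generator of order three -/
def chkB (U T : ℕ → M9) (eb : ℕ → ℕ) (ap : M9 → M9) (n1 n2 r2 i : ℕ) : Bool :=
  Nat.blt (eTau (eb i)) n1 && Nat.blt (eM (eb i)) n2 &&
    (bif Nat.beq (eSkip (eb i)) 0 then M9.beq (ap (U i)) (rhs U T r2 (eb i))
     else Nat.blt (eTau (eb (eTau (eb i)))) n1 &&
       Nat.beq (eSkip (eb (eTau (eb i)))) 0 &&
       Nat.beq (eTau (eb (eTau (eb (eTau (eb i)))))) i &&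
       Nat.beq (eSkip (eb (eTau (eb (eTau (eb i)))))) 0)

/-- parent check -/
def chkP (U : ℕ → M9) (ea eb pd : ℕ → ℕ) (n1 r2 i : ℕ) : Bool :=
  bif Nat.beq (dDep (pd i)) 0 then M9.beq (U i) ID
  else Nat.blt (dPar (pd i)) n1 && Nat.blt (dDep (pd (dPar (pd i)))) (dDep (pd i)) &&
    Nat.beq (bif Nat.beq (dSi (pd i)) 0 then ea (dPar (pd i)) else eb (dPar (pd i)))
      (Nat.add i (Nat.mul r2 131072))

/-- key check -/
def chkK (U : ℕ → M9) (key : M9 → ℕ) (n1 i : ℕ) : Bool :=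
  bif Nat.blt (Nat.succ i) n1 then Nat.blt (key (U i)) (key (U (Nat.succ i))) else true

def chk1 (U T : ℕ → M9) (ea eb pd : ℕ → ℕ) (apA apB : M9 → M9) (n1 n2 r2 : ℕ) (key : M9 → ℕ)
    (i : ℕ) : Bool :=
  chkA U T ea apA n1 n2 r2 i && chkB U T eb apB n1 n2 r2 i && chkP U ea eb pd n1 r2 i &&
    chkK U key n1 i

def allFrom (f : ℕ → Bool) (i : ℕ) : ℕ → Bool
  | 0 => true
  | k + 1 => f i && allFrom f (Nat.succ i) k

end Cfsg.Agent.Lib.Helper37.J3
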