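import Cfsg.Agent.Lib.Helper37.J3Quot
import Cfsg.Agent.Lib.Helper67.J3Simple

/-!
`J3 F ω` is simple; the hypotheses in the form of the statements (`F` with four elements).
-/

set_option autoImplicit false

namespace Cfsg.Agent.Lib.Helper37.J3

open Cfsg.Spor Subgroup

section

variable {F : Type*} [Field F] {ω : F}

theorem J3_simple (h2 : (2 : F) = 0) (hω : ω * ω = ω + 1)
    (hF4 : ∀ c : F, c = 0 ∨ c = 1 ∨ c = ω ∨ c = ω + 1) : IsSimpleGroup (J3 F ω) := by
  obtain ⟨hcq, g17, y1, y2, z1, z2, h17, hgen, hy1, hy2, hy, hz1, hz2, hz⟩ := J3_data h2 hω hF4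
  haveI : Finite (J3 F ω) :=
    Nat.finite_of_card_ne_zero (by rw [card_J3 h2 hω hF4]; norm_num)
  exact Cfsg.Agent.Lib.Helper67.J3Simple.simple_of_J3_data (card_J3 h2 hω hF4) hcq g17 y1 y2 z1 z2
    h17 hgen hy1 hy2 hy hz1 hz2 hz

/-- characteristic two from four elements -/
theorem two_eq_zero_of_card [Fintype F] (hF : Fintype.card F = 4) : (2 : F) = 0 := by
  have h4 : ((4 : ℕ) : F) = 0 := by
    rw [← hF]; exact Nat.cast_card_eq_zero F
  have h22 : (2 : F) * 2 = 0 := by
    have : ((4 : ℕ) : F) = 2 * 2 := by norm_num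
    rw [← this]; exact h4
  rcases mul_eq_zero.mp h22 with h | h <;> exact h

theorem om_sq_of (h2 : (2 : F) = 0) (hω : ω ^ 2 + ω + 1 = 0) : ω * ω = ω + 1 := by
  linear_combination hω - (ω + 1) * h2

/-- the four elements -/
theorem four_elems [Fintype F] (hF : Fintype.card F = 4) (h2 : (2 : F) = 0)
    (hω : ω * ω = ω + 1) : ∀ c : F, c = 0 ∨ c = 1 ∨ c = ω ∨ c = ω + 1 := by
  classical
  have h0 := om_ne_zero hω
  have h1 := om_ne_one h2 hω
  have hs : ({0, 1, ω, ω + 1} : Finset F).card = 4 := by
    rw [Finset.card_insert_of_notMem, Finset.card_insert_of_notMem, Finset.card_insert_of_notMem,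
      Finset.card_singleton]
    · rw [Finset.mem_singleton]
      intro h
      exact one_ne_zero (by linear_combination -h : (1 : F) = 0)
    · rw [Finset.mem_insert, Finset.mem_singleton]
      rintro (h | h)
      · exact h1 h.symm
      · exact h0 (by linear_combination -h)
    · rw [Finset.mem_insert, Finset.mem_insert, Finset.mem_singleton]
      rintro (h | h | h)
      · exact one_ne_zero h.symm
      · exact h0 h.symm
      · exact h1 (by linear_combination -h - h2)
  have huniv : ({0, 1, ω, ω + 1} : Finset F) = Finset.univ := by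
    apply Finset.eq_univ_of_card
    rw [hs, hF]
  intro c
  have hc : c ∈ ({0, 1, ω, ω + 1} : Finset F) := by rw [huniv]; exact Finset.mem_univ c
  rw [Finset.mem_insert, Finset.mem_insert, Finset.mem_insert, Finset.mem_singleton] at hc
  exact hc

end

end Cfsg.Agent.Lib.Helper37.J3
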