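import Cfsg.Agent.Lib.Helper37.J3Tab
import Cfsg.Agent.Lib.Helper37.J3ChkDef

set_option autoImplicit false

namespace Cfsg.Agent.Lib.Helper37.J3

/-- level-1 pointwise check -/
noncomputable def chkL1 (i : ℕ) : Bool := chk1 U1 U2 ea1 eb1 pd1 apA apB 69768 2160 108 key0 i

/-- level-2 pointwise check -/
noncomputable def chkL2 (i : ℕ) : Bool :=
  chk1 U2 (fun _ => ID) ea2 eb2 pd2 (mm G1code) (mm G2code) 2160 1 0 keyM i

theorem g1_idx : M9.beq (U2 948) G1code = true := by decide +kernel
theorem g2_idx : M9.beq (U2 107) G2code = true := by decide +kernel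
theorem root2_ok : M9.beq (U2 108) ID = true := by decide +kernel
theorem root1_dep : dDep (pd1 0) = 0 := by decide +kernel
theorem root2_dep : dDep (pd2 108) = 0 := by decide +kernel

end Cfsg.Agent.Lib.Helper37.J3
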