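import Cfsg.Agent.Lib.Helper37.J3Order

/-!
`threeJ3 F ω = closure {a, b}`, its order, and its centre (the scalars of order three).
-/

set_option autoImplicit false

namespace Cfsg.Agent.Lib.Helper37.J3

open Cfsg.Spor Subgroup

section

variable {F : Type*} [Field F] {ω : F} (h2 : (2 : F) = 0) (hω : ω * ω = ω + 1)

theorem threeJ3_le : threeJ3 F ω ≤ H1 h2 hω := by
  unfold threeJ3
  rw [closure_le]
  intro g hg
  have hg' : (g : Matrix F9 F9 F) ∈ j3Gens F ω := hg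
  unfold j3Gens at hg'
  rcases hg' with (((⟨Z, hZ⟩ | ⟨Z, hZ⟩) | ⟨Z, hZ⟩) | ⟨Z, hZ0, hZ⟩) | ⟨Z, hZ0, hZ⟩
  · obtain ⟨i, m, hi, hm, e⟩ := siftA Z
    refine mem_H1_of_sift h2 hω g i m hi hm ?_
    show (g : Matrix F9 F9 F) = dM ω (mm (U1 i) (U2 m))
    rw [← hZ, j3A_eq hω, e]
  · obtain ⟨i, m, hi, hm, e⟩ := siftE Z
    refine mem_H1_of_sift h2 hω g i m hi hm ?_
    show (g : Matrix F9 F9 F) = dM ω (mm (U1 i) (U2 m))
    rw [← hZ, j3E_eq hω, e]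
  · obtain ⟨i, m, hi, hm, e⟩ := siftD Z
    refine mem_H1_of_sift h2 hω g i m hi hm ?_
    show (g : Matrix F9 F9 F) = dM ω (mm (U1 i) (U2 m))
    rw [← hZ, j3D_eq hω, e]
  · obtain ⟨i, m, hi, hm, e⟩ := siftB Z hZ0
    refine mem_H1_of_sift h2 hω g i m hi hm ?_
    show (g : Matrix F9 F9 F) = dM ω (mm (U1 i) (U2 m))
    rw [hZ, j3B_eq (ω := ω), e]
  · obtain ⟨i, m, hi, hm, e⟩ := siftC Z hZ0
    refine mem_H1_of_sift h2 hω g i m hi hm ?_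
    show (g : Matrix F9 F9 F) = dM ω (mm (U1 i) (U2 m))
    rw [hZ, j3C_eq (ω := ω), e]

theorem mem_of_rep {g : GL F9 F} {M : M9} (hg : Rep ω g M) (hM : dM ω M ∈ j3Gens F ω) :
    g ∈ threeJ3 F ω := by
  apply Subgroup.subset_closure
  show (g : Matrix F9 F9 F) ∈ j3Gens F ω
  rw [hg]; exact hM

theorem genA_mem (hω : ω * ω = ω + 1) (Z : F9) : dM ω (mkM (cA Z)) ∈ j3Gens F ω := by
  rw [← j3A_eq hω]
  exact Or.inl (Or.inl (Or.inl (Or.inl ⟨Z, rfl⟩)))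

theorem genE_mem (hω : ω * ω = ω + 1) (Z : F9) : dM ω (mkM (cE Z)) ∈ j3Gens F ω := by
  rw [← j3E_eq hω]
  exact Or.inl (Or.inl (Or.inl (Or.inr ⟨Z, rfl⟩)))

theorem genD_mem (hω : ω * ω = ω + 1) (Z : F9) : dM ω (mkM (cD Z)) ∈ j3Gens F ω := by
  rw [← j3D_eq hω]
  exact Or.inl (Or.inl (Or.inr ⟨Z, rfl⟩))

theorem genB_mem (Z : F9) (hZ : Z ≠ 0) : dM ω (mkM (cB Z)) ∈ j3Gens F ω := by
  rw [← j3B_eq (ω := ω)]
  exact Or.inl (Or.inr ⟨Z, hZ, rfl⟩)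

theorem genC_mem (Z : F9) (hZ : Z ≠ 0) : dM ω (mkM (cC Z)) ∈ j3Gens F ω := by
  rw [← j3C_eq (ω := ω)]
  exact Or.inr ⟨Z, hZ, rfl⟩

theorem aG_mem : aG h2 hω ∈ threeJ3 F ω := by
  have e : aG h2 hω =
      mkGL ω h2 hω _ IA02 IA02_1 IA02_2 * (mkGL ω h2 hω _ ID12 ID12_1 ID12_2 *
        (mkGL ω h2 hω _ IB20 IB20_1 IB20_2 * mkGL ω h2 hω _ IA01 IA01_1 IA01_2)) :=
    Rep.unique (aG_rep h2 hω) (Rep.congr (Rep.mul h2 hω (mkGL_rep h2 hω _ _ _ _)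
      (Rep.mul h2 hω (mkGL_rep h2 hω _ _ _ _) (Rep.mul h2 hω (mkGL_rep h2 hω _ _ _ _)
        (mkGL_rep h2 hω _ _ _ _)))) A_word.symm)
  rw [e]
  refine mul_mem (mem_of_rep (mkGL_rep h2 hω _ _ _ _) (genA_mem hω _))
    (mul_mem (mem_of_rep (mkGL_rep h2 hω _ _ _ _) (genD_mem hω _))
      (mul_mem (mem_of_rep (mkGL_rep h2 hω _ _ _ _) (genB_mem _ (by decide)))
        (mem_of_rep (mkGL_rep h2 hω _ _ _ _) (genA_mem hω _))))

theorem bG_mem : bG h2 hω ∈ threeJ3 F ω := by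
  have e : bG h2 hω =
      mkGL ω h2 hω _ IE12 IE12_1 IE12_2 * (mkGL ω h2 hω _ IB02 IB02_1 IB02_2 *
        (mkGL ω h2 hω _ IE00 IE00_1 IE00_2 * (mkGL ω h2 hω _ IE00 IE00_1 IE00_2 *
          mkGL ω h2 hω _ IC10 IC10_1 IC10_2))) :=
    Rep.unique (bG_rep h2 hω) (Rep.congr (Rep.mul h2 hω (mkGL_rep h2 hω _ _ _ _)
      (Rep.mul h2 hω (mkGL_rep h2 hω _ _ _ _) (Rep.mul h2 hω (mkGL_rep h2 hω _ _ _ _)
        (Rep.mul h2 hω (mkGL_rep h2 hω _ _ _ _) (mkGL_rep h2 hω _ _ _ _))))) B_word.symm)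
  rw [e]
  refine mul_mem (mem_of_rep (mkGL_rep h2 hω _ _ _ _) (genE_mem hω _))
    (mul_mem (mem_of_rep (mkGL_rep h2 hω _ _ _ _) (genB_mem _ (by decide)))
      (mul_mem (mem_of_rep (mkGL_rep h2 hω _ _ _ _) (genE_mem hω _))
        (mul_mem (mem_of_rep (mkGL_rep h2 hω _ _ _ _) (genE_mem hω _))
          (mem_of_rep (mkGL_rep h2 hω _ _ _ _) (genC_mem _ (by decide))))))

theorem threeJ3_eq : threeJ3 F ω = H1 h2 hω := by
  apply le_antisymm (threeJ3_le h2 hω)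
  unfold H1
  rw [closure_le]
  intro x hx
  rcases hx with rfl | hx
  · exact aG_mem h2 hω
  · rw [Set.mem_singleton_iff] at hx
    subst hx
    exact bG_mem h2 hω

theorem card_threeJ3 (h2 : (2 : F) = 0) (hω : ω * ω = ω + 1) :
    Nat.card (threeJ3 F ω) = 150698880 := by
  rw [threeJ3_eq h2 hω]; exact card_H1 h2 hω

end

end Cfsg.Agent.Lib.Helper37.J3
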