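import Cfsg.Agent.Lib.Helper37.J3Cert

/-!
The order of `3·J₃ = threeJ3 F ω`: `150698880 = 69768 * 2160`, for every field `F` of
characteristic two with `ω * ω = ω + 1`.
-/

set_option autoImplicit false

namespace Cfsg.Agent.Lib.Helper37.J3

open Cfsg.Spor Subgroup

section

variable {F : Type*} [Field F] {ω : F}

/-- a unit from a packed matrix and its packed inverse -/
def mkGL (ω : F) (h2 : (2 : F) = 0) (hω : ω * ω = ω + 1) (M Mi : M9) (h : mm M Mi = ID)
    (h' : mm Mi M = ID) : GL F9 F :=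
  ⟨dM ω M, dM ω Mi, by rw [← dM_mm h2 hω, h, dM_ID], by rw [← dM_mm h2 hω, h', dM_ID]⟩

theorem mkGL_rep (h2 : (2 : F) = 0) (hω : ω * ω = ω + 1) (M Mi : M9) (h : mm M Mi = ID)
    (h' : mm Mi M = ID) : Rep ω (mkGL ω h2 hω M Mi h h') M := rfl

theorem Rep.pow (h2 : (2 : F) = 0) (hω : ω * ω = ω + 1) {g : GL F9 F} {M : M9}
    (hg : Rep ω g M) : ∀ n, Rep ω (g ^ n) (mpow M n)
  | 0 => by rw [pow_zero]; exact Rep.one
  | n + 1 => by rw [pow_succ']; exact Rep.mul h2 hω hg (Rep.pow h2 hω hg n)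

theorem Rep.congr {g : GL F9 F} {M N : M9} (hg : Rep ω g M) (h : M = N) : Rep ω g N := h ▸ hg

/-- first column is the first basis vector -/
def Fix0 (g : GL F9 F) : Prop := ∀ w : F9, (g : Matrix F9 F9 F) w 0 = (1 : Matrix F9 F9 F) w 0

theorem mul_col0 (g k : GL F9 F) (hk : Fix0 k) (w : F9) :
    ((g * k : GL F9 F) : Matrix F9 F9 F) w 0 = (g : Matrix F9 F9 F) w 0 := by
  have hk' : ∀ y : F9, (k : Matrix F9 F9 F) y 0 = (1 : Matrix F9 F9 F) y 0 := hk
  rw [Units.val_mul, Matrix.mul_apply, Finset.sum_congr rfl (fun y _ => by rw [hk' y]),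
    ← Matrix.mul_apply, mul_one]

theorem fix0_one : Fix0 (1 : GL F9 F) := fun _ => rfl

theorem fix0_mul {g h : GL F9 F} (hg : Fix0 g) (hh : Fix0 h) : Fix0 (g * h) := fun w => by
  rw [mul_col0 g h hh]; exact hg w

theorem fix0_inv {g : GL F9 F} (hg : Fix0 g) : Fix0 g⁻¹ := fun w => by
  have h1 := mul_col0 g⁻¹ g hg w
  rw [inv_mul_cancel] at h1
  exact h1.symm

theorem col0_sem (M : M9) (w : F9) : dM ω M w 0 = cF ω (c0 (M.row (pos w))) := rfl

theorem fix0_of_code {g : GL F9 F} {M : M9} (hg : Rep ω g M)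
    (h : ∀ w : F9, c0 (M.row (pos w)) = if w = 0 then 1 else 0) : Fix0 g := by
  intro w
  rw [hg, col0_sem, h, Matrix.one_apply]
  split_ifs
  · exact cF_one
  · exact cF_zero

variable (h2 : (2 : F) = 0) (hω : ω * ω = ω + 1)

/-- the involution `a` -/
def aG : GL F9 F := mkGL ω h2 hω Acode Acode A_inv A_inv

/-- the element `b` of order three -/
def bG : GL F9 F := mkGL ω h2 hω Bcode (mm Bcode Bcode) B_inv1 B_inv2

def g1G : GL F9 F := mkGL ω h2 hω G1code G1inv G1_inv1 G1_inv2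

def g2G : GL F9 F := mkGL ω h2 hω G2code G2inv G2_inv1 G2_inv2

theorem aG_rep : Rep ω (aG h2 hω) Acode := rfl
theorem bG_rep : Rep ω (bG h2 hω) Bcode := rfl
theorem g1G_rep : Rep ω (g1G h2 hω) G1code := rfl
theorem g2G_rep : Rep ω (g2G h2 hω) G2code := rfl

theorem aG_sq : aG h2 hω * aG h2 hω = 1 :=
  Rep.unique (Rep.mul h2 hω (aG_rep h2 hω) (aG_rep h2 hω)) (Rep.congr Rep.one A_inv.symm)

theorem bG_cube : bG h2 hω * bG h2 hω * bG h2 hω = 1 :=
  Rep.unique (Rep.mul h2 hω (Rep.mul h2 hω (bG_rep h2 hω) (bG_rep h2 hω)) (bG_rep h2 hω))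
    (Rep.congr Rep.one B_inv2.symm)

/-- the stabiliser subgroup -/
def H2 : Subgroup (GL F9 F) := closure {g1G h2 hω, g2G h2 hω}

/-- the whole group -/
def H1 : Subgroup (GL F9 F) := closure {aG h2 hω, bG h2 hω}

theorem noskip2' : ∀ i < 2160, eSkip (ea2 i) = 0 ∧ eSkip (eb2 i) = 0 := by
  intro i hi
  have := allFrom_sound _ _ _ noskip2 i (Nat.zero_le _) (by omega)
  simp only [Bool.and_eq_true] at this
  exact ⟨beq_true this.1, beq_true this.2⟩

theorem tree2 : ∀ m < 2160, ∃ t ∈ H2 h2 hω, Rep ω t (U2 m) :=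
  level_tree h2 hω U2 (fun _ => ID) ea2 eb2 pd2 (mm G1code) (mm G2code) 2160 1 0 keyM
    (by norm_num) (by norm_num) (g1G h2 hω) (g2G h2 hω) G1code G2code (g1G_rep h2 hω)
    (g2G_rep h2 hω) (fun _ => rfl) (fun _ => rfl) chk2_all

theorem card_H2 : Nat.card (H2 h2 hω) = 2160 := by
  have h := level_card h2 hω U2 (fun _ => ID) ea2 eb2 pd2 (mm G1code) (mm G2code) 2160 1 0 keyM
    (by norm_num) (by norm_num) (g1G h2 hω) (g2G h2 hω) G1code G2code (g1G_rep h2 hω)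
    (g2G_rep h2 hω) (fun _ => rfl) (fun _ => rfl)
    (fun ⟨i, hi, hne⟩ => absurd (noskip2' i hi).1 hne)
    (fun ⟨i, hi, hne⟩ => absurd (noskip2' i hi).2 hne)
    ⊥ bot_le (fun m _ => ⟨1, Subgroup.mem_bot.2 rfl, Rep.one⟩) rfl
    (by
      intro i _ j _ g h k hg hh hk hhk
      rw [Subgroup.mem_bot] at hk
      subst hk
      rw [mul_one] at hhk
      subst hhk
      exact keyM_eq_of h2 hω one_ne_zero (hg.symm.trans hh))
    chk2_all 108 (by norm_num) root2_dep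
  rw [Subgroup.card_bot, mul_one] at h
  exact h

theorem fix0_H2 : ∀ k ∈ H2 h2 hω, Fix0 k := by
  intro k hk
  induction hk using Subgroup.closure_induction with
  | mem x hx =>
    rcases hx with rfl | hx
    · exact fix0_of_code (g1G_rep h2 hω) g1_col0
    · rw [Set.mem_singleton_iff] at hx
      subst hx
      exact fix0_of_code (g2G_rep h2 hω) g2_col0
  | one => exact fix0_one
  | mul x y _ _ hx hy => exact fix0_mul hx hy
  | inv x _ hx => exact fix0_inv hx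

theorem tree1 : ∀ i < 69768, ∃ g ∈ H1 h2 hω, Rep ω g (U1 i) :=
  level_tree h2 hω U1 U2 ea1 eb1 pd1 apA apB 69768 2160 108 key0 (by norm_num) (by norm_num)
    (aG h2 hω) (bG h2 hω) Acode Bcode (aG_rep h2 hω) (bG_rep h2 hω) apA_eq apB_eq chk1_all

theorem H2_le : H2 h2 hω ≤ H1 h2 hω := by
  have ha : aG h2 hω ∈ H1 h2 hω := subset_closure (by simp)
  have hb : bG h2 hω ∈ H1 h2 hω := subset_closure (by simp)
  -- generic step
  have key : ∀ (s : GL F9 F) (S : M9) (ap : M9 → M9) (p τ : ℕ) (g : GL F9 F) (G : M9),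
      s ∈ H1 h2 hω → Rep ω s S → (∀ M, mm S M = ap M) → p < 69768 → τ < 69768 → Rep ω g G →
      ap (U1 p) = mm (U1 τ) G → g ∈ H1 h2 hω := by
    intro s S ap p τ g G hs hS hap hp hτ hg heq
    obtain ⟨up, hup, hupR⟩ := tree1 h2 hω p hp
    obtain ⟨uτ, huτ, huτR⟩ := tree1 h2 hω τ hτ
    have e1 : Rep ω (s * up) (ap (U1 p)) := by rw [← hap]; exact Rep.mul h2 hω hS hupR
    have e2 : Rep ω (uτ * g) (mm (U1 τ) G) := Rep.mul h2 hω huτR hg
    rw [heq] at e1
    have e3 : s * up = uτ * g := Rep.unique e1 e2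
    have e4 : g = uτ⁻¹ * (s * up) := by rw [e3, inv_mul_cancel_left]
    rw [e4]
    exact (H1 h2 hω).mul_mem ((H1 h2 hω).inv_mem huτ) ((H1 h2 hω).mul_mem hs hup)
  unfold H2
  rw [closure_le]
  intro x hx
  rcases hx with rfl | hx
  · exact key (bG h2 hω) Bcode apB 15669 34468 _ G1code hb (bG_rep h2 hω) apB_eq (by norm_num)
      (by norm_num) (g1G_rep h2 hω) g1_edge
  · rw [Set.mem_singleton_iff] at hx
    subst hx
    exact key (aG h2 hω) Acode apA 12260 26853 _ G2code ha (aG_rep h2 hω) apA_eq (by norm_num)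
      (by norm_num) (g2G_rep h2 hω) g2_edge

theorem card_H1 : Nat.card (H1 h2 hω) = 150698880 := by
  have h := level_card h2 hω U1 U2 ea1 eb1 pd1 apA apB 69768 2160 108 key0 (by norm_num)
    (by norm_num) (aG h2 hω) (bG h2 hω) Acode Bcode (aG_rep h2 hω) (bG_rep h2 hω) apA_eq apB_eq
    (fun _ => aG_sq h2 hω) (fun _ => bG_cube h2 hω) (H2 h2 hω) (H2_le h2 hω) (tree2 h2 hω)
    (M9.eq_of_beq root2_ok)
    (by
      intro i _ j _ g h k hg hh hk hhk
      apply key0_eq_of h2 hω one_ne_zero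
      intro w
      rw [← hg, ← hh, hhk, mul_col0 g k (fix0_H2 h2 hω k hk)])
    chk1_all 0 (by norm_num) root1_dep
  rw [card_H2] at h
  exact h

theorem mem_H1_of_sift (g : GL F9 F) (i m : ℕ) (hi : i < 69768) (hm : m < 2160)
    (h : Rep ω g (mm (U1 i) (U2 m))) : g ∈ H1 h2 hω := by
  obtain ⟨u, hu, huR⟩ := tree1 h2 hω i hi
  obtain ⟨t, ht, htR⟩ := tree2 h2 hω m hm
  have : g = u * t := Rep.unique h (Rep.mul h2 hω huR htR)
  rw [this]
  exact (H1 h2 hω).mul_mem hu (H2_le h2 hω ht)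

end

end Cfsg.Agent.Lib.Helper37.J3
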