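import Cfsg.Agent.Lib.Helper37.J3Center

/-!
The quotient `J3 F ω`: trivial centre, and the elements used for simplicity.
-/

set_option autoImplicit false

namespace Cfsg.Agent.Lib.Helper37.J3

open Cfsg.Spor Subgroup

/-- a normal subgroup containing `a * b`, where `a² = b³ = 1` generate, is everything -/
theorem gen23 {Q : Type*} [Group Q] (a b : Q) (ha : a * a = 1) (hb : b * b * b = 1)
    (hgen : Subgroup.closure {a, b} = ⊤) (N : Subgroup Q) (hN : N.Normal) (hab : a * b ∈ N) :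
    N = ⊤ := by
  have e1 : (QuotientGroup.mk (a * b) : Q ⧸ N) = 1 := (QuotientGroup.eq_one_iff _).mpr hab
  have ha' : (QuotientGroup.mk a : Q ⧸ N) * QuotientGroup.mk a = 1 := by
    rw [← QuotientGroup.mk_mul, ha]; rfl
  have hb' : (QuotientGroup.mk b : Q ⧸ N) * QuotientGroup.mk b * QuotientGroup.mk b = 1 := by
    rw [← QuotientGroup.mk_mul, ← QuotientGroup.mk_mul, hb]; rfl
  rw [QuotientGroup.mk_mul] at e1
  generalize (QuotientGroup.mk a : Q ⧸ N) = x at e1 ha' hb'
  generalize hy' : (QuotientGroup.mk b : Q ⧸ N) = y at e1 ha' hb'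
  have hx : x = y⁻¹ := eq_inv_of_mul_eq_one_left e1
  have hy2 : y * y = 1 := by
    rw [hx, ← mul_inv_rev, inv_eq_one] at ha'
    exact ha'
  have hy : y = 1 := by rw [hy2, one_mul] at hb'; exact hb'
  have hx1 : x = 1 := by rw [hx, hy, inv_one]
  have hbN : b ∈ N := (QuotientGroup.eq_one_iff _).mp (hy'.trans hy)
  have haN : a ∈ N := by
    have : a = a * b * b⁻¹ := by group
    rw [this]
    exact N.mul_mem hab (N.inv_mem hbN)
  rw [eq_top_iff, ← hgen, Subgroup.closure_le]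
  rintro z (rfl | rfl)
  · exact haN
  · exact hbN

/-- if `G` is generated by elements of order prime to 3 and `|Z(G)| = 3` then `G / Z(G)` has
trivial centre -/
theorem center_quot_bot {G : Type*} [Group G] (hZ : Nat.card (center G) = 3)
    (S : Set G) (hS : closure S = ⊤) (hord : ∀ s ∈ S, ∃ n : ℕ, Nat.Coprime n 3 ∧ s ^ n = 1) :
    center (G ⧸ center G) = ⊥ := by
  rw [eq_bot_iff]
  intro q hq
  induction q using QuotientGroup.induction_on with
  | H x =>
    rw [Subgroup.mem_bot, QuotientGroup.eq_one_iff]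
    rw [Subgroup.mem_center_iff] at hq
    have hcomm : ∀ s ∈ S, s * x = x * s := by
      intro s hs
      obtain ⟨n, hn, hsn⟩ := hord s hs
      have hc : x * s * x⁻¹ * s⁻¹ ∈ center G := by
        rw [← QuotientGroup.eq_one_iff]
        have e := hq (QuotientGroup.mk s)
        rw [QuotientGroup.mk_mul, QuotientGroup.mk_mul, QuotientGroup.mk_mul,
          QuotientGroup.mk_inv, QuotientGroup.mk_inv, ← e]
        group
      set c := x * s * x⁻¹ * s⁻¹ with hcdef
      have hc3 : c ^ 3 = 1 := by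
        have := pow_card_eq_one' (G := center G) (x := ⟨c, hc⟩)
        rw [hZ] at this
        exact congrArg Subtype.val this
      have hcs : x * s * x⁻¹ = c * s := by rw [hcdef]; group
      have hcn : c ^ n = 1 := by
        have h1 : (x * s * x⁻¹) ^ n = 1 := by rw [conj_pow, hsn, mul_one, mul_inv_cancel]
        have hcomm' : Commute c s := (Subgroup.mem_center_iff.mp hc s).symm
        rw [hcs, hcomm'.mul_pow, hsn, mul_one] at h1
        exact h1
      have hc1 : c = 1 := by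
        have d1 := orderOf_dvd_of_pow_eq_one hcn
        have d2 := orderOf_dvd_of_pow_eq_one hc3
        have := Nat.eq_one_of_dvd_coprimes hn d1 d2
        exact orderOf_eq_one_iff.mp this
      have : x * s = c * (s * x) := by rw [hcdef]; group
      rw [this, hc1, one_mul]
    have hle : closure S ≤ Subgroup.centralizer {x} := by
      rw [Subgroup.closure_le]
      intro s hs
      rw [SetLike.mem_coe, Subgroup.mem_centralizer_iff]
      intro h hh
      rw [Set.mem_singleton_iff] at hh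
      subst hh
      exact (hcomm s hs).symm
    rw [hS] at hle
    rw [Subgroup.mem_center_iff]
    intro g
    have := hle (Subgroup.mem_top g)
    rw [Subgroup.mem_centralizer_iff] at this
    exact (this x rfl).symm

theorem closure_top_of_eq {G : Type*} [Group G] (H : Subgroup G) (a b : G)
    (hH : H = closure {a, b}) (ha : a ∈ H) (hb : b ∈ H) :
    closure ({⟨a, ha⟩, ⟨b, hb⟩} : Set H) = ⊤ := by
  subst hH
  have h := Subgroup.closure_closure_coe_preimage (k := ({a, b} : Set G))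
  convert h using 2
  ext ⟨x, hx⟩
  simp [Subtype.ext_iff]

/-- the image in `G / Z(G)`, `|Z(G)| = 3`, of an element of prime order `p ≠ 3` has order `p` -/
theorem orderOf_mk_eq {G : Type*} [Group G] (hZ : Nat.card (center G) = 3) (p : ℕ)
    [hp : Fact p.Prime] (hp3 : Nat.Coprime p 3) (g : G) (hg : g ^ p = 1) (hg1 : g ≠ 1) :
    orderOf (QuotientGroup.mk g : G ⧸ center G) = p := by
  apply orderOf_eq_prime
  · rw [← QuotientGroup.mk_pow, hg]; rfl
  · intro h
    rw [QuotientGroup.eq_one_iff] at h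
    have h3 : g ^ 3 = 1 := by
      have := pow_card_eq_one' (G := center G) (x := ⟨g, h⟩)
      rw [hZ] at this
      exact congrArg Subtype.val this
    have d1 := orderOf_dvd_of_pow_eq_one hg
    have d2 := orderOf_dvd_of_pow_eq_one h3
    have := Nat.eq_one_of_dvd_coprimes hp3 d1 d2
    exact hg1 (orderOf_eq_one_iff.mp this)

theorem J3_data_aux {G : Type*} [Group G] (hZ : Nat.card (center G) = 3) (a b y1 y2 z1 z2 : G)
    (haa : a * a = 1) (hbbb : b * b * b = 1) (hgen : closure {a, b} = ⊤)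
    (hab17 : (a * b) ^ 17 = 1) (hab1 : a * b ≠ 1)
    (hy1 : y1 ^ 19 = 1) (hy1' : y1 ≠ 1) (hy2 : y2 ^ 19 = 1) (hy2' : y2 ≠ 1)
    (hy : y1 * y2 = a * b)
    (hz1 : z1 ^ 5 = 1) (hz1' : z1 ≠ 1) (hz2 : z2 ^ 5 = 1) (hz2' : z2 ≠ 1)
    (hz : z1 * z2 = a * b) :
    center (G ⧸ center G) = ⊥ ∧ ∃ g17 y1 y2 z1 z2 : G ⧸ center G, orderOf g17 = 17 ∧
      (∀ N : Subgroup (G ⧸ center G), N.Normal → g17 ∈ N → N = ⊤) ∧
      orderOf y1 = 19 ∧ orderOf y2 = 19 ∧ y1 * y2 = g17 ∧
      orderOf z1 = 5 ∧ orderOf z2 = 5 ∧ z1 * z2 = g17 := by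
  have hcq : center (G ⧸ center G) = ⊥ := by
    refine center_quot_bot hZ {a, a * b} ?_ ?_
    · rw [eq_top_iff, ← hgen, closure_le]
      intro x hx
      rcases hx with hx | hx
      · rw [hx]; exact subset_closure (Or.inl rfl)
      · rw [Set.mem_singleton_iff] at hx
        have e : x = a⁻¹ * (a * b) := by rw [hx]; group
        rw [e]
        exact mul_mem (inv_mem (subset_closure (Or.inl rfl))) (subset_closure (Or.inr rfl))
    · intro s hs
      rcases hs with hs | hs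
      · rw [hs]; exact ⟨2, by norm_num, by rw [pow_two]; exact haa⟩
      · rw [Set.mem_singleton_iff] at hs
        rw [hs]; exact ⟨17, by norm_num, hab17⟩
  haveI : Fact (Nat.Prime 17) := ⟨by norm_num⟩
  haveI : Fact (Nat.Prime 19) := ⟨by norm_num⟩
  haveI : Fact (Nat.Prime 5) := ⟨by norm_num⟩
  refine ⟨hcq, QuotientGroup.mk (a * b), QuotientGroup.mk y1, QuotientGroup.mk y2,
    QuotientGroup.mk z1, QuotientGroup.mk z2, ?_, ?_, ?_, ?_, ?_, ?_, ?_, ?_⟩
  · exact orderOf_mk_eq hZ 17 (by norm_num) _ hab17 hab1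
  · intro N hN hmem
    refine gen23 (QuotientGroup.mk a) (QuotientGroup.mk b) ?_ ?_ ?_ N hN hmem
    · rw [← QuotientGroup.mk_mul, haa]; rfl
    · rw [← QuotientGroup.mk_mul, ← QuotientGroup.mk_mul, hbbb]; rfl
    · have h := Subgroup.map_top_of_surjective (QuotientGroup.mk' (center G))
        (QuotientGroup.mk'_surjective _)
      rw [← hgen, MonoidHom.map_closure] at h
      rw [← h]
      congr 1
      rw [Set.image_pair]
      rfl
  · exact orderOf_mk_eq hZ 19 (by norm_num) _ hy1 hy1'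
  · exact orderOf_mk_eq hZ 19 (by norm_num) _ hy2 hy2'
  · rw [← QuotientGroup.mk_mul, hy]
  · exact orderOf_mk_eq hZ 5 (by norm_num) _ hz1 hz1'
  · exact orderOf_mk_eq hZ 5 (by norm_num) _ hz2 hz2'
  · rw [← QuotientGroup.mk_mul, hz]

section

variable {F : Type*} [Field F] {ω : F}

theorem rep_ne_one (h2 : (2 : F) = 0) (hω : ω * ω = ω + 1) {g : GL F9 F} {M : M9}
    (hg : Rep ω g M) (hne : keyM M ≠ keyM ID) : g ≠ 1 := by
  rintro rfl
  exact hne (keyM_eq_of h2 hω one_ne_zero (hg.symm.trans Rep.one))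

theorem rep_pow_one (h2 : (2 : F) = 0) (hω : ω * ω = ω + 1) {g : GL F9 F} {M : M9}
    (hg : Rep ω g M) (n : ℕ) (h : mpow M n = ID) : g ^ n = 1 :=
  Rep.unique (Rep.congr (Rep.pow h2 hω hg n) h) Rep.one

theorem J3_data (h2 : (2 : F) = 0) (hω : ω * ω = ω + 1)
    (hF4 : ∀ c : F, c = 0 ∨ c = 1 ∨ c = ω ∨ c = ω + 1) :
    center (J3 F ω) = ⊥ ∧ ∃ g17 y1 y2 z1 z2 : J3 F ω, orderOf g17 = 17 ∧
      (∀ N : Subgroup (J3 F ω), N.Normal → g17 ∈ N → N = ⊤) ∧
      orderOf y1 = 19 ∧ orderOf y2 = 19 ∧ y1 * y2 = g17 ∧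
      orderOf z1 = 5 ∧ orderOf z2 = 5 ∧ z1 * z2 = g17 := by
  have hZ := card_center h2 hω hF4
  have hRab : Rep ω (aG h2 hω * bG h2 hω) (mm Acode Bcode) :=
    Rep.mul h2 hω (aG_rep h2 hω) (bG_rep h2 hω)
  obtain ⟨y1, hy1m, hy1R⟩ :=
    exists_of_sift h2 hω Y19a _ _ (by norm_num) (by norm_num) Y19a_sift
  obtain ⟨y2, hy2m, hy2R⟩ :=
    exists_of_sift h2 hω Y19b _ _ (by norm_num) (by norm_num) Y19b_sift
  obtain ⟨z1, hz1m, hz1R⟩ :=
    exists_of_sift h2 hω Y5a _ _ (by norm_num) (by norm_num) Y5a_sift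
  obtain ⟨z2, hz2m, hz2R⟩ :=
    exists_of_sift h2 hω Y5b _ _ (by norm_num) (by norm_num) Y5b_sift
  refine J3_data_aux hZ ⟨aG h2 hω, aG_mem h2 hω⟩ ⟨bG h2 hω, bG_mem h2 hω⟩
    ⟨y1, hy1m⟩ ⟨y2, hy2m⟩ ⟨z1, hz1m⟩ ⟨z2, hz2m⟩ ?_ ?_ ?_ ?_ ?_ ?_ ?_ ?_ ?_ ?_ ?_ ?_ ?_ ?_ ?_
  · exact Subtype.ext (aG_sq h2 hω)
  · exact Subtype.ext (bG_cube h2 hω)
  · exact closure_top_of_eq _ _ _ (threeJ3_eq h2 hω) _ _
  · exact Subtype.ext (rep_pow_one h2 hω hRab 17 AB_pow)
  · exact fun h => rep_ne_one h2 hω hRab AB_ne (congrArg Subtype.val h)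
  · exact Subtype.ext (rep_pow_one h2 hω hy1R 19 Y19a_pow)
  · exact fun h => rep_ne_one h2 hω hy1R Y19a_ne (congrArg Subtype.val h)
  · exact Subtype.ext (rep_pow_one h2 hω hy2R 19 Y19b_pow)
  · exact fun h => rep_ne_one h2 hω hy2R Y19b_ne (congrArg Subtype.val h)
  · exact Subtype.ext (Rep.unique (Rep.congr (Rep.mul h2 hω hy1R hy2R) Y19_prod) hRab)
  · exact Subtype.ext (rep_pow_one h2 hω hz1R 5 Y5a_pow)
  · exact fun h => rep_ne_one h2 hω hz1R Y5a_ne (congrArg Subtype.val h)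
  · exact Subtype.ext (rep_pow_one h2 hω hz2R 5 Y5b_pow)
  · exact fun h => rep_ne_one h2 hω hz2R Y5b_ne (congrArg Subtype.val h)
  · exact Subtype.ext (Rep.unique (Rep.congr (Rep.mul h2 hω hz1R hz2R) Y5_prod) hRab)

end

end Cfsg.Agent.Lib.Helper37.J3
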