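import Cfsg.Agent.Lib.Helper37.J3VC0
import Cfsg.Agent.Lib.Helper37.J3VC1
import Cfsg.Agent.Lib.Helper37.J3VC2
import Cfsg.Agent.Lib.Helper37.J3VC3
import Cfsg.Agent.Lib.Helper37.J3VC4
import Cfsg.Agent.Lib.Helper37.J3VC5
import Cfsg.Agent.Lib.Helper37.J3VC6
import Cfsg.Agent.Lib.Helper37.J3VC7
import Cfsg.Agent.Lib.Helper37.J3Chk

set_option autoImplicit false
set_option maxRecDepth 100000

namespace Cfsg.Agent.Lib.Helper37.J3

theorem chkV_all (i : ℕ) (hi : i < 262144) : chkV i = true := by
  obtain ⟨q, r, hr, rfl⟩ : ∃ q r, r < 2048 ∧ i = 2048 * q + r :=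
    ⟨i / 2048, i % 2048, Nat.mod_lt _ (by norm_num), (Nat.div_add_mod i 2048).symm⟩
  have hq : q < 128 := by omega
  interval_cases q
  · exact allFrom_sound _ _ _ cv_0 _ (by omega) (by omega)
  · exact allFrom_sound _ _ _ cv_2048 _ (by omega) (by omega)
  · exact allFrom_sound _ _ _ cv_4096 _ (by omega) (by omega)
  · exact allFrom_sound _ _ _ cv_6144 _ (by omega) (by omega)
  · exact allFrom_sound _ _ _ cv_8192 _ (by omega) (by omega)
  · exact allFrom_sound _ _ _ cv_10240 _ (by omega) (by omega)
  · exact allFrom_sound _ _ _ cv_12288 _ (by omega) (by omega)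
  · exact allFrom_sound _ _ _ cv_14336 _ (by omega) (by omega)
  · exact allFrom_sound _ _ _ cv_16384 _ (by omega) (by omega)
  · exact allFrom_sound _ _ _ cv_18432 _ (by omega) (by omega)
  · exact allFrom_sound _ _ _ cv_20480 _ (by omega) (by omega)
  · exact allFrom_sound _ _ _ cv_22528 _ (by omega) (by omega)
  · exact allFrom_sound _ _ _ cv_24576 _ (by omega) (by omega)
  · exact allFrom_sound _ _ _ cv_26624 _ (by omega) (by omega)
  · exact allFrom_sound _ _ _ cv_28672 _ (by omega) (by omega)
  · exact allFrom_sound _ _ _ cv_30720 _ (by omega) (by omega)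
  · exact allFrom_sound _ _ _ cv_32768 _ (by omega) (by omega)
  · exact allFrom_sound _ _ _ cv_34816 _ (by omega) (by omega)
  · exact allFrom_sound _ _ _ cv_36864 _ (by omega) (by omega)
  · exact allFrom_sound _ _ _ cv_38912 _ (by omega) (by omega)
  · exact allFrom_sound _ _ _ cv_40960 _ (by omega) (by omega)
  · exact allFrom_sound _ _ _ cv_43008 _ (by omega) (by omega)
  · exact allFrom_sound _ _ _ cv_45056 _ (by omega) (by omega)
  · exact allFrom_sound _ _ _ cv_47104 _ (by omega) (by omega)
  · exact allFrom_sound _ _ _ cv_49152 _ (by omega) (by omega)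
  · exact allFrom_sound _ _ _ cv_51200 _ (by omega) (by omega)
  · exact allFrom_sound _ _ _ cv_53248 _ (by omega) (by omega)
  · exact allFrom_sound _ _ _ cv_55296 _ (by omega) (by omega)
  · exact allFrom_sound _ _ _ cv_57344 _ (by omega) (by omega)
  · exact allFrom_sound _ _ _ cv_59392 _ (by omega) (by omega)
  · exact allFrom_sound _ _ _ cv_61440 _ (by omega) (by omega)
  · exact allFrom_sound _ _ _ cv_63488 _ (by omega) (by omega)
  · exact allFrom_sound _ _ _ cv_65536 _ (by omega) (by omega)
  · exact allFrom_sound _ _ _ cv_67584 _ (by omega) (by omega)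
  · exact allFrom_sound _ _ _ cv_69632 _ (by omega) (by omega)
  · exact allFrom_sound _ _ _ cv_71680 _ (by omega) (by omega)
  · exact allFrom_sound _ _ _ cv_73728 _ (by omega) (by omega)
  · exact allFrom_sound _ _ _ cv_75776 _ (by omega) (by omega)
  · exact allFrom_sound _ _ _ cv_77824 _ (by omega) (by omega)
  · exact allFrom_sound _ _ _ cv_79872 _ (by omega) (by omega)
  · exact allFrom_sound _ _ _ cv_81920 _ (by omega) (by omega)
  · exact allFrom_sound _ _ _ cv_83968 _ (by omega) (by omega)
  · exact allFrom_sound _ _ _ cv_86016 _ (by omega) (by omega)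
  · exact allFrom_sound _ _ _ cv_88064 _ (by omega) (by omega)
  · exact allFrom_sound _ _ _ cv_90112 _ (by omega) (by omega)
  · exact allFrom_sound _ _ _ cv_92160 _ (by omega) (by omega)
  · exact allFrom_sound _ _ _ cv_94208 _ (by omega) (by omega)
  · exact allFrom_sound _ _ _ cv_96256 _ (by omega) (by omega)
  · exact allFrom_sound _ _ _ cv_98304 _ (by omega) (by omega)
  · exact allFrom_sound _ _ _ cv_100352 _ (by omega) (by omega)
  · exact allFrom_sound _ _ _ cv_102400 _ (by omega) (by omega)
  · exact allFrom_sound _ _ _ cv_104448 _ (by omega) (by omega)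
  · exact allFrom_sound _ _ _ cv_106496 _ (by omega) (by omega)
  · exact allFrom_sound _ _ _ cv_108544 _ (by omega) (by omega)
  · exact allFrom_sound _ _ _ cv_110592 _ (by omega) (by omega)
  · exact allFrom_sound _ _ _ cv_112640 _ (by omega) (by omega)
  · exact allFrom_sound _ _ _ cv_114688 _ (by omega) (by omega)
  · exact allFrom_sound _ _ _ cv_116736 _ (by omega) (by omega)
  · exact allFrom_sound _ _ _ cv_118784 _ (by omega) (by omega)
  · exact allFrom_sound _ _ _ cv_120832 _ (by omega) (by omega)
  · exact allFrom_sound _ _ _ cv_122880 _ (by omega) (by omega)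
  · exact allFrom_sound _ _ _ cv_124928 _ (by omega) (by omega)
  · exact allFrom_sound _ _ _ cv_126976 _ (by omega) (by omega)
  · exact allFrom_sound _ _ _ cv_129024 _ (by omega) (by omega)
  · exact allFrom_sound _ _ _ cv_131072 _ (by omega) (by omega)
  · exact allFrom_sound _ _ _ cv_133120 _ (by omega) (by omega)
  · exact allFrom_sound _ _ _ cv_135168 _ (by omega) (by omega)
  · exact allFrom_sound _ _ _ cv_137216 _ (by omega) (by omega)
  · exact allFrom_sound _ _ _ cv_139264 _ (by omega) (by omega)
  · exact allFrom_sound _ _ _ cv_141312 _ (by omega) (by omega)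
  · exact allFrom_sound _ _ _ cv_143360 _ (by omega) (by omega)
  · exact allFrom_sound _ _ _ cv_145408 _ (by omega) (by omega)
  · exact allFrom_sound _ _ _ cv_147456 _ (by omega) (by omega)
  · exact allFrom_sound _ _ _ cv_149504 _ (by omega) (by omega)
  · exact allFrom_sound _ _ _ cv_151552 _ (by omega) (by omega)
  · exact allFrom_sound _ _ _ cv_153600 _ (by omega) (by omega)
  · exact allFrom_sound _ _ _ cv_155648 _ (by omega) (by omega)
  · exact allFrom_sound _ _ _ cv_157696 _ (by omega) (by omega)
  · exact allFrom_sound _ _ _ cv_159744 _ (by omega) (by omega)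
  · exact allFrom_sound _ _ _ cv_161792 _ (by omega) (by omega)
  · exact allFrom_sound _ _ _ cv_163840 _ (by omega) (by omega)
  · exact allFrom_sound _ _ _ cv_165888 _ (by omega) (by omega)
  · exact allFrom_sound _ _ _ cv_167936 _ (by omega) (by omega)
  · exact allFrom_sound _ _ _ cv_169984 _ (by omega) (by omega)
  · exact allFrom_sound _ _ _ cv_172032 _ (by omega) (by omega)
  · exact allFrom_sound _ _ _ cv_174080 _ (by omega) (by omega)
  · exact allFrom_sound _ _ _ cv_176128 _ (by omega) (by omega)
  · exact allFrom_sound _ _ _ cv_178176 _ (by omega) (by omega)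
  · exact allFrom_sound _ _ _ cv_180224 _ (by omega) (by omega)
  · exact allFrom_sound _ _ _ cv_182272 _ (by omega) (by omega)
  · exact allFrom_sound _ _ _ cv_184320 _ (by omega) (by omega)
  · exact allFrom_sound _ _ _ cv_186368 _ (by omega) (by omega)
  · exact allFrom_sound _ _ _ cv_188416 _ (by omega) (by omega)
  · exact allFrom_sound _ _ _ cv_190464 _ (by omega) (by omega)
  · exact allFrom_sound _ _ _ cv_192512 _ (by omega) (by omega)
  · exact allFrom_sound _ _ _ cv_194560 _ (by omega) (by omega)
  · exact allFrom_sound _ _ _ cv_196608 _ (by omega) (by omega)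
  · exact allFrom_sound _ _ _ cv_198656 _ (by omega) (by omega)
  · exact allFrom_sound _ _ _ cv_200704 _ (by omega) (by omega)
  · exact allFrom_sound _ _ _ cv_202752 _ (by omega) (by omega)
  · exact allFrom_sound _ _ _ cv_204800 _ (by omega) (by omega)
  · exact allFrom_sound _ _ _ cv_206848 _ (by omega) (by omega)
  · exact allFrom_sound _ _ _ cv_208896 _ (by omega) (by omega)
  · exact allFrom_sound _ _ _ cv_210944 _ (by omega) (by omega)
  · exact allFrom_sound _ _ _ cv_212992 _ (by omega) (by omega)
  · exact allFrom_sound _ _ _ cv_215040 _ (by omega) (by omega)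
  · exact allFrom_sound _ _ _ cv_217088 _ (by omega) (by omega)
  · exact allFrom_sound _ _ _ cv_219136 _ (by omega) (by omega)
  · exact allFrom_sound _ _ _ cv_221184 _ (by omega) (by omega)
  · exact allFrom_sound _ _ _ cv_223232 _ (by omega) (by omega)
  · exact allFrom_sound _ _ _ cv_225280 _ (by omega) (by omega)
  · exact allFrom_sound _ _ _ cv_227328 _ (by omega) (by omega)
  · exact allFrom_sound _ _ _ cv_229376 _ (by omega) (by omega)
  · exact allFrom_sound _ _ _ cv_231424 _ (by omega) (by omega)
  · exact allFrom_sound _ _ _ cv_233472 _ (by omega) (by omega)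
  · exact allFrom_sound _ _ _ cv_235520 _ (by omega) (by omega)
  · exact allFrom_sound _ _ _ cv_237568 _ (by omega) (by omega)
  · exact allFrom_sound _ _ _ cv_239616 _ (by omega) (by omega)
  · exact allFrom_sound _ _ _ cv_241664 _ (by omega) (by omega)
  · exact allFrom_sound _ _ _ cv_243712 _ (by omega) (by omega)
  · exact allFrom_sound _ _ _ cv_245760 _ (by omega) (by omega)
  · exact allFrom_sound _ _ _ cv_247808 _ (by omega) (by omega)
  · exact allFrom_sound _ _ _ cv_249856 _ (by omega) (by omega)
  · exact allFrom_sound _ _ _ cv_251904 _ (by omega) (by omega)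
  · exact allFrom_sound _ _ _ cv_253952 _ (by omega) (by omega)
  · exact allFrom_sound _ _ _ cv_256000 _ (by omega) (by omega)
  · exact allFrom_sound _ _ _ cv_258048 _ (by omega) (by omega)
  · exact allFrom_sound _ _ _ cv_260096 _ (by omega) (by omega)

end Cfsg.Agent.Lib.Helper37.J3
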