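import Mathlib
import Cfsg.Prelude.Def_GeometricClasses
import Cfsg.Agent.Lib.Helper54.SP4OE2Defs

/-! Project SP4O (helper54; S5787), piece E2S, slice "normaliser clause" (helper37).

`N₀ = {g : gᵀ G₀ g = G₀, g j₀ = ± j₀ g}` has exactly twelve involutions `± 1, ± D, ± X, ± T, ± U, ± W`
(`invol_class`), and they generate `R₀ = 2^(1+4)_-`.  Hence any subgroup `R₀` generated by involutions
of `N₀` and containing these twelve matrices is normalised by `N₀` (`normalizer_of`,
`normalizer_gens`). -/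

set_option autoImplicit false

namespace Cfsg.Agent.Lib.Helper37.E2SN

open Matrix Cfsg.Geo Cfsg.Agent.Lib.Helper54.SP4O

variable {F : Type*} [Field F] [Fintype F]

/-- `diag(1,1,-1,-1)` -/
def mD (F : Type*) [Field F] : Matrix (Fin 4) (Fin 4) F :=
  !![1, 0, 0, 0; 0, 1, 0, 0; 0, 0, -1, 0; 0, 0, 0, -1]

/-- the block swap -/
def mX (F : Type*) [Field F] : Matrix (Fin 4) (Fin 4) F :=
  !![0, 0, 1, 0; 0, 0, 0, 1; 1, 0, 0, 0; 0, 1, 0, 0]

/-- the generator `g2` -/
def mT (F : Type*) [Field F] : Matrix (Fin 4) (Fin 4) F :=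
  !![0, 0, 0, 1; 0, 0, -1, 0; 0, -1, 0, 0; 1, 0, 0, 0]

/-- an antilinear involution -/
def mU (F : Type*) [Field F] : Matrix (Fin 4) (Fin 4) F :=
  !![0, 0, 1, 1; 0, 0, 1, -1; -1, -1, 0, 0; -1, 1, 0, 0]

/-- another antilinear involution -/
def mW (F : Type*) [Field F] : Matrix (Fin 4) (Fin 4) F :=
  !![0, 0, -1, 1; 0, 0, 1, 1; 1, -1, 0, 0; -1, -1, 0, 0]

theorem three_eq_zero (hq : Fintype.card F = 3) : (3 : F) = 0 := by
  have : Fact (Nat.Prime 3) := ⟨Nat.prime_three⟩
  have : CharP F 3 := charP_of_card_eq_prime hq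
  exact_mod_cast CharP.cast_eq_zero F 3

theorem tri (hq : Fintype.card F = 3) (x : F) : x = 0 ∨ x = 1 ∨ x = -1 := by
  have h := FiniteField.pow_card x
  rw [hq] at h
  have h' : x * ((x - 1) * (x + 1)) = 0 := by linear_combination h
  rcases mul_eq_zero.mp h' with h1 | h1
  · exact Or.inl h1
  · rcases mul_eq_zero.mp h1 with h2 | h2
    · exact Or.inr (Or.inl (sub_eq_zero.mp h2))
    · exact Or.inr (Or.inr (eq_neg_of_add_eq_zero_left h2))

omit [Fintype F] in
theorem tG_apply (y : Matrix (Fin 4) (Fin 4) F) (i : Fin 4) :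
    (yᵀ * E2G0 F) i 0 = -y 1 i ∧ (yᵀ * E2G0 F) i 1 = y 0 i ∧
    (yᵀ * E2G0 F) i 2 = -y 3 i ∧ (yᵀ * E2G0 F) i 3 = y 2 i := by
  simp [E2G0, Matrix.mul_apply, Fin.sum_univ_four]

omit [Fintype F] in
theorem Gy_apply (y : Matrix (Fin 4) (Fin 4) F) (j : Fin 4) :
    (E2G0 F * y) 0 j = y 1 j ∧ (E2G0 F * y) 1 j = -y 0 j ∧
    (E2G0 F * y) 2 j = y 3 j ∧ (E2G0 F * y) 3 j = -y 2 j := by
  simp [E2G0, Matrix.mul_apply, Fin.sum_univ_four]

omit [Fintype F] in
theorem yG_apply (y : Matrix (Fin 4) (Fin 4) F) (i : Fin 4) :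
    (y * E2G0 F) i 0 = -y i 1 ∧ (y * E2G0 F) i 1 = y i 0 ∧
    (y * E2G0 F) i 2 = -y i 3 ∧ (y * E2G0 F) i 3 = y i 2 := by
  simp [E2G0, Matrix.mul_apply, Fin.sum_univ_four]

omit [Fintype F] in
theorem j0_eq : E2j0 F = -E2G0 F := by
  ext i j
  fin_cases i <;> fin_cases j <;> simp [E2j0, E2G0]

omit [Fintype F] in
theorem G0_sq : E2G0 F * E2G0 F = -1 := by
  ext i j
  fin_cases i <;> fin_cases j <;> simp [E2G0, Matrix.mul_apply, Fin.sum_univ_four]

theorem sq_cases (hq : Fintype.card F = 3) (x : F) : x * x = 0 ∨ x * x = 1 := by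
  rcases tri hq x with rfl | rfl | rfl
  · left; ring
  · right; ring
  · right; ring

/-- the shape forced by `yᵀ G₀ = G₀ y` -/
theorem shape (hq : Fintype.card F = 3) (y : Matrix (Fin 4) (Fin 4) F)
    (h4 : yᵀ * E2G0 F = E2G0 F * y) :
    y 1 0 = 0 ∧ y 1 1 = y 0 0 ∧ y 3 0 = -y 1 2 ∧ y 2 0 = y 1 3 ∧ y 0 1 = 0 ∧ y 3 1 = y 0 2 ∧
    y 2 1 = -y 0 3 ∧ y 3 2 = 0 ∧ y 3 3 = y 2 2 ∧ y 2 3 = 0 := by
  have h3 := three_eq_zero hq
  have e : ∀ i j, (yᵀ * E2G0 F) i j = (E2G0 F * y) i j := fun i j => by rw [h4]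
  have e00 := e 0 0
  rw [(tG_apply y 0).1, (Gy_apply y 0).1] at e00
  have e01 := e 0 1
  rw [(tG_apply y 0).2.1, (Gy_apply y 1).1] at e01
  have e02 := e 0 2
  rw [(tG_apply y 0).2.2.1, (Gy_apply y 2).1] at e02
  have e03 := e 0 3
  rw [(tG_apply y 0).2.2.2, (Gy_apply y 3).1] at e03
  have e11 := e 1 1
  rw [(tG_apply y 1).2.1, (Gy_apply y 1).2.1] at e11
  have e12 := e 1 2
  rw [(tG_apply y 1).2.2.1, (Gy_apply y 2).2.1] at e12
  have e13 := e 1 3
  rw [(tG_apply y 1).2.2.2, (Gy_apply y 3).2.1] at e13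
  have e22 := e 2 2
  rw [(tG_apply y 2).2.2.1, (Gy_apply y 2).2.2.1] at e22
  have e23 := e 2 3
  rw [(tG_apply y 2).2.2.2, (Gy_apply y 3).2.2.1] at e23
  have e33 := e 3 3
  rw [(tG_apply y 3).2.2.2, (Gy_apply y 3).2.2.2] at e33
  refine ⟨?_, ?_, ?_, ?_, ?_, ?_, ?_, ?_, ?_, ?_⟩
  · linear_combination e00 + y 1 0 * h3
  · linear_combination -e01
  · linear_combination -e02
  · linear_combination e03
  · linear_combination (-1 : F) * e11 + y 0 1 * h3
  · linear_combination -e12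
  · linear_combination e13
  · linear_combination e22 + y 3 2 * h3
  · linear_combination -e23
  · linear_combination (-1 : F) * e33 + y 2 3 * h3

omit [Fintype F] [Field F] in
theorem mat_ext (y M : Matrix (Fin 4) (Fin 4) F)
    (h : (y 0 0 = M 0 0 ∧ y 0 1 = M 0 1 ∧ y 0 2 = M 0 2 ∧ y 0 3 = M 0 3) ∧
      (y 1 0 = M 1 0 ∧ y 1 1 = M 1 1 ∧ y 1 2 = M 1 2 ∧ y 1 3 = M 1 3) ∧
      (y 2 0 = M 2 0 ∧ y 2 1 = M 2 1 ∧ y 2 2 = M 2 2 ∧ y 2 3 = M 2 3) ∧
      (y 3 0 = M 3 0 ∧ y 3 1 = M 3 1 ∧ y 3 2 = M 3 2 ∧ y 3 3 = M 3 3)) : y = M := by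
  obtain ⟨⟨a0, a1, a2, a3⟩, ⟨b0, b1, b2, b3⟩, ⟨c0, c1, c2, c3⟩, ⟨d0, d1, d2, d3⟩⟩ := h
  ext i j
  fin_cases i <;> fin_cases j <;> assumption

/-- the involutions commuting with `G₀` -/
theorem invol_comm (hq : Fintype.card F = 3) (y : Matrix (Fin 4) (Fin 4) F)
    (h4 : yᵀ * E2G0 F = E2G0 F * y) (h2 : y * E2G0 F = E2G0 F * y) (h3 : y * y = 1) :
    ∃ ε : F, (ε = 1 ∨ ε = -1) ∧ (y = ε • (1 : Matrix (Fin 4) (Fin 4) F) ∨ y = ε • mD F ∨
      y = ε • mX F ∨ y = ε • mT F ∨ y = ε • mU F ∨ y = ε • mW F) := by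
  have h30 := three_eq_zero hq
  obtain ⟨s10, s11, s30, s20, s01, s31, s21, s32, s33, s23⟩ := shape hq y h4
  have c : ∀ i j, (y * E2G0 F) i j = (E2G0 F * y) i j := fun i j => by rw [h2]
  have c02 := c 0 2
  rw [(yG_apply y 0).2.2.1, (Gy_apply y 2).1] at c02
  have c03 := c 0 3
  rw [(yG_apply y 0).2.2.2, (Gy_apply y 3).1] at c03
  -- parameters
  obtain ⟨a, ha⟩ : ∃ a, a = y 0 0 := ⟨_, rfl⟩
  obtain ⟨d, hd⟩ : ∃ d, d = y 2 2 := ⟨_, rfl⟩
  obtain ⟨q, hq'⟩ : ∃ q, q = y 0 2 := ⟨_, rfl⟩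
  obtain ⟨p, hp⟩ : ∃ p, p = y 1 2 := ⟨_, rfl⟩
  have v00 : y 0 0 = a := ha.symm
  have v01 : y 0 1 = 0 := s01
  have v02 : y 0 2 = q := hq'.symm
  have v03 : y 0 3 = -p := by rw [hp]; linear_combination -c02
  have v10 : y 1 0 = 0 := s10
  have v11 : y 1 1 = a := by rw [s11, v00]
  have v12 : y 1 2 = p := hp.symm
  have v13 : y 1 3 = q := by rw [hq']; linear_combination -c03
  have v20 : y 2 0 = q := by rw [s20, v13]
  have v21 : y 2 1 = p := by rw [s21, v03, neg_neg]
  have v22 : y 2 2 = d := hd.symm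
  have v23 : y 2 3 = 0 := s23
  have v30 : y 3 0 = -p := by rw [s30, v12]
  have v31 : y 3 1 = q := by rw [s31, v02]
  have v32 : y 3 2 = 0 := s32
  have v33 : y 3 3 = d := by rw [s33, v22]
  -- the quadratic equations
  have k : ∀ i j, (y * y) i j = (1 : Matrix (Fin 4) (Fin 4) F) i j := fun i j => by rw [h3]
  have k00 := k 0 0
  rw [Matrix.mul_apply, Fin.sum_univ_four, v00, v01, v02, v03, v10, v20, v30] at k00
  have k22 := k 2 2
  rw [Matrix.mul_apply, Fin.sum_univ_four, v20, v21, v22, v23, v02, v12, v32] at k22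
  have k02 := k 0 2
  rw [Matrix.mul_apply, Fin.sum_univ_four, v00, v01, v02, v03, v12, v22, v32] at k02
  have k12 := k 1 2
  rw [Matrix.mul_apply, Fin.sum_univ_four, v10, v11, v12, v13, v02, v22, v32] at k12
  simp only [Matrix.one_apply_eq] at k00 k22
  have k02' : a * q + q * d = 0 := by
    have : (1 : Matrix (Fin 4) (Fin 4) F) 0 2 = 0 := Matrix.one_apply_ne (by decide)
    rw [this] at k02
    linear_combination k02
  have k12' : a * p + p * d = 0 := by
    have : (1 : Matrix (Fin 4) (Fin 4) F) 1 2 = 0 := Matrix.one_apply_ne (by decide)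
    rw [this] at k12
    linear_combination k12
  have k00' : a * a + q * q + p * p = 1 := by linear_combination k00
  have k22' : q * q + p * p + d * d = 1 := by linear_combination k22
  rcases tri hq p with rfl | rfl | rfl <;> rcases tri hq q with rfl | rfl | rfl
  · -- p = 0, q = 0
    have ha2 : a * a = 1 := by linear_combination k00'
    have hd2 : d * d = 1 := by linear_combination k22'
    rcases mul_self_eq_one_iff.mp ha2 with rfl | rfl <;>
      rcases mul_self_eq_one_iff.mp hd2 with rfl | rfl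
    · refine ⟨1, Or.inl rfl, Or.inl ?_⟩
      apply mat_ext
      simp [v00, v01, v02, v03, v10, v11, v12, v13, v20, v21, v22, v23, v30, v31, v32, v33]
    · refine ⟨1, Or.inl rfl, Or.inr (Or.inl ?_)⟩
      apply mat_ext
      simp [mD, v00, v01, v02, v03, v10, v11, v12, v13, v20, v21, v22, v23, v30, v31, v32, v33]
    · refine ⟨-1, Or.inr rfl, Or.inr (Or.inl ?_)⟩
      apply mat_ext
      simp [mD, v00, v01, v02, v03, v10, v11, v12, v13, v20, v21, v22, v23, v30, v31, v32, v33]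
    · refine ⟨-1, Or.inr rfl, Or.inl ?_⟩
      apply mat_ext
      simp [v00, v01, v02, v03, v10, v11, v12, v13, v20, v21, v22, v23, v30, v31, v32, v33]
  · -- p = 0, q = 1
    have ha0 : a = 0 := by
      have : a * a = 0 := by linear_combination k00'
      exact mul_self_eq_zero.mp this
    have hd0 : d = 0 := by
      have : d * d = 0 := by linear_combination k22'
      exact mul_self_eq_zero.mp this
    subst ha0 hd0
    refine ⟨1, Or.inl rfl, Or.inr (Or.inr (Or.inl ?_))⟩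
    apply mat_ext
    simp [mX, v00, v01, v02, v03, v10, v11, v12, v13, v20, v21, v22, v23, v30, v31, v32, v33]
  · -- p = 0, q = -1
    have ha0 : a = 0 := by
      have : a * a = 0 := by linear_combination k00'
      exact mul_self_eq_zero.mp this
    have hd0 : d = 0 := by
      have : d * d = 0 := by linear_combination k22'
      exact mul_self_eq_zero.mp this
    subst ha0 hd0
    refine ⟨-1, Or.inr rfl, Or.inr (Or.inr (Or.inl ?_))⟩
    apply mat_ext
    simp [mX, v00, v01, v02, v03, v10, v11, v12, v13, v20, v21, v22, v23, v30, v31, v32, v33]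
  · -- p = 1, q = 0
    have ha0 : a = 0 := by
      have : a * a = 0 := by linear_combination k00'
      exact mul_self_eq_zero.mp this
    have hd0 : d = 0 := by
      have : d * d = 0 := by linear_combination k22'
      exact mul_self_eq_zero.mp this
    subst ha0 hd0
    refine ⟨-1, Or.inr rfl, Or.inr (Or.inr (Or.inr (Or.inl ?_)))⟩
    apply mat_ext
    simp [mT, v00, v01, v02, v03, v10, v11, v12, v13, v20, v21, v22, v23, v30, v31, v32, v33]
  · -- p = 1, q = 1
    exfalso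
    rcases sq_cases hq a with h | h
    · have : (1 : F) = 0 := by linear_combination k00' - h
      exact one_ne_zero this
    · have : (1 : F) = 0 := by linear_combination (-1 : F) * k00' + h + h30
      exact one_ne_zero this
  · -- p = 1, q = -1
    exfalso
    rcases sq_cases hq a with h | h
    · have : (1 : F) = 0 := by linear_combination k00' - h
      exact one_ne_zero this
    · have : (1 : F) = 0 := by linear_combination (-1 : F) * k00' + h + h30
      exact one_ne_zero this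
  · -- p = -1, q = 0
    have ha0 : a = 0 := by
      have : a * a = 0 := by linear_combination k00'
      exact mul_self_eq_zero.mp this
    have hd0 : d = 0 := by
      have : d * d = 0 := by linear_combination k22'
      exact mul_self_eq_zero.mp this
    subst ha0 hd0
    refine ⟨1, Or.inl rfl, Or.inr (Or.inr (Or.inr (Or.inl ?_)))⟩
    apply mat_ext
    simp [mT, v00, v01, v02, v03, v10, v11, v12, v13, v20, v21, v22, v23, v30, v31, v32, v33]
  · -- p = -1, q = 1
    exfalso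
    rcases sq_cases hq a with h | h
    · have : (1 : F) = 0 := by linear_combination k00' - h
      exact one_ne_zero this
    · have : (1 : F) = 0 := by linear_combination (-1 : F) * k00' + h + h30
      exact one_ne_zero this
  · -- p = -1, q = -1
    exfalso
    rcases sq_cases hq a with h | h
    · have : (1 : F) = 0 := by linear_combination k00' - h
      exact one_ne_zero this
    · have : (1 : F) = 0 := by linear_combination (-1 : F) * k00' + h + h30
      exact one_ne_zero this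

/-- the involutions anticommuting with `G₀` -/
theorem invol_anti (hq : Fintype.card F = 3) (y : Matrix (Fin 4) (Fin 4) F)
    (h4 : yᵀ * E2G0 F = E2G0 F * y) (h2 : y * E2G0 F = -(E2G0 F * y)) (h3 : y * y = 1) :
    ∃ ε : F, (ε = 1 ∨ ε = -1) ∧ (y = ε • (1 : Matrix (Fin 4) (Fin 4) F) ∨ y = ε • mD F ∨
      y = ε • mX F ∨ y = ε • mT F ∨ y = ε • mU F ∨ y = ε • mW F) := by
  have h30 := three_eq_zero hq
  obtain ⟨s10, s11, s30, s20, s01, s31, s21, s32, s33, s23⟩ := shape hq y h4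
  have c : ∀ i j, (y * E2G0 F) i j = -(E2G0 F * y) i j := fun i j => by rw [h2]; rfl
  have a01 := c 0 1
  rw [(yG_apply y 0).2.1, (Gy_apply y 1).1] at a01
  have a02 := c 0 2
  rw [(yG_apply y 0).2.2.1, (Gy_apply y 2).1] at a02
  have a03 := c 0 3
  rw [(yG_apply y 0).2.2.2, (Gy_apply y 3).1] at a03
  have a23 := c 2 3
  rw [(yG_apply y 2).2.2.2, (Gy_apply y 3).2.2.1] at a23
  obtain ⟨u, hu⟩ : ∃ u, u = y 0 2 := ⟨_, rfl⟩
  obtain ⟨v, hv⟩ : ∃ v, v = y 0 3 := ⟨_, rfl⟩
  have v00 : y 0 0 = 0 := by linear_combination (-1 : F) * a01 + s11 + y 0 0 * h30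
  have v01 : y 0 1 = 0 := s01
  have v02 : y 0 2 = u := hu.symm
  have v03 : y 0 3 = v := hv.symm
  have v10 : y 1 0 = 0 := s10
  have v11 : y 1 1 = 0 := by rw [s11, v00]
  have v12 : y 1 2 = v := by rw [hv]; linear_combination a02
  have v13 : y 1 3 = -u := by rw [hu]; linear_combination a03
  have v22 : y 2 2 = 0 := by linear_combination (-1 : F) * a23 + s33 + y 2 2 * h30
  have v20 : y 2 0 = -u := by rw [s20, v13]
  have v21 : y 2 1 = -v := by rw [s21, v03]
  have v23 : y 2 3 = 0 := s23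
  have v30 : y 3 0 = -v := by rw [s30, v12]
  have v31 : y 3 1 = u := by rw [s31, v02]
  have v32 : y 3 2 = 0 := s32
  have v33 : y 3 3 = 0 := by rw [s33, v22]
  have k : ∀ i j, (y * y) i j = (1 : Matrix (Fin 4) (Fin 4) F) i j := fun i j => by rw [h3]
  have k00 := k 0 0
  rw [Matrix.mul_apply, Fin.sum_univ_four, v00, v01, v02, v03, v10, v20, v30] at k00
  simp only [Matrix.one_apply_eq] at k00
  rcases tri hq u with rfl | rfl | rfl <;> rcases tri hq v with rfl | rfl | rfl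
  · exfalso
    have : (1 : F) = 0 := by linear_combination -k00
    exact one_ne_zero this
  · exfalso
    have : (1 : F) = 0 := by linear_combination k00 + h30
    exact one_ne_zero this
  · exfalso
    have : (1 : F) = 0 := by linear_combination k00 + h30
    exact one_ne_zero this
  · exfalso
    have : (1 : F) = 0 := by linear_combination k00 + h30
    exact one_ne_zero this
  · refine ⟨1, Or.inl rfl, Or.inr (Or.inr (Or.inr (Or.inr (Or.inl ?_))))⟩
    apply mat_ext
    simp [mU, v00, v01, v02, v03, v10, v11, v12, v13, v20, v21, v22, v23, v30, v31, v32, v33]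
  · refine ⟨-1, Or.inr rfl, Or.inr (Or.inr (Or.inr (Or.inr (Or.inr ?_))))⟩
    apply mat_ext
    simp [mW, v00, v01, v02, v03, v10, v11, v12, v13, v20, v21, v22, v23, v30, v31, v32, v33]
  · exfalso
    have : (1 : F) = 0 := by linear_combination k00 + h30
    exact one_ne_zero this
  · refine ⟨1, Or.inl rfl, Or.inr (Or.inr (Or.inr (Or.inr (Or.inr ?_))))⟩
    apply mat_ext
    simp [mW, v00, v01, v02, v03, v10, v11, v12, v13, v20, v21, v22, v23, v30, v31, v32, v33]
  · refine ⟨-1, Or.inr rfl, Or.inr (Or.inr (Or.inr (Or.inr (Or.inl ?_))))⟩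
    apply mat_ext
    simp [mU, v00, v01, v02, v03, v10, v11, v12, v13, v20, v21, v22, v23, v30, v31, v32, v33]

/-- the twelve involutions of `N₀` -/
theorem invol_class (hq : Fintype.card F = 3) (y : Matrix (Fin 4) (Fin 4) F)
    (h1 : yᵀ * E2G0 F * y = E2G0 F)
    (h2 : y * E2j0 F = E2j0 F * y ∨ y * E2j0 F = -(E2j0 F * y)) (h3 : y * y = 1) :
    ∃ ε : F, (ε = 1 ∨ ε = -1) ∧ (y = ε • (1 : Matrix (Fin 4) (Fin 4) F) ∨ y = ε • mD F ∨
      y = ε • mX F ∨ y = ε • mT F ∨ y = ε • mU F ∨ y = ε • mW F) := by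
  have h4 : yᵀ * E2G0 F = E2G0 F * y := by
    calc yᵀ * E2G0 F = yᵀ * E2G0 F * (y * y) := by rw [h3, Matrix.mul_one]
      _ = yᵀ * E2G0 F * y * y := (Matrix.mul_assoc _ _ _).symm
      _ = E2G0 F * y := by rw [h1]
  rw [j0_eq] at h2
  rcases h2 with h | h
  · rw [Matrix.mul_neg, Matrix.neg_mul] at h
    exact invol_comm hq y h4 (neg_injective h) h3
  · rw [Matrix.mul_neg, Matrix.neg_mul, neg_neg] at h
    refine invol_anti hq y h4 ?_ h3
    rw [← h, neg_neg]

omit [Fintype F] in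
theorem j0_sq : E2j0 F * E2j0 F = -1 := by
  rw [j0_eq, Matrix.neg_mul, Matrix.mul_neg, neg_neg, G0_sq]

/-- the group `N₀` of isometries of `G₀` commuting or anticommuting with `j₀` -/
def N0 (F : Type*) [Field F] : Subgroup (GL (Fin 4) F) where
  carrier := {g | g.1ᵀ * E2G0 F * g.1 = E2G0 F ∧
    (g.1 * E2j0 F = E2j0 F * g.1 ∨ g.1 * E2j0 F = -(E2j0 F * g.1))}
  mul_mem' := by
    rintro a b ⟨ha, ha'⟩ ⟨hb, hb'⟩
    refine ⟨?_, ?_⟩
    · rw [Units.val_mul, Matrix.transpose_mul]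
      calc b.1ᵀ * a.1ᵀ * E2G0 F * (a.1 * b.1) = b.1ᵀ * (a.1ᵀ * E2G0 F * a.1) * b.1 := by
            simp only [Matrix.mul_assoc]
        _ = E2G0 F := by rw [ha, hb]
    · rw [Units.val_mul]
      rcases ha' with ha' | ha' <;> rcases hb' with hb' | hb'
      · left
        rw [Matrix.mul_assoc, hb', ← Matrix.mul_assoc, ha', Matrix.mul_assoc]
      · right
        rw [Matrix.mul_assoc, hb', Matrix.mul_neg, ← Matrix.mul_assoc, ha', Matrix.mul_assoc]
      · right
        rw [Matrix.mul_assoc, hb', ← Matrix.mul_assoc, ha', Matrix.neg_mul, Matrix.mul_assoc]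
      · left
        rw [Matrix.mul_assoc, hb', Matrix.mul_neg, ← Matrix.mul_assoc, ha', Matrix.neg_mul,
          neg_neg, Matrix.mul_assoc]
  one_mem' := by
    refine ⟨?_, Or.inl ?_⟩
    · rw [Units.val_one, Matrix.transpose_one, Matrix.one_mul, Matrix.mul_one]
    · rw [Units.val_one, Matrix.one_mul, Matrix.mul_one]
  inv_mem' := by
    rintro a ⟨ha, ha'⟩
    have h1 : a.1 * (a⁻¹ : GL (Fin 4) F).1 = 1 := by
      rw [← Units.val_mul, mul_inv_cancel, Units.val_one]
    have h2 : (a⁻¹ : GL (Fin 4) F).1 * a.1 = 1 := by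
      rw [← Units.val_mul, inv_mul_cancel, Units.val_one]
    refine ⟨?_, ?_⟩
    · calc (a⁻¹ : GL (Fin 4) F).1ᵀ * E2G0 F * (a⁻¹ : GL (Fin 4) F).1
          = (a⁻¹ : GL (Fin 4) F).1ᵀ * (a.1ᵀ * E2G0 F * a.1) * (a⁻¹ : GL (Fin 4) F).1 := by
            rw [ha]
        _ = (a.1 * (a⁻¹ : GL (Fin 4) F).1)ᵀ * E2G0 F * (a.1 * (a⁻¹ : GL (Fin 4) F).1) := by
            rw [Matrix.transpose_mul]
            simp only [Matrix.mul_assoc]
        _ = E2G0 F := by rw [h1, Matrix.transpose_one, Matrix.one_mul, Matrix.mul_one]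
    · have key : ∀ J : Matrix (Fin 4) (Fin 4) F, a.1 * E2j0 F = J * a.1 →
          (a⁻¹ : GL (Fin 4) F).1 * J = E2j0 F * (a⁻¹ : GL (Fin 4) F).1 := by
        intro J hJ
        calc (a⁻¹ : GL (Fin 4) F).1 * J = (a⁻¹ : GL (Fin 4) F).1 * (J * a.1) *
              (a⁻¹ : GL (Fin 4) F).1 := by
              rw [Matrix.mul_assoc, Matrix.mul_assoc, h1, Matrix.mul_one]
          _ = (a⁻¹ : GL (Fin 4) F).1 * (a.1 * E2j0 F) * (a⁻¹ : GL (Fin 4) F).1 := by rw [hJ]
          _ = E2j0 F * (a⁻¹ : GL (Fin 4) F).1 := by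
              rw [← Matrix.mul_assoc, h2, Matrix.one_mul]
      rcases ha' with ha' | ha'
      · left
        exact key _ ha'
      · right
        have h3 := key (-E2j0 F) (by rw [ha', Matrix.neg_mul])
        rw [Matrix.mul_neg] at h3
        rw [← h3, neg_neg]

/-- from `g j₀ g⁻¹ = a + b j₀` to `g j₀ = ± j₀ g` -/
theorem comm_of_conj (hq : Fintype.card F = 3) (g : GL (Fin 4) F) (a b : F)
    (hab : g.1 * E2j0 F * (g⁻¹ : GL (Fin 4) F).1 =
      a • (1 : Matrix (Fin 4) (Fin 4) F) + b • E2j0 F) :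
    g.1 * E2j0 F = E2j0 F * g.1 ∨ g.1 * E2j0 F = -(E2j0 F * g.1) := by
  have h30 := three_eq_zero hq
  have h2 : (g⁻¹ : GL (Fin 4) F).1 * g.1 = 1 := by
    rw [← Units.val_mul, inv_mul_cancel, Units.val_one]
  have h1 : g.1 * (g⁻¹ : GL (Fin 4) F).1 = 1 := by
    rw [← Units.val_mul, mul_inv_cancel, Units.val_one]
  have hC : (g.1 * E2j0 F * (g⁻¹ : GL (Fin 4) F).1) * (g.1 * E2j0 F * (g⁻¹ : GL (Fin 4) F).1)
      = -1 := by
    calc (g.1 * E2j0 F * (g⁻¹ : GL (Fin 4) F).1) * (g.1 * E2j0 F * (g⁻¹ : GL (Fin 4) F).1)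
        = g.1 * E2j0 F * ((g⁻¹ : GL (Fin 4) F).1 * g.1) * E2j0 F * (g⁻¹ : GL (Fin 4) F).1 := by
          simp only [Matrix.mul_assoc]
      _ = g.1 * (E2j0 F * E2j0 F) * (g⁻¹ : GL (Fin 4) F).1 := by
          rw [h2, Matrix.mul_one]
          simp only [Matrix.mul_assoc]
      _ = -1 := by rw [j0_sq, Matrix.mul_neg, Matrix.mul_one, Matrix.neg_mul, h1]
  rw [hab] at hC
  have e00 : a * a - b * b = -1 := by
    have h := congrFun (congrFun hC 0) 0
    simp [E2j0, Matrix.mul_apply, Fin.sum_univ_four] at h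
    linear_combination h
  have e10 : b * a + a * b = 0 := by
    have h := congrFun (congrFun hC 1) 0
    simp [E2j0, Matrix.mul_apply, Fin.sum_univ_four] at h
    linear_combination h
  have hab0 : a * b = 0 := by linear_combination (a * b) * h30 - e10
  have hright : g.1 * E2j0 F = (a • (1 : Matrix (Fin 4) (Fin 4) F) + b • E2j0 F) * g.1 := by
    rw [← hab, Matrix.mul_assoc, h2, Matrix.mul_one]
  rcases mul_eq_zero.mp hab0 with ha | hb
  · subst ha
    have hb2 : b * b = 1 := by linear_combination -e00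
    rcases mul_self_eq_one_iff.mp hb2 with rfl | rfl
    · left
      rw [hright, zero_smul, zero_add, one_smul]
    · right
      rw [hright, zero_smul, zero_add, neg_smul, one_smul, Matrix.neg_mul]
  · subst hb
    exfalso
    rcases sq_cases hq a with h | h
    · have : (1 : F) = 0 := by linear_combination e00 - h
      exact one_ne_zero this
    · have : (1 : F) = 0 := by linear_combination h - e00 + h30
      exact one_ne_zero this

/-- the normaliser clause of `E2S`, for any subgroup generated by involutions of `N₀` and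
containing the twelve involutions of `N₀` -/
theorem normalizer_of (hq : Fintype.card F = 3) (R₀ : Subgroup (GL (Fin 4) F))
    (S : Set (GL (Fin 4) F)) (hgen : R₀ ≤ Subgroup.closure S)
    (hS : ∀ x ∈ S, x.1ᵀ * E2G0 F * x.1 = E2G0 F ∧
      (x.1 * E2j0 F = E2j0 F * x.1 ∨ x.1 * E2j0 F = -(E2j0 F * x.1)) ∧ x.1 * x.1 = 1)
    (hmem : ∀ y : GL (Fin 4) F, ∀ ε : F, (ε = 1 ∨ ε = -1) →
      (y.1 = ε • (1 : Matrix (Fin 4) (Fin 4) F) ∨ y.1 = ε • mD F ∨ y.1 = ε • mX F ∨
        y.1 = ε • mT F ∨ y.1 = ε • mU F ∨ y.1 = ε • mW F) → y ∈ R₀) :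
    ∀ g : GL (Fin 4) F, g.1ᵀ * E2G0 F * g.1 = E2G0 F →
      (∃ a b : F, g.1 * E2j0 F * (g⁻¹ : GL (Fin 4) F).1 =
        a • (1 : Matrix (Fin 4) (Fin 4) F) + b • E2j0 F) →
      g ∈ subgroupNormalizer R₀ := by
  -- conjugation by an element of `N₀` maps `R₀` into itself
  have key : ∀ g ∈ N0 F, ∀ x ∈ R₀, g * x * g⁻¹ ∈ R₀ := by
    intro g hg x hx
    have hle : Subgroup.closure S ≤ R₀.comap (MulAut.conj g).toMonoidHom := by
      rw [Subgroup.closure_le]
      intro s hs
      obtain ⟨hs1, hs2, hs3⟩ := hS s hs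
      have hsN : s ∈ N0 F := ⟨hs1, hs2⟩
      have hy : g * s * g⁻¹ ∈ N0 F := (N0 F).mul_mem ((N0 F).mul_mem hg hsN) ((N0 F).inv_mem hg)
      have hy2 : (g * s * g⁻¹ : GL (Fin 4) F).1 * (g * s * g⁻¹ : GL (Fin 4) F).1 = 1 := by
        have hs3' : s * s = 1 := Units.ext hs3
        rw [← Units.val_mul]
        have : g * s * g⁻¹ * (g * s * g⁻¹) = 1 := by
          calc g * s * g⁻¹ * (g * s * g⁻¹) = g * (s * s) * g⁻¹ := by group
            _ = 1 := by rw [hs3']; group
        rw [this, Units.val_one]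
      obtain ⟨ε, hε, hdisj⟩ := invol_class hq _ hy.1 hy.2 hy2
      exact hmem _ ε hε hdisj
    exact hle (hgen hx)
  intro g hg1 hg2
  obtain ⟨a, b, hab⟩ := hg2
  have hgN : g ∈ N0 F := ⟨hg1, comm_of_conj hq g a b hab⟩
  unfold subgroupNormalizer
  rw [Subgroup.mem_normalizer_iff]
  intro x
  constructor
  · intro hx
    exact key g hgN x hx
  · intro hx
    have h := key g⁻¹ ((N0 F).inv_mem hgN) _ hx
    have h3 : g⁻¹ * (g * x * g⁻¹) * g⁻¹⁻¹ = x := by group
    rwa [h3] at h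

/-! ### the generating involutions as elements of `GL` -/

theorem mD_sq (hq : Fintype.card F = 3) : mD F * mD F = 1 := by
  have h30 := three_eq_zero hq
  ext i j
  fin_cases i <;> fin_cases j <;> simp [mD, Matrix.mul_apply, Fin.sum_univ_four]

theorem mX_sq (hq : Fintype.card F = 3) : mX F * mX F = 1 := by
  have h30 := three_eq_zero hq
  ext i j
  fin_cases i <;> fin_cases j <;> simp [mX, Matrix.mul_apply, Fin.sum_univ_four]

theorem mT_sq (hq : Fintype.card F = 3) : mT F * mT F = 1 := by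
  have h30 := three_eq_zero hq
  ext i j
  fin_cases i <;> fin_cases j <;> simp [mT, Matrix.mul_apply, Fin.sum_univ_four]

theorem mU_sq (hq : Fintype.card F = 3) : mU F * mU F = 1 := by
  have h30 := three_eq_zero hq
  ext i j
  fin_cases i <;> fin_cases j <;> simp [mU, Matrix.mul_apply, Fin.sum_univ_four] <;>
    first
      | linear_combination (-1 : F) * h30
      | linear_combination (1 : F) * h30
      | linear_combination (0 : F) * h30

theorem mD_form (hq : Fintype.card F = 3) : (mD F)ᵀ * E2G0 F * mD F = E2G0 F := by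
  have h30 := three_eq_zero hq
  ext i j
  fin_cases i <;> fin_cases j <;>
    simp [mD, E2G0, Matrix.mul_apply, Fin.sum_univ_four]

theorem mX_form (hq : Fintype.card F = 3) : (mX F)ᵀ * E2G0 F * mX F = E2G0 F := by
  have h30 := three_eq_zero hq
  ext i j
  fin_cases i <;> fin_cases j <;>
    simp [mX, E2G0, Matrix.mul_apply, Fin.sum_univ_four]

theorem mT_form (hq : Fintype.card F = 3) : (mT F)ᵀ * E2G0 F * mT F = E2G0 F := by
  have h30 := three_eq_zero hq
  ext i j
  fin_cases i <;> fin_cases j <;>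
    simp [mT, E2G0, Matrix.mul_apply, Fin.sum_univ_four]

theorem mU_form (hq : Fintype.card F = 3) : (mU F)ᵀ * E2G0 F * mU F = E2G0 F := by
  have h30 := three_eq_zero hq
  ext i j
  fin_cases i <;> fin_cases j <;>
    simp [mU, E2G0, Matrix.mul_apply, Fin.sum_univ_four] <;>
    first
      | linear_combination (-1 : F) * h30
      | linear_combination (1 : F) * h30
      | linear_combination (0 : F) * h30

theorem mD_comm : mD F * E2j0 F = E2j0 F * mD F := by
  ext i j
  fin_cases i <;> fin_cases j <;> simp [mD, E2j0, Matrix.mul_apply, Fin.sum_univ_four]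

theorem mX_comm : mX F * E2j0 F = E2j0 F * mX F := by
  ext i j
  fin_cases i <;> fin_cases j <;> simp [mX, E2j0, Matrix.mul_apply, Fin.sum_univ_four]

theorem mT_comm : mT F * E2j0 F = E2j0 F * mT F := by
  ext i j
  fin_cases i <;> fin_cases j <;> simp [mT, E2j0, Matrix.mul_apply, Fin.sum_univ_four]

theorem mU_anti : mU F * E2j0 F = -(E2j0 F * mU F) := by
  ext i j
  fin_cases i <;> fin_cases j <;> simp [mU, E2j0, Matrix.mul_apply, Fin.sum_univ_four]

/-- `D` as an element of `GL` -/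
def gD (hq : Fintype.card F = 3) : GL (Fin 4) F := ⟨mD F, mD F, mD_sq hq, mD_sq hq⟩

/-- `X` as an element of `GL` -/
def gX (hq : Fintype.card F = 3) : GL (Fin 4) F := ⟨mX F, mX F, mX_sq hq, mX_sq hq⟩

/-- `T` as an element of `GL` -/
def gT (hq : Fintype.card F = 3) : GL (Fin 4) F := ⟨mT F, mT F, mT_sq hq, mT_sq hq⟩

/-- `U` as an element of `GL` -/
def gU (hq : Fintype.card F = 3) : GL (Fin 4) F := ⟨mU F, mU F, mU_sq hq, mU_sq hq⟩

/-- the normaliser clause of `E2S` for a subgroup generated by `D, X, T, U` -/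
theorem normalizer_gens (hq : Fintype.card F = 3) (R₀ : Subgroup (GL (Fin 4) F))
    (hgen : R₀ ≤ Subgroup.closure {gD hq, gX hq, gT hq, gU hq})
    (hmem : ∀ y : GL (Fin 4) F, ∀ ε : F, (ε = 1 ∨ ε = -1) →
      (y.1 = ε • (1 : Matrix (Fin 4) (Fin 4) F) ∨ y.1 = ε • mD F ∨ y.1 = ε • mX F ∨
        y.1 = ε • mT F ∨ y.1 = ε • mU F ∨ y.1 = ε • mW F) → y ∈ R₀) :
    ∀ g : GL (Fin 4) F, g.1ᵀ * E2G0 F * g.1 = E2G0 F →
      (∃ a b : F, g.1 * E2j0 F * (g⁻¹ : GL (Fin 4) F).1 =
        a • (1 : Matrix (Fin 4) (Fin 4) F) + b • E2j0 F) →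
      g ∈ subgroupNormalizer R₀ := by
  refine normalizer_of hq R₀ _ hgen ?_ hmem
  intro x hx
  rcases hx with rfl | rfl | rfl | rfl
  · exact ⟨mD_form hq, Or.inl mD_comm, mD_sq hq⟩
  · exact ⟨mX_form hq, Or.inl mX_comm, mX_sq hq⟩
  · exact ⟨mT_form hq, Or.inl mT_comm, mT_sq hq⟩
  · exact ⟨mU_form hq, Or.inr mU_anti, mU_sq hq⟩

end Cfsg.Agent.Lib.Helper37.E2SN
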