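import Mathlib
import Cfsg.Prelude.Def_GeometricClasses
import Cfsg.Prelude.Def_LieClassical
import Cfsg.Agent.Lib.Helper54.SP4OE2Defs
import Cfsg.Agent.Lib.Helper84.SP4OE2SDefs
import Cfsg.Agent.Lib.Helper37.SP4OE2SN

/-! Project SP4O / piece E2S, sub-piece NRM (helper37): every isometry of `E2G0` normalising
`F[j0]` normalises `E2SR0 F`.  Via `Helper37.E2SN.normalizer_gens` (the twelve involutions of
`N₀` generate `R0`). -/

set_option autoImplicit false

namespace Cfsg.Agent.Lib.Helper54.SP4O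

open Matrix Cfsg.Geo
open Cfsg.Agent.Lib.Helper37.E2SN

variable {F : Type*} [Field F] [Fintype F]

omit [Fintype F] in
theorem E2SNRM_g1 : mD F * mT F = E2Sg1 F := by
  ext i j
  fin_cases i <;> fin_cases j <;> simp [mD, mT, E2Sg1, Matrix.mul_apply, Fin.sum_univ_four]

omit [Fintype F] in
theorem E2SNRM_g4 : mD F * mU F = E2Sg4 F := by
  ext i j
  fin_cases i <;> fin_cases j <;> simp [mD, mU, E2Sg4, Matrix.mul_apply, Fin.sum_univ_four]

omit [Fintype F] in
theorem E2SNRM_dx : mD F * mX F * (mD F * mX F) = -1 := by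
  have h1 : mD F * mX F = !![0, 0, 1, 0; 0, 0, 0, 1; -1, 0, 0, 0; 0, -1, 0, 0] := by
    ext i j
    fin_cases i <;> fin_cases j <;> simp [mD, mX, Matrix.mul_apply, Fin.sum_univ_four]
  rw [h1]
  ext i j
  fin_cases i <;> fin_cases j <;> simp [Matrix.mul_apply, Fin.sum_univ_four]

omit [Fintype F] in
theorem E2SNRM_w : mD F * mX F * (mT F * mU F) = mW F := by
  have h1 : mD F * mX F = !![0, 0, 1, 0; 0, 0, 0, 1; -1, 0, 0, 0; 0, -1, 0, 0] := by
    ext i j
    fin_cases i <;> fin_cases j <;> simp [mD, mX, Matrix.mul_apply, Fin.sum_univ_four]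
  have h2 : mT F * mU F = !![-1, 1, 0, 0; 1, 1, 0, 0; 0, 0, -1, 1; 0, 0, 1, 1] := by
    ext i j
    fin_cases i <;> fin_cases j <;> simp [mT, mU, Matrix.mul_apply, Fin.sum_univ_four]
  rw [h1, h2]
  ext i j
  fin_cases i <;> fin_cases j <;> simp [mW, Matrix.mul_apply, Fin.sum_univ_four]

/-- NRM: every isometry of `E2G0` normalising `F[j0]` normalises `R0`. -/
theorem E2S_nrm (hq : Fintype.card F = 3) :
    ∀ g : GL (Fin 4) F, g.1ᵀ * E2G0 F * g.1 = E2G0 F →
      (∃ a b : F, g.1 * E2j0 F * (g⁻¹ : GL (Fin 4) F).1 =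
        a • (1 : Matrix (Fin 4) (Fin 4) F) + b • E2j0 F) →
      g ∈ subgroupNormalizer (E2SR0 F) := by
  -- the generators of `E2SR0` in terms of `D, X, T, U`
  have hx1 : (gD hq * gT hq : GL (Fin 4) F).1 = E2Sg1 F := by
    rw [Units.val_mul]
    exact E2SNRM_g1
  have hx2 : (gT hq : GL (Fin 4) F).1 = E2Sg2 F := rfl
  have hx3 : (gX hq : GL (Fin 4) F).1 = E2Sg3 F := rfl
  have hx4 : (gD hq * gU hq : GL (Fin 4) F).1 = E2Sg4 F := by
    rw [Units.val_mul]
    exact E2SNRM_g4
  have m1 : gD hq * gT hq ∈ E2SR0 F := Subgroup.subset_closure (Or.inl hx1)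
  have mT' : gT hq ∈ E2SR0 F := Subgroup.subset_closure (Or.inr (Or.inl hx2))
  have mX' : gX hq ∈ E2SR0 F := Subgroup.subset_closure (Or.inr (Or.inr (Or.inl hx3)))
  have m4 : gD hq * gU hq ∈ E2SR0 F := Subgroup.subset_closure (Or.inr (Or.inr (Or.inr hx4)))
  have mD' : gD hq ∈ E2SR0 F := by
    have h : gD hq = (gD hq * gT hq) * (gT hq)⁻¹ := by group
    rw [h]
    exact (E2SR0 F).mul_mem m1 ((E2SR0 F).inv_mem mT')
  have mU' : gU hq ∈ E2SR0 F := by
    have h : gU hq = (gD hq)⁻¹ * (gD hq * gU hq) := by group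
    rw [h]
    exact (E2SR0 F).mul_mem ((E2SR0 F).inv_mem mD') m4
  -- `-1` and `W`
  obtain ⟨z, hz, hzmem⟩ : ∃ z : GL (Fin 4) F, z.1 = -1 ∧ z ∈ E2SR0 F := by
    refine ⟨gD hq * gX hq * (gD hq * gX hq), ?_, ?_⟩
    · rw [Units.val_mul, Units.val_mul]
      exact E2SNRM_dx
    · exact (E2SR0 F).mul_mem ((E2SR0 F).mul_mem mD' mX') ((E2SR0 F).mul_mem mD' mX')
  obtain ⟨w, hw, hwmem⟩ : ∃ w : GL (Fin 4) F, w.1 = mW F ∧ w ∈ E2SR0 F := by
    refine ⟨gD hq * gX hq * (gT hq * gU hq), ?_, ?_⟩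
    · rw [Units.val_mul, Units.val_mul, Units.val_mul]
      exact E2SNRM_w
    · exact (E2SR0 F).mul_mem ((E2SR0 F).mul_mem mD' mX') ((E2SR0 F).mul_mem mT' mU')
  have hclose : ∀ m : GL (Fin 4) F, m ∈ E2SR0 F → ∀ y : GL (Fin 4) F, ∀ ε : F,
      (ε = 1 ∨ ε = -1) → y.1 = ε • m.1 → y ∈ E2SR0 F := by
    intro m hm y ε hε hy
    rcases hε with rfl | rfl
    · have h : y = m := Units.ext (by rw [hy, one_smul])
      rw [h]
      exact hm
    · have h : y = z * m := Units.ext (by
        rw [hy, Units.val_mul, hz, neg_smul, one_smul, Matrix.neg_mul, Matrix.one_mul])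
      rw [h]
      exact (E2SR0 F).mul_mem hzmem hm
  refine normalizer_gens hq (E2SR0 F) ?_ ?_
  · unfold E2SR0
    rw [Subgroup.closure_le]
    rintro x (h | h | h | h)
    · have hx : x = gD hq * gT hq := Units.ext (h.trans hx1.symm)
      rw [hx]
      exact Subgroup.mul_mem _ (Subgroup.subset_closure (Set.mem_insert _ _))
        (Subgroup.subset_closure (Set.mem_insert_of_mem _ (Set.mem_insert_of_mem _
          (Set.mem_insert _ _))))
    · have hx : x = gT hq := Units.ext (h.trans hx2.symm)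
      rw [hx]
      exact Subgroup.subset_closure (Set.mem_insert_of_mem _ (Set.mem_insert_of_mem _
          (Set.mem_insert _ _)))
    · have hx : x = gX hq := Units.ext (h.trans hx3.symm)
      rw [hx]
      exact Subgroup.subset_closure (Set.mem_insert_of_mem _ (Set.mem_insert _ _))
    · have hx : x = gD hq * gU hq := Units.ext (h.trans hx4.symm)
      rw [hx]
      exact Subgroup.mul_mem _ (Subgroup.subset_closure (Set.mem_insert _ _))
        (Subgroup.subset_closure (Set.mem_insert_of_mem _ (Set.mem_insert_of_mem _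
          (Set.mem_insert_of_mem _ (Set.mem_singleton _)))))
  · intro y ε hε hdisj
    rcases hdisj with h | h | h | h | h | h
    · exact hclose 1 (E2SR0 F).one_mem y ε hε (by rw [Units.val_one]; exact h)
    · exact hclose (gD hq) mD' y ε hε h
    · exact hclose (gX hq) mX' y ε hε h
    · exact hclose (gT hq) mT' y ε hε h
    · exact hclose (gU hq) mU' y ε hε h
    · exact hclose w hwmem y ε hε (by rw [hw]; exact h)

end Cfsg.Agent.Lib.Helper54.SP4O
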