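import Mathlib
import Cfsg.Prelude.Def_GeometricClasses
import Cfsg.Prelude.Def_LieClassical
import Cfsg.Agent.Lib.Helper54.SP4OE2Defs
import Cfsg.Agent.Lib.Helper84.SP4OE2SDefs
import Cfsg.Agent.Lib.Helper37.SP4OE2SN
import Cfsg.Agent.Lib.Helper37.SP4OE2SNRM

/-! Project SP4O / piece E2S, sub-piece AI (helper37): `E2SR0 F` is absolutely irreducible
(its matrices span the full matrix algebra: `E₀₀ = 1 + D + TU + DXU + DTU + XU` in
characteristic 3, and the other matrix units are `L E₀₀ R` with `L, R` in the group). -/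

set_option autoImplicit false

namespace Cfsg.Agent.Lib.Helper54.SP4O

open Matrix Cfsg.Geo
open Cfsg.Agent.Lib.Helper37.E2SN

variable {F : Type*} [Field F] [Fintype F]

omit [Fintype F] in
/-- a group of matrices spanning the matrix algebra is absolutely irreducible
(copy of `Helper44.O9.TIR_absIrr_of_span`) -/
theorem E2SAI_absIrr_of_span {d : ℕ} (R : Subgroup (GL (Fin d) F))
    (hspan : Submodule.span F (matrixSet R) = ⊤) : ActsAbsolutelyIrreducibly (matrixSet R) := by
  classical
  constructor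
  · intro W hW
    have hall : ∀ M : Matrix (Fin d) (Fin d) F, ∀ w ∈ W, M *ᵥ w ∈ W := by
      intro M
      have hM : M ∈ Submodule.span F (matrixSet R) := by
        rw [hspan]
        trivial
      induction hM using Submodule.span_induction with
      | mem s hs =>
        intro w hw
        have h1 := hW s hs (Submodule.mem_map_of_mem hw)
        rwa [Matrix.toLin'_apply] at h1
      | zero =>
        intro w hw
        rw [Matrix.zero_mulVec]
        exact W.zero_mem
      | add x y _ _ hx hy =>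
        intro w hw
        rw [Matrix.add_mulVec]
        exact W.add_mem (hx w hw) (hy w hw)
      | smul c x _ hx =>
        intro w hw
        rw [Matrix.smul_mulVec]
        exact W.smul_mem c (hx w hw)
    by_cases hbot : W = ⊥
    · left
      exact hbot
    · right
      obtain ⟨w, hw, hw0⟩ := (Submodule.ne_bot_iff W).mp hbot
      have hex : ∃ i, w i ≠ 0 := by
        by_contra hcon
        apply hw0
        funext i
        by_contra hne
        exact hcon ⟨i, hne⟩
      obtain ⟨i, hi⟩ := hex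
      rw [eq_top_iff]
      intro v _
      have hv : Matrix.vecMulVec v (Pi.single i (w i)⁻¹) *ᵥ w = v := by
        ext a
        simp only [Matrix.mulVec, dotProduct, Matrix.vecMulVec_apply]
        rw [Finset.sum_eq_single i]
        · rw [Pi.single_eq_same, mul_assoc, inv_mul_cancel₀ hi, mul_one]
        · intro b _ hb
          rw [Pi.single_eq_of_ne hb, mul_zero, zero_mul]
        · intro h
          exact absurd (Finset.mem_univ i) h
      rw [← hv]
      exact hall _ w hw
  · intro M hM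
    have hall : ∀ X : Matrix (Fin d) (Fin d) F, M * X = X * M := by
      intro X
      have hX : X ∈ Submodule.span F (matrixSet R) := by
        rw [hspan]
        trivial
      induction hX using Submodule.span_induction with
      | mem s hs => exact hM s hs
      | zero => rw [mul_zero, zero_mul]
      | add x y _ _ hx hy => rw [mul_add, add_mul, hx, hy]
      | smul c x _ hx => rw [Matrix.mul_smul, Matrix.smul_mul, hx]
    have h1 : M ∈ Set.range (Matrix.scalar (Fin d)) := by
      rw [Matrix.mem_range_scalar_iff_commute_single']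
      intro i j
      exact (hall _).symm
    obtain ⟨c, hc⟩ := h1
    refine ⟨c, ?_⟩
    rw [← hc, Matrix.smul_one_eq_diagonal]
    rfl

omit [Fintype F] in
theorem E2SAI_TU : mT F * mU F = !![-1, 1, 0, 0; 1, 1, 0, 0; 0, 0, -1, 1; 0, 0, 1, 1] := by
  ext i j
  fin_cases i <;> fin_cases j <;> simp [mT, mU, Matrix.mul_apply, Fin.sum_univ_four]

omit [Fintype F] in
theorem E2SAI_XU : mX F * mU F = !![-1, -1, 0, 0; -1, 1, 0, 0; 0, 0, 1, 1; 0, 0, 1, -1] := by
  ext i j
  fin_cases i <;> fin_cases j <;> simp [mX, mU, Matrix.mul_apply, Fin.sum_univ_four]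

omit [Fintype F] in
theorem E2SAI_DTU : mD F * (mT F * mU F) =
    !![-1, 1, 0, 0; 1, 1, 0, 0; 0, 0, 1, -1; 0, 0, -1, -1] := by
  rw [E2SAI_TU]
  ext i j
  fin_cases i <;> fin_cases j <;> simp [mD, Matrix.mul_apply, Fin.sum_univ_four]

omit [Fintype F] in
theorem E2SAI_DXU : mD F * (mX F * mU F) =
    !![-1, -1, 0, 0; -1, 1, 0, 0; 0, 0, -1, -1; 0, 0, -1, 1] := by
  rw [E2SAI_XU]
  ext i j
  fin_cases i <;> fin_cases j <;> simp [mD, Matrix.mul_apply, Fin.sum_univ_four]

omit [Fintype F] in
theorem E2SAI_XT : mX F * mT F = !![0, -1, 0, 0; 1, 0, 0, 0; 0, 0, 0, 1; 0, 0, -1, 0] := by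
  ext i j
  fin_cases i <;> fin_cases j <;> simp [mX, mT, Matrix.mul_apply, Fin.sum_univ_four]

omit [Fintype F] in
theorem E2SAI_TX : mT F * mX F = !![0, 1, 0, 0; -1, 0, 0, 0; 0, 0, 0, -1; 0, 0, 1, 0] := by
  ext i j
  fin_cases i <;> fin_cases j <;> simp [mX, mT, Matrix.mul_apply, Fin.sum_univ_four]

/-- the matrix unit `E₀₀` as a sum of six elements of the group (characteristic 3) -/
theorem E2SAI_E00 (hq : Fintype.card F = 3) :
    (Matrix.single 0 0 1 : Matrix (Fin 4) (Fin 4) F) =
      1 + mD F + mT F * mU F + mD F * (mX F * mU F) + mD F * (mT F * mU F) + mX F * mU F := by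
  have h30 := three_eq_zero hq
  rw [E2SAI_DTU, E2SAI_DXU, E2SAI_TU, E2SAI_XU]
  ext i j
  fin_cases i <;> fin_cases j <;>
    simp [mD, Matrix.single_apply, Matrix.add_apply, Matrix.one_apply] <;>
    first
      | linear_combination (1 : F) * h30
      | linear_combination (-1 : F) * h30
      | linear_combination (2 : F) * h30
      | linear_combination (-2 : F) * h30
      | linear_combination (0 : F) * h30

omit [Fintype F] in
theorem E2SAI_unit (L R : Matrix (Fin 4) (Fin 4) F) (i j : Fin 4)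
    (hL : ∀ a, L a 0 = if a = i then 1 else 0) (hR : ∀ b, R 0 b = if b = j then 1 else 0) :
    L * Matrix.single 0 0 1 * R = Matrix.single i j 1 := by
  ext a b
  have h1 : (L * (Matrix.single 0 0 1 : Matrix (Fin 4) (Fin 4) F) * R) a b = L a 0 * R 0 b := by
    simp [Matrix.mul_apply, Matrix.single_apply, Fin.sum_univ_four]
  rw [h1, hL, hR, Matrix.single_apply]
  by_cases ha : a = i <;> by_cases hb : b = j
  · subst ha hb
    simp
  · have hb' : ¬ j = b := fun h => hb h.symm
    simp [ha, hb, hb']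
  · have ha' : ¬ i = a := fun h => ha h.symm
    simp [ha, ha']
  · have ha' : ¬ i = a := fun h => ha h.symm
    simp [ha, ha']

/-- AI: `R0` is absolutely irreducible. -/
theorem E2S_ai (hq : Fintype.card F = 3) : ActsAbsolutelyIrreducibly (matrixSet (E2SR0 F)) := by
  classical
  apply E2SAI_absIrr_of_span
  -- membership of `D, X, T, U` in `E2SR0`
  have hx1 : (gD hq * gT hq : GL (Fin 4) F).1 = E2Sg1 F := by
    rw [Units.val_mul]
    exact E2SNRM_g1
  have hx2 : (gT hq : GL (Fin 4) F).1 = E2Sg2 F := rfl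
  have hx3 : (gX hq : GL (Fin 4) F).1 = E2Sg3 F := rfl
  have hx4 : (gD hq * gU hq : GL (Fin 4) F).1 = E2Sg4 F := by
    rw [Units.val_mul]
    exact E2SNRM_g4
  have m1 : gD hq * gT hq ∈ E2SR0 F := Subgroup.subset_closure (Or.inl hx1)
  have mT' : gT hq ∈ E2SR0 F := Subgroup.subset_closure (Or.inr (Or.inl hx2))
  have mX' : gX hq ∈ E2SR0 F := Subgroup.subset_closure (Or.inr (Or.inr (Or.inl hx3)))
  have m4 : gD hq * gU hq ∈ E2SR0 F := Subgroup.subset_closure (Or.inr (Or.inr (Or.inr hx4)))
  have mD' : gD hq ∈ E2SR0 F := by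
    have h : gD hq = (gD hq * gT hq) * (gT hq)⁻¹ := by group
    rw [h]
    exact (E2SR0 F).mul_mem m1 ((E2SR0 F).inv_mem mT')
  have mU' : gU hq ∈ E2SR0 F := by
    have h : gU hq = (gD hq)⁻¹ * (gD hq * gU hq) := by group
    rw [h]
    exact (E2SR0 F).mul_mem ((E2SR0 F).inv_mem mD') m4
  -- the span
  obtain ⟨A, hA⟩ : ∃ A : Submodule F (Matrix (Fin 4) (Fin 4) F),
      A = Submodule.span F (matrixSet (E2SR0 F)) := ⟨_, rfl⟩
  rw [← hA]
  have hin : ∀ g : GL (Fin 4) F, g ∈ E2SR0 F → g.1 ∈ A := by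
    intro g hg
    rw [hA]
    exact Submodule.subset_span ⟨g, hg, rfl⟩
  -- closure under multiplication
  have hmul1 : ∀ b ∈ matrixSet (E2SR0 F), ∀ a ∈ A, a * b ∈ A := by
    rintro b ⟨y, hy, rfl⟩ a ha
    rw [hA] at ha
    induction ha using Submodule.span_induction with
    | mem s hs =>
      obtain ⟨x, hx, rfl⟩ := hs
      have := hin (x * y) ((E2SR0 F).mul_mem hx hy)
      rwa [Units.val_mul] at this
    | zero =>
      rw [zero_mul]
      exact A.zero_mem
    | add u v _ _ hu hv =>
      rw [add_mul]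
      exact A.add_mem hu hv
    | smul c u _ hu =>
      rw [Matrix.smul_mul]
      exact A.smul_mem c hu
  have hmul : ∀ a ∈ A, ∀ b ∈ A, a * b ∈ A := by
    intro a ha b hb
    rw [hA] at hb
    induction hb using Submodule.span_induction with
    | mem s hs => exact hmul1 s hs a ha
    | zero =>
      rw [mul_zero]
      exact A.zero_mem
    | add u v _ _ hu hv =>
      rw [mul_add]
      exact A.add_mem hu hv
    | smul c u _ hu =>
      rw [Matrix.mul_smul]
      exact A.smul_mem c hu
  have hD : mD F ∈ A := hin _ mD'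
  have hX : mX F ∈ A := hin _ mX'
  have hT : mT F ∈ A := hin _ mT'
  have hU : mU F ∈ A := hin _ mU'
  have h1 : (1 : Matrix (Fin 4) (Fin 4) F) ∈ A := by
    have := hin 1 (E2SR0 F).one_mem
    rwa [Units.val_one] at this
  have hE : (Matrix.single 0 0 1 : Matrix (Fin 4) (Fin 4) F) ∈ A := by
    rw [E2SAI_E00 hq]
    exact A.add_mem (A.add_mem (A.add_mem (A.add_mem (A.add_mem h1 hD) (hmul _ hT _ hU))
      (hmul _ hD _ (hmul _ hX _ hU))) (hmul _ hD _ (hmul _ hT _ hU))) (hmul _ hX _ hU)
  have hLex : ∀ i : Fin 4, ∃ L : Matrix (Fin 4) (Fin 4) F, L ∈ A ∧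
      ∀ a, L a 0 = if a = i then 1 else 0 := by
    intro i
    fin_cases i
    · refine ⟨1, h1, fun a => ?_⟩
      fin_cases a <;> simp [Matrix.one_apply]
    · refine ⟨mX F * mT F, hmul _ hX _ hT, fun a => ?_⟩
      rw [E2SAI_XT]
      fin_cases a <;> simp
    · refine ⟨mX F, hX, fun a => ?_⟩
      fin_cases a <;> simp [mX]
    · refine ⟨mT F, hT, fun a => ?_⟩
      fin_cases a <;> simp [mT]
  have hRex : ∀ j : Fin 4, ∃ R : Matrix (Fin 4) (Fin 4) F, R ∈ A ∧
      ∀ b, R 0 b = if b = j then 1 else 0 := by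
    intro j
    fin_cases j
    · refine ⟨1, h1, fun b => ?_⟩
      fin_cases b <;> simp [Matrix.one_apply]
    · refine ⟨mT F * mX F, hmul _ hT _ hX, fun b => ?_⟩
      rw [E2SAI_TX]
      fin_cases b <;> simp
    · refine ⟨mX F, hX, fun b => ?_⟩
      fin_cases b <;> simp [mX]
    · refine ⟨mT F, hT, fun b => ?_⟩
      fin_cases b <;> simp [mT]
  have hunits : ∀ i j : Fin 4, (Matrix.single i j 1 : Matrix (Fin 4) (Fin 4) F) ∈ A := by
    intro i j
    obtain ⟨L, hL, hL'⟩ := hLex i
    obtain ⟨R, hR, hR'⟩ := hRex j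
    rw [← E2SAI_unit L R i j hL' hR']
    exact hmul _ (hmul _ hL _ hE) _ hR
  rw [eq_top_iff]
  intro M _
  rw [Matrix.matrix_eq_sum_single M]
  refine A.sum_mem (fun i _ => A.sum_mem (fun j _ => ?_))
  have h2 : (Matrix.single i j (M i j) : Matrix (Fin 4) (Fin 4) F) =
      M i j • Matrix.single i j 1 := by
    rw [Matrix.smul_single, smul_eq_mul, mul_one]
  rw [h2]
  exact A.smul_mem _ (hunits i j)

end Cfsg.Agent.Lib.Helper54.SP4O
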