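import Mathlib
import Cfsg.Prelude.Def_Classical
import Cfsg.Agent.Lib.Helper18.UEDefs

/-!
# Project UE (S2335, architect helper18): piece LEVEL (proof by helper37)

The level set `{u | hq σ K u = hq σ K u₀}` has at most `(q + 1) * |u₀^⊥|` elements.
-/

set_option autoImplicit false

namespace Cfsg.Agent.Lib.Helper18.UE

open Matrix

universe u

variable {F : Type u} [Field F] {m : ℕ}

private theorem uelevel_card_set {X : Type u} [Fintype X] (P : X → Prop) [DecidablePred P] :
    Nat.card {x : X | P x} = (Finset.univ.filter P).card := by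
  rw [← Fintype.card_subtype, ← Nat.card_eq_fintype_card]
  rfl

theorem card_level [Fintype F] {q : ℕ} (hF : Fintype.card F = q ^ 2) (σ : F →+* F)
    (hσ : ∀ x, σ x = x ^ q) (K : Matrix (Fin m) (Fin m) F) (hK : IsHerm σ K)
    (u₀ : Fin m → F) (hα : hq σ K u₀ ≠ 0)
    (hnorm : ∀ c : F, Nat.card {a : F | a * a ^ q = c} ≤ q + 1) :
    Nat.card {u : Fin m → F | hq σ K u = hq σ K u₀} ≤
      (q + 1) * Nat.card {w : Fin m → F | hB σ K w u₀ = 0} := by
  classical
  have hσσ : ∀ x, σ (σ x) = x := by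
    intro x
    rw [hσ, hσ, ← pow_mul, ← sq, ← hF, FiniteField.pow_card]
  have hσα : σ (hq σ K u₀) = hq σ K u₀ := by
    unfold hq
    exact hB_conj σ hσσ hK u₀ u₀
  have hfW : ∀ u : Fin m → F,
      hB σ K (u - (σ (hB σ K u u₀) / hq σ K u₀) • u₀) u₀ = 0 := by
    intro u
    have h2 : u - (σ (hB σ K u u₀) / hq σ K u₀) • u₀ =
        u + (-(σ (hB σ K u u₀) / hq σ K u₀)) • u₀ := by
      rw [neg_smul, sub_eq_add_neg]
    rw [h2, hB_add_left, hB_smul_left, map_neg, map_div₀, hσσ, hσα]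
    have h3 : hB σ K u₀ u₀ = hq σ K u₀ := rfl
    rw [h3]
    field_simp
    ring
  have hqdec : ∀ u : Fin m → F, hq σ K u =
      hq σ K (u - (σ (hB σ K u u₀) / hq σ K u₀) • u₀) +
        (σ (hB σ K u u₀) / hq σ K u₀) * σ (σ (hB σ K u u₀) / hq σ K u₀) * hq σ K u₀ := by
    intro u
    have hw := hfW u
    have hw' : hB σ K u₀ (u - (σ (hB σ K u u₀) / hq σ K u₀) • u₀) = 0 := by
      rw [← hB_conj σ hσσ hK (u - (σ (hB σ K u u₀) / hq σ K u₀) • u₀) u₀, hw, map_zero]
    have hdec : u = (u - (σ (hB σ K u u₀) / hq σ K u₀) • u₀) +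
        (σ (hB σ K u u₀) / hq σ K u₀) • u₀ := by
      rw [sub_add_cancel]
    conv_lhs => rw [hdec]
    rw [hq_add, hq_smul, hB_smul_right, hB_smul_left, hw, hw']
    ring
  rw [uelevel_card_set, uelevel_card_set]
  have h1 : (Finset.univ.filter (fun u : Fin m → F => hq σ K u = hq σ K u₀)).card ≤
      (q + 1) * ((Finset.univ.filter (fun u : Fin m → F => hq σ K u = hq σ K u₀)).image
        (fun u => u - (σ (hB σ K u u₀) / hq σ K u₀) • u₀)).card := by
    apply Finset.card_le_mul_card_image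
    intro w _
    refine le_trans ?_ (hnorm ((hq σ K u₀ - hq σ K w) / hq σ K u₀))
    rw [uelevel_card_set]
    refine Finset.card_le_card_of_injOn (fun u => σ (hB σ K u u₀) / hq σ K u₀) ?_ ?_
    · intro u hu
      rw [Finset.coe_filter] at hu
      obtain ⟨hu1, hu2⟩ := hu
      rw [Finset.mem_filter] at hu1
      have hu3 := hu1.2
      rw [Finset.coe_filter]
      refine ⟨Finset.mem_univ _, ?_⟩
      have h5 := hqdec u
      rw [hu3, hu2] at h5
      rw [← hσ]
      rw [eq_div_iff hα]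
      linear_combination -h5
    · intro u hu v hv huv
      rw [Finset.coe_filter] at hu hv
      have h6 : u - (σ (hB σ K u u₀) / hq σ K u₀) • u₀ =
          v - (σ (hB σ K v u₀) / hq σ K u₀) • u₀ := by
        rw [hu.2, hv.2]
      have huv' : σ (hB σ K u u₀) / hq σ K u₀ = σ (hB σ K v u₀) / hq σ K u₀ := huv
      rw [huv'] at h6
      exact sub_left_injective h6
  refine le_trans h1 (Nat.mul_le_mul_left _ (Finset.card_le_card ?_))
  intro w hw
  rw [Finset.mem_image] at hw
  obtain ⟨u, _, rfl⟩ := hw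
  rw [Finset.mem_filter]
  exact ⟨Finset.mem_univ _, hfW u⟩

end Cfsg.Agent.Lib.Helper18.UE
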